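import Cfsg.Agent.M23Nse48.Defs
import Cfsg.Agent.M23Nse26.Spec

/-!
# The counts of a group of order 10200960 with the counts of M₂₃
-/

set_option autoImplicit false

namespace Cfsg.Agent.M23Nse48

/-- What follows from the order and the set of counts. -/
theorem dat {G : Type*} [Group G] [Finite G] (hcard : Nat.card G = 10200960)
    (hnse : {c : ℕ | 0 < c ∧ ∃ n : ℕ, c = Nat.card {g : G // orderOf g = n}} =
      {c | c ∈ ([1, 3795, 56672, 318780, 680064, 850080, 1457280, 1275120, 1854720, 1360128,
        887040] : List ℕ)}) : Dat G := by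
  have hn : {c : ℕ | 0 < c ∧ ∃ n : ℕ, c = M22Nse38.sn G n} = {c | c ∈ M23Nse26.vals} := by
    refine hnse.trans (Set.ext fun c => ?_)
    simp [M23Nse26.vals]
  obtain ⟨hspec, h14, h6, -⟩ := M23Nse26.four_orders hcard hn
  exact
    { card := hcard
      simple := M23Nse26.simple hcard hn
      s2 := M23Nse26.s_two hcard hn
      s3 := M23Nse26.s_three hcard hn
      s5 := M23Nse26.s_five hcard hn
      s6 := h6
      s7 := M23Nse26.s_seven hcard hn
      s14 := h14
      s15 := M23Nse26.s_fifteen hcard hn
      spec := hspec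
      cz5 := fun g hg => M23Nse26.cent_card hcard hn (p := 5) (c := 15) (by simp) hg
      cz7 := fun g hg => M23Nse26.cent_seven hcard hn hg }

end Cfsg.Agent.M23Nse48
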