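import Mathlib

/-!
# A group with the order and counts of M₂₃: interfaces

`Dat` is what the counts give, `Local` the centralisers, `Act` the subgroup of index 253 and
`Orb` its orbits on the 253 cosets.
-/

set_option autoImplicit false

namespace Cfsg.Agent.M23Nse48

open Subgroup MulAction
open scoped Pointwise

/-- The number of elements of order `n`. -/
noncomputable def sn (G : Type*) [Group G] (n : ℕ) : ℕ := Nat.card {g : G // orderOf g = n}

/-- The centraliser of an element. -/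
abbrev cz {G : Type*} [Group G] (g : G) : Subgroup G := Subgroup.centralizer ({g} : Set G)

/-- What the counts give. -/
structure Dat (G : Type*) [Group G] : Prop where
  card : Nat.card G = 10200960
  simple : IsSimpleGroup G
  s2 : sn G 2 = 3795
  s3 : sn G 3 = 56672
  s5 : sn G 5 = 680064
  s6 : sn G 6 = 850080
  s7 : sn G 7 = 1457280
  s14 : sn G 14 = 1457280
  s15 : sn G 15 = 1360128
  spec : ∀ g : G, orderOf g ∈ ([1, 2, 3, 4, 5, 6, 7, 8, 11, 14, 15, 23] : List ℕ)
  cz5 : ∀ g : G, orderOf g = 5 → Nat.card (cz g) = 15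
  cz7 : ∀ g : G, orderOf g = 7 → Nat.card (cz g) = 14

/-- Centralisers of elements of orders two and three; `E t` is `O₂` of the centraliser of `t`. -/
structure Local (G : Type*) [Group G] where
  E : G → Subgroup G
  card_cz_two : ∀ t : G, orderOf t = 2 → Nat.card (cz t) = 2688
  card_cz_three : ∀ x : G, orderOf x = 3 → Nat.card (cz x) = 180
  conj_two : ∀ t u : G, orderOf t = 2 → orderOf u = 2 → ∃ g : G, g * t * g⁻¹ = u
  card_E : ∀ t : G, orderOf t = 2 → Nat.card (E t) = 16
  mem_E : ∀ t : G, orderOf t = 2 → t ∈ E t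
  sq_E : ∀ t : G, orderOf t = 2 → ∀ a ∈ E t, a ^ 2 = 1
  cent_E : ∀ t : G, orderOf t = 2 → centralizer (E t : Set G) = E t
  le_normalizer : ∀ t : G, orderOf t = 2 → cz t ≤ normalizer (E t : Set G)
  conj_E : ∀ g t : G, orderOf t = 2 → E (g * t * g⁻¹) = (E t).map (MulAut.conj g).toMonoidHom
  card_E_inf : ∀ t y : G, orderOf t = 2 → orderOf y = 3 → Commute t y → Nat.card ↥(E t ⊓ cz y) = 4

/-- The subgroup of index 253 with its map onto the alternating group of degree seven. -/
structure Act (G : Type*) [Group G] where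
  H : Subgroup G
  E : Subgroup G
  card_H : Nat.card H = 40320
  card_E : Nat.card E = 16
  E_le : E ≤ H
  sq : ∀ a ∈ E, a ^ 2 = 1
  norm : H = normalizer (E : Set G)
  cent : centralizer (E : Set G) = E
  cz_le : ∀ t ∈ E, t ≠ 1 → cz t ≤ H
  trans : ∀ a ∈ E, ∀ b ∈ E, a ≠ 1 → b ≠ 1 → ∃ h ∈ H, h * a * h⁻¹ = b
  ti : ∀ g : G, g ∉ H → E ⊓ E.map (MulAut.conj g).toMonoidHom = ⊥
  φ : H →* alternatingGroup (Fin 7)
  φ_surj : Function.Surjective φ
  φ_ker : φ.ker = E.subgroupOf H
  card_cz_three : ∀ x : G, orderOf x = 3 → Nat.card (cz x) = 180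

/-- The point `1` of the coset space. -/
abbrev Act.base {G : Type*} [Group G] (Γ : Act G) : G ⧸ Γ.H := QuotientGroup.mk 1

/-- The orbits of `H` on the 253 cosets: the base, 112 cosets over one point of the seven (blocks
meeting the base block in that point) and 140 over three. -/
structure Orb {G : Type*} [Group G] (Γ : Act G) where
  ι : G ⧸ Γ.H → Finset (Fin 7)
  ι_base : ι Γ.base = ∅
  ι_card : ∀ C : G ⧸ Γ.H, C ≠ Γ.base → (ι C).card = 1 ∨ (ι C).card = 3
  ι_smul : ∀ (h : Γ.H) (C : G ⧸ Γ.H),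
    ι ((h : G) • C) = (ι C).image (Γ.φ h : Equiv.Perm (Fin 7))
  card_fiber_one : ∀ s : Finset (Fin 7), s.card = 1 → Nat.card {C : G ⧸ Γ.H // ι C = s} = 16
  card_fiber_three : ∀ s : Finset (Fin 7), s.card = 3 → Nat.card {C : G ⧸ Γ.H // ι C = s} = 4
  fiber_trans : ∀ C D : G ⧸ Γ.H, C ≠ Γ.base → D ≠ Γ.base → ι C = ι D → ∃ e ∈ Γ.E, e • C = D
  inf_one : ∀ C : G ⧸ Γ.H, (ι C).card = 1 → Γ.E ⊓ stabilizer G C = ⊥

end Cfsg.Agent.M23Nse48
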