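import Cfsg.Agent.M23Nse48.FusionTriangle
import Cfsg.Agent.M22Nse38.Ext
import Cfsg.Agent.S3103
import Cfsg.Agent.FG78.SL2Nat.SmallGroupFacts

/-!
# Fusion: the subgroup of index 253
-/

set_option autoImplicit false
set_option linter.unusedSectionVars false

namespace Cfsg.Agent.M23Nse48

open Subgroup

variable {G : Type*} [Group G] [Finite G]

theorem mem_cz {g w : G} : w ∈ cz g ↔ Commute w g := mem_centralizer_singleton_iff

theorem mem_map_conj {X : Subgroup G} {g w : G} (h : g⁻¹ * w * g ∈ X) :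
    w ∈ X.map (MulAut.conj g).toMonoidHom :=
  ⟨g⁻¹ * w * g, h, by simp [mul_assoc]⟩

theorem of_mem_map_conj {X : Subgroup G} {g w : G} (h : w ∈ X.map (MulAut.conj g).toMonoidHom) :
    g⁻¹ * w * g ∈ X := by
  obtain ⟨a, ha, rfl⟩ := h
  simpa [mul_assoc] using ha

theorem card_le_mul (K : Subgroup G) (q : G) (S : Set G) (h : ∀ k ∈ K, k * q * k⁻¹ ∈ S) :
    Nat.card K ≤ Nat.card S * Nat.card (cz q) := by
  classical
  let f : K → S := fun k => ⟨k.1 * q * k.1⁻¹, h _ k.2⟩
  let σ : S → K := Function.invFun f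
  have hσ : ∀ k, f (σ (f k)) = f k := fun k => Function.invFun_eq ⟨k, rfl⟩
  have hmem : ∀ k : K, (σ (f k)).1⁻¹ * k.1 ∈ cz q := fun k => by
    have e : (σ (f k)).1 * q * (σ (f k)).1⁻¹ = k.1 * q * k.1⁻¹ := congrArg Subtype.val (hσ k)
    refine mem_cz.2 ((mul_inv_eq_iff_eq_mul (b := _ * _)).1 ?_)
    rw [show (σ (f k)).1⁻¹ * k.1 * q * ((σ (f k)).1⁻¹ * k.1)⁻¹ =
      (σ (f k)).1⁻¹ * (k.1 * q * k.1⁻¹) * (σ (f k)).1 by group, ← e]
    group
  rw [← Nat.card_prod]
  refine Nat.card_le_card_of_injective (fun k => (f k, (⟨_, hmem k⟩ : cz q))) fun a b e => ?_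
  obtain ⟨e1, e2⟩ := Prod.mk.injEq _ _ _ _ ▸ e
  have e3 := congrArg Subtype.val e2
  simp only [e1] at e3
  exact Subtype.ext (mul_left_cancel e3)

theorem arith_forty_five : ∀ n < 46, n ∣ 45 → n % 5 = 1 % 5 → n = 1 := by decide

theorem arith_inter : ∀ k ≤ 4, 2 ^ k % 3 = 4 % 3 → 4 ≤ 2 ^ k → k = 2 ∨ k = 4 := by decide

theorem arith_sup : ∀ k < 8, 2 ^ k % 3 = 4 % 3 → 2 ^ k ≤ 64 := by decide

theorem le_card_sup (A B : Subgroup G) :
    Nat.card A * Nat.card B ≤ Nat.card ↥(A ⊔ B) * Nat.card ↥(A ⊓ B) := by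
  classical
  let f : A × B → ↥(A ⊔ B) := fun p => ⟨p.1.1 * p.2.1, mul_mem_sup p.1.2 p.2.2⟩
  let σ : ↥(A ⊔ B) → A × B := Function.invFun f
  have hσ : ∀ p, f (σ (f p)) = f p := fun p => Function.invFun_eq ⟨p, rfl⟩
  have hmem : ∀ p, (σ (f p)).1.1⁻¹ * p.1.1 ∈ A ⊓ B := fun p => by
    refine mem_inf.2 ⟨mul_mem (inv_mem (σ (f p)).1.2) p.1.2, ?_⟩
    have e : (σ (f p)).1.1 * (σ (f p)).2.1 = p.1.1 * p.2.1 := congrArg Subtype.val (hσ p)
    rw [show (σ (f p)).1.1⁻¹ * p.1.1 = (σ (f p)).1.1⁻¹ * (p.1.1 * p.2.1) * p.2.1⁻¹ by group, ← e,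
      show (σ (f p)).1.1⁻¹ * ((σ (f p)).1.1 * (σ (f p)).2.1) = (σ (f p)).2.1 by group]
    exact mul_mem (σ (f p)).2.2 (inv_mem p.2.2)
  rw [← Nat.card_prod, ← Nat.card_prod]
  refine Nat.card_le_card_of_injective (fun p => (f p, (⟨_, hmem p⟩ : ↥(A ⊓ B)))) fun a b e => ?_
  obtain ⟨e1, e2⟩ := Prod.mk.injEq _ _ _ _ ▸ e
  have e3 := congrArg Subtype.val e2
  simp only [e1] at e3
  have ha : a.1.1 = b.1.1 := mul_left_cancel e3
  have e4 : a.1.1 * a.2.1 = b.1.1 * b.2.1 := congrArg Subtype.val e1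
  rw [ha] at e4
  exact Prod.ext (Subtype.ext ha) (Subtype.ext (mul_left_cancel e4))

variable (hd : Dat G) (L : Local G)
include hd

theorem exists_orderOf_cz {p : ℕ} (hp : p.Prime) {g : G} (h : p ∣ Nat.card (cz g)) :
    ∃ z, orderOf z = p ∧ Commute z g := by
  have := Fact.mk hp
  obtain ⟨z, hz⟩ := exists_prime_orderOf_dvd_card' p h
  exact ⟨z.1, by rw [orderOf_coe, hz], mem_cz.1 z.2⟩

/-- An element of order seven commutes with at most one involution. -/
theorem inv_seven {z a b : G} (hz : orderOf z = 7) (ha : orderOf a = 2) (hb : orderOf b = 2)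
    (za : Commute a z) (zb : Commute b z) : b = a := by
  have haz : orderOf (a * z) = 14 := by
    rw [za.orderOf_mul_eq_mul_orderOf_of_coprime (by rw [ha, hz]; norm_num), ha, hz]
  have hle : zpowers (a * z) = cz z := by
    refine eq_of_le_of_card_ge (zpowers_le.2 (mem_cz.2 (za.mul_left (Commute.refl z)))) ?_
    rw [Nat.card_zpowers, haz, hd.cz7 z hz]
  obtain ⟨n, hn : (a * z) ^ n = b⟩ :=
    mem_powers_iff_mem_zpowers.2 (hle ▸ mem_cz.2 zb : b ∈ zpowers (a * z))
  have hb7 : b ^ 7 = b := by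
    rw [show 7 = 2 * 3 + 1 by norm_num, pow_succ, pow_mul, ← hb, pow_orderOf_eq_one, one_pow, one_mul]
  have hb' : a ^ (n * 7) = b := by
    rw [← hb7, ← hn, ← pow_mul, za.mul_pow, show z ^ (n * 7) = 1 from
      by rw [mul_comm, pow_mul, ← hz, pow_orderOf_eq_one, one_pow], mul_one]
  rw [← pow_mod_orderOf, ha] at hb'
  rcases Nat.mod_two_eq_zero_or_one (n * 7) with h | h <;> rw [h] at hb'
  · rw [pow_zero] at hb'
    rw [← hb', orderOf_one] at hb
    omega
  · exact hb'.symm.trans (pow_one a)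

include L

theorem orderOf_of_mem {t u : G} (ht : orderOf t = 2) (hu : u ∈ L.E t) (h1 : u ≠ 1) : orderOf u = 2 :=
  orderOf_eq_prime (L.sq_E t ht u hu) h1

theorem E_le_cz {t : G} (ht : orderOf t = 2) : L.E t ≤ cz t := fun _ ha =>
  mem_cz.2 (comm_of_sq (L.sq_E t ht) ha (L.mem_E t ht))

theorem conj_mem {t g a : G} (ht : orderOf t = 2) (hg : Commute g t) (ha : a ∈ L.E t) :
    g * a * g⁻¹ ∈ L.E t :=
  (mem_normalizer_iff.1 (L.le_normalizer t ht (mem_cz.2 hg)) a).1 ha

/-- Any element of `E t` commutes with an element of order three of the centraliser of `t`. -/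
theorem exists_three {t x : G} (ht : orderOf t = 2) (hx : x ∈ L.E t) (hx1 : x ≠ 1) (hxt : x ≠ t) :
    ∃ y, orderOf y = 3 ∧ Commute t y ∧ Commute x y := by
  classical
  obtain ⟨y0, hy0, hy0t⟩ := exists_orderOf_cz hd Nat.prime_three (g := t)
    (by rw [L.card_cz_two t ht]; norm_num)
  obtain ⟨z, hz, hzt⟩ := exists_orderOf_cz hd (p := 7) (by norm_num) (g := t)
    (by rw [L.card_cz_two t ht]; norm_num)
  have hW := L.card_E_inf t y0 ht hy0 hy0t.symm
  have ht1 : t ≠ 1 := fun e => by rw [e, orderOf_one] at ht; omega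
  obtain ⟨u, hu, hu1, hut⟩ : ∃ u ∈ L.E t ⊓ cz y0, u ≠ 1 ∧ u ≠ t := by
    by_contra h
    push Not at h
    have hsub : ((L.E t ⊓ cz y0 : Subgroup G) : Set G) ⊆ {1, t} := fun w hw => by
      by_cases e : w = 1
      · exact Or.inl e
      · exact Or.inr (h w hw e)
    have := (Set.ncard_le_ncard hsub).trans (Set.ncard_insert_le 1 {t})
    rw [Set.ncard_singleton, ← Nat.card_coe_set_eq, SetLike.coe_sort_coe, hW] at this
    omega
  obtain ⟨huE, huy⟩ := mem_inf.1 hu
  have hu2 := orderOf_of_mem hd L ht huE hu1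
  have hut' : Commute u t := mem_cz.1 (E_le_cz hd L ht huE)
  have htf : ∀ i : ℕ, z ^ i * t * (z ^ i)⁻¹ = t := fun i => by
    rw [(hzt.pow_left i).eq, mul_assoc, mul_inv_cancel, mul_one]
  let c : Bool → G := fun b => if b then t else 1
  let f : Fin 7 × Bool → G := fun p => z ^ p.1.1 * u * (z ^ p.1.1)⁻¹ * c p.2
  have hfE : ∀ p, f p ∈ (L.E t : Set G) \ {1, t} := by
    rintro ⟨i, b⟩
    have hzi : Commute (z ^ i.1) t := hzt.pow_left _
    refine ⟨mul_mem (conj_mem hd L ht hzi huE) ?_, ?_⟩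
    · cases b <;> simp [c, L.mem_E t ht, one_mem]
    have key : ∀ w, z ^ i.1 * u * (z ^ i.1)⁻¹ = w → Commute w (z ^ i.1) → u = w := fun w e hw => by
      have : z ^ i.1 * u * (z ^ i.1)⁻¹ = z ^ i.1 * w * (z ^ i.1)⁻¹ := by
        rw [e, ← hw.eq, mul_assoc, mul_inv_cancel, mul_one]
      exact mul_left_cancel (mul_right_cancel this)
    have htt : t * t = 1 := mul_self_of_sq (L.sq_E t ht) (L.mem_E t ht)
    intro h
    rcases h with h | h <;> cases b <;> simp only [f, c, if_true, if_false, mul_one,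
      Bool.false_eq_true] at h
    · exact hu1 (key 1 h (Commute.one_left _))
    · exact hut (key t (by rw [eq_mul_inv_of_mul_eq h, one_mul,
        inv_eq_of_mul_eq_one_left htt]) hzi.symm)
    · exact hut (key t h hzi.symm)
    · exact hu1 (key 1 (by rw [eq_mul_inv_of_mul_eq (h : _ = t), mul_inv_cancel]) (Commute.one_left _))
  have hinj : Function.Injective f := by
    rintro ⟨i, b⟩ ⟨j, b'⟩ e
    simp only [f] at e
    have hcc : ∀ b, Commute (c b) z := fun b => by cases b <;> simp [c, hzt.symm]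
    have hz7 : z ^ 7 = 1 := hz ▸ pow_orderOf_eq_one z
    have hp7 : ((z ^ j.1)⁻¹ * z ^ i.1) ^ 7 = 1 := by
      rw [((Commute.refl z).pow_pow j.1 i.1).inv_left.mul_pow, inv_pow, ← pow_mul, ← pow_mul,
        mul_comm j.1, mul_comm i.1, pow_mul, pow_mul, hz7]
      simp
    have hpt : Commute ((z ^ j.1)⁻¹ * z ^ i.1) t :=
      ((hzt.pow_left _).inv_left).mul_left (hzt.pow_left _)
    have hpu : ∃ d, (d = 1 ∨ d = t) ∧
        (z ^ j.1)⁻¹ * z ^ i.1 * u * ((z ^ j.1)⁻¹ * z ^ i.1)⁻¹ = u * d := by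
      refine ⟨c b' * (c b)⁻¹, ?_, ?_⟩
      · have hti : t⁻¹ = t := inv_eq_of_mul_eq_one_left (mul_self_of_sq (L.sq_E t ht) (L.mem_E t ht))
        cases b <;> cases b' <;> simp [c, hti, mul_self_of_sq (L.sq_E t ht) (L.mem_E t ht)]
      · rw [show (z ^ j.1)⁻¹ * z ^ i.1 * u * ((z ^ j.1)⁻¹ * z ^ i.1)⁻¹ =
          (z ^ j.1)⁻¹ * (z ^ i.1 * u * (z ^ i.1)⁻¹ * c b) * (c b)⁻¹ * z ^ j.1 by group, e,
          show (z ^ j.1)⁻¹ * (z ^ j.1 * u * (z ^ j.1)⁻¹ * c b') * (c b)⁻¹ * z ^ j.1 =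
          u * ((z ^ j.1)⁻¹ * (c b' * (c b)⁻¹) * z ^ j.1) by group,
          (((hcc b').mul_left (hcc b).inv_left).pow_right j.1).symm.inv_left.eq]
        group
    generalize hp : (z ^ j.1)⁻¹ * z ^ i.1 = p at hp7 hpt hpu
    obtain ⟨d, hdd, hpd⟩ := hpu
    have hpd' : p * d * p⁻¹ = d := by
      rcases hdd with h | h <;> rw [h]
      · group
      · rw [hpt.eq, mul_assoc, mul_inv_cancel, mul_one]
    have hdd' : d * d = 1 := by
      rcases hdd with h | h <;> rw [h]
      · simp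
      · exact mul_self_of_sq (L.sq_E t ht) (L.mem_E t ht)
    have hp2 : Commute (p ^ 2) u := by
      show p ^ 2 * u = u * p ^ 2
      rw [← mul_inv_eq_iff_eq_mul, show p ^ 2 * u * (p ^ 2)⁻¹ = p * (p * u * p⁻¹) * p⁻¹ by rw [pow_two]; group, hpd,
        show p * (u * d) * p⁻¹ = p * u * p⁻¹ * (p * d * p⁻¹) by group, hpd, hpd', mul_assoc, hdd',
        mul_one]
    have hpc : Commute p u := by
      have h := hp2.pow_left 4
      rwa [← pow_mul, pow_succ, hp7, one_mul] at h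
    have hp1 : p = 1 := by
      by_contra hne
      have := Fact.mk (show Nat.Prime 7 by norm_num)
      exact hut (inv_seven hd (orderOf_eq_prime hp7 hne) ht hu2 hpt.symm hpc.symm)
    subst hp1
    have hij : z ^ i.1 = z ^ j.1 := (inv_mul_eq_one.1 hp).symm
    have hij' : i = j := Fin.ext (pow_injOn_Iio_orderOf (by rw [Set.mem_Iio, hz]; exact i.2)
      (by rw [Set.mem_Iio, hz]; exact j.2) hij)
    subst hij'
    have := mul_left_cancel e
    cases b <;> cases b' <;> simp_all [c]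
  have hs : Set.range f = (L.E t : Set G) \ {1, t} := by
    refine Set.eq_of_subset_of_ncard_le (Set.range_subset_iff.2 hfE) ?_
    rw [Set.ncard_range_of_injective hinj, Set.ncard_sdiff (by
      rintro w (rfl | rfl)
      exacts [one_mem _, L.mem_E _ ht]), Set.ncard_pair ht1.symm, ← Nat.card_coe_set_eq, Nat.card_prod,
      Nat.card_eq_fintype_card (α := Fin 7), Nat.card_eq_fintype_card (α := Bool)]
    have := L.card_E t ht
    simp only [SetLike.coe_sort_coe, this, Fintype.card_fin, Fintype.card_bool]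
    norm_num
  obtain ⟨⟨i, b⟩, e⟩ : x ∈ Set.range f := by
    rw [hs]; exact ⟨hx, by simp [hx1, hxt]⟩
  have hty : Commute t (z ^ i.1 * y0 * (z ^ i.1)⁻¹) := by
    have := ((hzt.pow_left i.1).mul_left hy0t).mul_left ((hzt.pow_left i.1).inv_left)
    exact this.symm
  refine ⟨z ^ i.1 * y0 * (z ^ i.1)⁻¹, ?_, hty, ?_⟩
  · rw [← hy0]; exact orderOf_injective (MulAut.conj (z ^ i.1)).toMonoidHom (MulAut.conj _).injective y0
  · rw [← e]
    refine Commute.mul_left ?_ (by cases b <;> simp [c, hty])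
    show z ^ i.1 * u * (z ^ i.1)⁻¹ * (z ^ i.1 * y0 * (z ^ i.1)⁻¹) = _
    rw [show z ^ i.1 * u * (z ^ i.1)⁻¹ * (z ^ i.1 * y0 * (z ^ i.1)⁻¹) =
      z ^ i.1 * (u * y0) * (z ^ i.1)⁻¹ by group, (mem_cz.1 huy).eq]
    group

/-- In the centraliser of `y` the four group has a normaliser permuting its involutions cyclically. -/
theorem exists_cycle {t u y : G} (ht : orderOf t = 2) (hy : orderOf y = 3) (hty : Commute t y)
    (hu : u ∈ L.E t ⊓ cz y) (hu1 : u ≠ 1) (hut : u ≠ t) :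
    ∃ r ∈ cz y, (∀ w ∈ L.E t ⊓ cz y, r * w * r⁻¹ ∈ L.E t ⊓ cz y) ∧
      r * t * r⁻¹ = u ∧ r * u * r⁻¹ = t * u ∧ r * (t * u) * r⁻¹ = t := by
  classical
  have := Fact.mk Nat.prime_two
  have := Fact.mk (show Nat.Prime 5 by norm_num)
  have hW := L.card_E_inf t y ht hy hty
  have hsqW : ∀ w ∈ L.E t ⊓ cz y, w ^ 2 = 1 := fun w hw => L.sq_E t ht w hw.1
  set W := L.E t ⊓ cz y with hWdef
  have htW : t ∈ W := mem_inf.2 ⟨L.mem_E t ht, mem_cz.2 hty⟩
  have ht1 : t ≠ 1 := fun e => by rw [e, orderOf_one] at ht; omega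
  have hu2 : u * u = 1 := mul_self_of_sq hsqW hu
  have htt : t * t = 1 := mul_self_of_sq hsqW htW
  have hc : u * t = t * u := comm_of_sq hsqW hu htW
  have htu1 : t * u ≠ 1 := fun e => hut (by
    have := congrArg (t * ·) e; simpa [← mul_assoc, htt] using this)
  have htut : t * u ≠ t := by simpa using hu1
  have htuu : t * u ≠ u := by simpa using ht1
  have hfour : ∀ w ∈ W, w = 1 ∨ w = t ∨ w = u ∨ w = t * u := by
    have hsub : ({1, t, u, t * u} : Set G) ⊆ (W : Set G) := by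
      rintro w (rfl | rfl | rfl | rfl)
      exacts [one_mem _, htW, hu, mul_mem htW hu]
    have he := Set.eq_of_subset_of_ncard_le hsub (by
      rw [← Nat.card_coe_set_eq, Set.ncard_insert_of_notMem (by simp [Ne.symm ht1, Ne.symm hu1,
        Ne.symm htu1]), Set.ncard_insert_of_notMem (by simp [Ne.symm hut, Ne.symm htut]),
        Set.ncard_pair (Ne.symm htuu)]
      exact hW.le)
    intro w hw
    simpa using (he.symm ▸ hw : w ∈ ({1, t, u, t * u} : Set G))
  obtain ⟨r, hr, hrW, hrc⟩ : ∃ r ∈ cz y, (∀ w ∈ W, r * w * r⁻¹ ∈ W) ∧ ∃ w ∈ W, r * w * r⁻¹ ≠ w := by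
    by_contra hno
    push Not at hno
    have hCy := L.card_cz_three y hy
    have hWC : W ≤ cz y := inf_le_right
    have hcW : Nat.card (W.subgroupOf (cz y)) = 4 := by
      rw [Nat.card_congr (subgroupOfEquivOfLe hWC).toEquiv, hW]
    have hpW : IsPGroup 2 (W.subgroupOf (cz y)) := IsPGroup.of_card (n := 2) (by rw [hcW]; norm_num)
    have hnd : ¬ 2 ∣ (W.subgroupOf (cz y)).index := by
      have h := (W.subgroupOf (cz y)).card_mul_index
      rw [hcW, hCy] at h
      omega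
    let P : Sylow 2 (cz y) := hpW.toSylow hnd
    have hP : (P : Subgroup (cz y)) = W.subgroupOf (cz y) := rfl
    have hPC : normalizer (P : Subgroup (cz y)) ≤ centralizer ((P : Subgroup (cz y)) : Set (cz y)) := by
      intro g hg
      rw [hP] at hg ⊢
      refine mem_centralizer_iff.2 fun w hw => Subtype.ext ?_
      have hgW : ∀ a ∈ W, g.1 * a * g.1⁻¹ ∈ W := fun a ha =>
        (mem_normalizer_iff.1 hg ⟨a, hWC ha⟩).1 ha
      have := hno g.1 g.2 hgW w.1 hw
      exact (mul_inv_eq_iff_eq_mul.1 this).symm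
    set K := (MonoidHom.transferSylow P hPC).ker
    have hK : Nat.card K = 45 := by
      have h := (MonoidHom.ker_transferSylow_isComplement' P hPC).card_mul_card
      have hc4 : Nat.card (P : Subgroup (cz y)) = 4 := hcW
      rw [hCy] at h
      have : Nat.card K * 4 = 180 := by rw [← h]; exact congrArg (_ * ·) hc4.symm
      omega
    obtain ⟨q, hq⟩ := exists_prime_orderOf_dvd_card' 5 (show 5 ∣ Nat.card K by rw [hK]; norm_num)
    have hn5 : Nat.card (Sylow 5 K) = 1 := by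
      have h1 : Nat.card (Sylow 5 K) ∣ 45 :=
        hK ▸ ((Sylow.card_dvd_index default).trans (index_dvd_card _))
      exact arith_forty_five _ (Nat.lt_succ_of_le (Nat.le_of_dvd (by norm_num) h1)) h1
        (card_sylow_modEq_one 5 K)
    obtain ⟨P5, hP5⟩ := (IsPGroup.of_card (n := 1) (p := 5)
      (show Nat.card (zpowers q) = 5 ^ 1 by rw [Nat.card_zpowers, hq, pow_one])).exists_le_sylow
    have hc5 : Nat.card P5 = 5 := by
      obtain ⟨k, hk⟩ := P5.2.exists_card_eq
      have h1 : 5 ^ k ∣ 45 := hk ▸ hK ▸ card_subgroup_dvd_card (P5 : Subgroup K)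
      have h2 := card_le_of_le hP5
      rw [Nat.card_zpowers, hq] at h2
      have h3 : k < 2 := by
        by_contra h
        have := (pow_dvd_pow 5 (show 2 ≤ k by omega)).trans h1
        norm_num at this
      interval_cases k
      · rw [pow_zero] at hk
        omega
      · simpa using hk
    have hqq : orderOf (q.1.1) = 5 := by rw [orderOf_coe, orderOf_coe, hq]
    have hle := card_le_mul (cz y) q.1.1 (Set.range fun p : P5 => p.1.1.1) fun g hg => by
      let g' : cz y := ⟨g, hg⟩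
      let q' : K := ⟨g' * q.1 * g'⁻¹, (MonoidHom.normal_ker _).conj_mem _ q.2 g'⟩
      have hq' : orderOf q' = 5 := by
        rw [← orderOf_coe, show ((q' : K) : cz y) = (MulAut.conj g').toMonoidHom q.1 from rfl,
          orderOf_injective _ (MulAut.conj g').injective, orderOf_coe, hq]
      obtain ⟨Q, hQ⟩ := (IsPGroup.of_card (n := 1) (p := 5)
        (show Nat.card (zpowers q') = 5 ^ 1 by rw [Nat.card_zpowers, hq', pow_one])).exists_le_sylow
      have : Subsingleton (Sylow 5 K) := (Nat.card_eq_one_iff_unique.1 hn5).1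
      rw [Subsingleton.elim Q P5] at hQ
      exact ⟨⟨q', hQ (mem_zpowers q')⟩, rfl⟩
    rw [hd.cz5 _ hqq, hCy, Nat.card_coe_set_eq] at hle
    have h5 : (Set.range fun p : P5 => p.1.1.1).ncard ≤ 5 := by
      rw [← Set.image_univ]
      exact (Set.ncard_image_le Set.finite_univ).trans (le_of_eq ((Set.ncard_univ _).trans hc5))
    omega
  have h45 : ∀ w ∈ W, Commute (r ^ 45) w := by
    let N : Subgroup G := normalizer (W : Set G) ⊓ cz y
    let Z : Subgroup G := centralizer (W : Set G) ⊓ cz y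
    have hZN : Z ≤ N := inf_le_inf_right _ (centralizer_le_normalizer _)
    have hnor : (Z.subgroupOf N).Normal := by
      refine ⟨fun z hz g => mem_inf.2 ⟨mem_centralizer_iff.2 fun w hw => ?_,
        mul_mem (mul_mem g.2.2 hz.2) (inv_mem g.2.2)⟩⟩
      have hz' := mem_centralizer_iff.1 hz.1 _ ((mem_normalizer_iff''.1 g.2.1 w).1 hw)
      simp only [Subgroup.subtype_apply, Subgroup.coe_mul, Subgroup.coe_inv] at hz' ⊢
      calc w * (g.1 * z.1 * g.1⁻¹) = g.1 * (g.1⁻¹ * w * g.1 * z.1) * g.1⁻¹ := by group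
        _ = g.1 * z.1 * g.1⁻¹ * w := by rw [hz']; group
    have hWZ : W ≤ Z := le_inf (fun a ha => mem_centralizer_iff.2 fun b hb =>
      comm_of_sq hsqW hb ha) inf_le_right
    have hidx : (Z.subgroupOf N).index ∣ 45 := by
      have h := (Z.subgroupOf N).index_mul_card
      rw [Nat.card_congr (subgroupOfEquivOfLe hZN).toEquiv] at h
      refine Nat.dvd_of_mul_dvd_mul_right (show 0 < 4 by norm_num)
        ((mul_dvd_mul_left _ (hW ▸ card_dvd_of_le hWZ)).trans ?_)
      rw [h, show 45 * 4 = 180 by norm_num, ← L.card_cz_three y hy]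
      exact card_dvd_of_le inf_le_right
    obtain ⟨m, hm⟩ := hidx
    have hrN : r ∈ N := mem_inf.2 ⟨M22Nse38.mem_normalizer_of hrW, hr⟩
    have hp := pow_mem (pow_index_mem (Z.subgroupOf N) ⟨r, hrN⟩) m
    rw [← pow_mul, ← hm] at hp
    intro w hw
    exact (mem_centralizer_iff.1 hp.1 w hw).symm
  have hodd : ∀ w ∈ W, r * (r * w * r⁻¹) * r⁻¹ = w → r * w * r⁻¹ = w := by
    intro w hw h
    have h2 : Commute (r ^ 2) w := by
      show r ^ 2 * w = w * r ^ 2
      rw [← mul_inv_eq_iff_eq_mul]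
      refine Eq.trans ?_ h
      rw [pow_two]
      group
    have := (h2.pow_left 22).inv_left.mul_left (h45 w hw)
    rw [← pow_mul, show r ^ 45 = r ^ (2 * 22) * r from pow_succ r 44, inv_mul_cancel_left] at this
    rw [this.eq, mul_assoc, mul_inv_cancel, mul_one]
  have hmul : ∀ a b, r * (a * b) * r⁻¹ = r * a * r⁻¹ * (r * b * r⁻¹) := fun a b => by group
  have hconj : ∀ a b, r * a * r⁻¹ = r * b * r⁻¹ → a = b := fun a b h =>
    mul_left_cancel (mul_right_cancel h)
  have n1 : ∀ a, a ≠ 1 → r * a * r⁻¹ ≠ 1 := fun a ha e => ha (conj_eq_one_iff.1 e)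
  rcases hfour _ (hrW t htW) with h | h | h | h
  · exact absurd h (n1 t ht1)
  · exfalso
    have hu' : r * u * r⁻¹ = u := by
      rcases hfour _ (hrW u hu) with g | g | g | g
      · exact absurd g (n1 u hu1)
      · exact absurd (hconj u t (g.trans h.symm)) hut
      · exact g
      · exact hodd u hu (by rw [g, hmul, h, g, ← mul_assoc, htt, one_mul])
    obtain ⟨w, hw, hne⟩ := hrc
    rcases hfour w hw with rfl | rfl | rfl | rfl
    · exact hne (by group)
    · exact hne h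
    · exact hne hu'
    · exact hne (by rw [hmul, h, hu'])
  · refine ⟨r, hr, hrW, h, ?_⟩
    rcases hfour _ (hrW u hu) with g | g | g | g
    · exact absurd g (n1 u hu1)
    · exact absurd (h.symm.trans (hodd t htW (by rw [h, g]))) hut
    · exact absurd (hconj u t (g.trans h.symm)) hut
    · exact ⟨g, by rw [hmul, h, g, ← hc, ← mul_assoc, hu2, one_mul]⟩
  · have hut' : r * u * r⁻¹ = t := by
      rcases hfour _ (hrW u hu) with g | g | g | g
      · exact absurd g (n1 u hu1)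
      · exact g
      · exact absurd (h.symm.trans (hodd t htW
          (by rw [h, hmul, h, g, mul_assoc, hu2, mul_one]))) htut
      · exact absurd (hconj u t (g.trans h.symm)) hut
    have htu' : r * (t * u) * r⁻¹ = u := by
      rw [hmul, h, hut', mul_assoc, hc, ← mul_assoc, htt, one_mul]
    have inv : ∀ {a b}, r * a * r⁻¹ = b → r⁻¹ * b * r⁻¹⁻¹ = a := fun e => by rw [← e]; group
    refine ⟨r⁻¹, inv_mem hr, fun w hw => ?_, inv hut', inv htu', inv h⟩
    rcases hfour w hw with rfl | rfl | rfl | rfl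
    · simp
    · rw [inv hut']; exact hu
    · rw [inv htu']; exact mul_mem htW hu
    · rw [inv h]; exact htW

theorem E_eq {t u : G} (ht : orderOf t = 2) (hu : u ∈ L.E t) (hu1 : u ≠ 1) : L.E u = L.E t := by
  by_cases hut : u = t
  · rw [hut]
  obtain ⟨y, hy, hty, huy⟩ := exists_three hd L ht hu hu1 hut
  set W := L.E t ⊓ cz y with hWdef
  have huW : u ∈ W := mem_inf.2 ⟨hu, mem_cz.2 huy⟩
  have htW : t ∈ W := mem_inf.2 ⟨L.mem_E t ht, mem_cz.2 hty⟩
  have hW : Nat.card W = 4 := L.card_E_inf t y ht hy hty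
  obtain ⟨r, hr, hrW, r1, r2, r3⟩ := exists_cycle hd L ht hy hty huW hu1 hut
  have hu2 := orderOf_of_mem hd L ht hu hu1
  have htu1 : t * u ≠ 1 := fun e => hut (by
    have := congrArg (t * ·) e
    simpa [← mul_assoc, mul_self_of_sq (L.sq_E t ht) (L.mem_E t ht)] using this)
  have hv2 : orderOf (t * u) = 2 := orderOf_of_mem hd L ht (mul_mem (L.mem_E t ht) hu) htu1
  by_contra hne
  have cv : ∀ {s s' x : G}, orderOf s = 2 → r * s * r⁻¹ = s' → (x ∈ L.E s' ↔ r⁻¹ * x * r ∈ L.E s) := by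
    intro s s' x hs e
    rw [← e, L.conj_E r s hs]
    exact ⟨of_mem_map_conj, mem_map_conj⟩
  have rW' : ∀ w ∈ W, r⁻¹ * w * r ∈ W := fun w hw => by
    have h := (mem_normalizer_iff''.1 (M22Nse38.mem_normalizer_of hrW) w).1 hw
    exact h
  have wB : ∀ w ∈ W, w ∈ L.E u := fun w hw => (cv ht r1).2 (rW' w hw).1
  have wC : ∀ w ∈ W, w ∈ L.E (t * u) := fun w hw => (cv hu2 r2).2 (wB _ (rW' w hw))
  have fixW : ∀ w, w ∈ L.E u → Commute w y → w ∈ W := by
    have he : W = L.E u ⊓ cz y := by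
      refine eq_of_le_of_card_ge (le_inf wB inf_le_right) ?_
      rw [L.card_E_inf u y hu2 hy huy, hW]
    intro w hw hwy
    rw [he]
    exact mem_inf.2 ⟨hw, mem_cz.2 hwy⟩
  have hD : L.E t ⊓ L.E u = W := by
    have hWD : W ≤ L.E t ⊓ L.E u := le_inf inf_le_left wB
    have hm := M22Nse38.fix_mod (p := 3) hy ((L.E t ⊓ L.E u : Subgroup G) : Set G) fun w hw =>
      ⟨conj_mem hd L ht hty.symm hw.1, conj_mem hd L hu2 huy.symm hw.2⟩
    rw [show Nat.card {w : G // w ∈ ((L.E t ⊓ L.E u : Subgroup G) : Set G) ∧ w ∈ M22Nse38.cz y} = 4 from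
      hW ▸ Nat.card_congr (Equiv.subtypeEquivRight fun w =>
        ⟨fun h => mem_inf.2 ⟨h.1.1, h.2⟩, fun h => ⟨hWD h, h.2⟩⟩), SetLike.coe_sort_coe] at hm
    have h16 : Nat.card ↥(L.E t ⊓ L.E u) ∣ 2 ^ 4 := by
      rw [show (2 : ℕ) ^ 4 = Nat.card (L.E t) by rw [L.card_E t ht]; norm_num]
      exact card_dvd_of_le inf_le_left
    obtain ⟨k, hk, hkk⟩ := (Nat.dvd_prime_pow Nat.prime_two).1 h16
    have h4 := hW ▸ card_le_of_le hWD
    rw [Nat.ModEq, hkk] at hm
    rw [hkk] at h4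
    rcases arith_inter k hk hm h4 with rfl | rfl
    · exact (eq_of_le_of_card_ge hWD (by rw [hkk, hW]; norm_num)).symm
    · exfalso
      have e1 : L.E t ⊓ L.E u = L.E t :=
        eq_of_le_of_card_ge inf_le_left (by rw [hkk, L.card_E t ht]; norm_num)
      have e2 : L.E t ⊓ L.E u = L.E u :=
        eq_of_le_of_card_ge inf_le_right (by rw [hkk, L.card_E u hu2]; norm_num)
      exact hne (e2.symm.trans e1)
  have nrm : ∀ {s s' a b : G}, orderOf s = 2 → orderOf s' = 2 → s ∈ L.E s' → a ∈ L.E s → b ∈ L.E s' →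
      b * a * b⁻¹ ∈ L.E s := fun hs hs' hss ha hb =>
    conj_mem hd L hs (comm_of_sq (L.sq_E _ hs') hb hss) ha
  have pair : ∀ {s s' : G}, orderOf s = 2 → orderOf s' = 2 → s ∈ W → s' ∈ W →
      L.E s ⊓ L.E s' = W → (∀ w ∈ W, w ∈ L.E s) → (∀ w ∈ W, w ∈ L.E s') →
      Pair (L.E s) (L.E s') W := by
    intro s s' hs hs' m m' he w1 w2
    refine ⟨L.sq_E s hs, L.sq_E s' hs', he, fun a ha b hb => ?_, fun a ha b hb => ?_⟩
    · have := nrm hs hs' (w2 s m) ha hb
      rwa [inv_eq_of_mul_eq_one_left (mul_self_of_sq (L.sq_E s' hs') hb)] at this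
    · have := nrm hs' hs (w1 s' m') hb ha
      rwa [inv_eq_of_mul_eq_one_left (mul_self_of_sq (L.sq_E s hs) ha)] at this
  have hinvW : ∀ x, r⁻¹ * x * r ∈ W → x ∈ W := fun x hx => by
    have := hrW _ hx
    rwa [show r * (r⁻¹ * x * r) * r⁻¹ = x by group] at this
  have hBC : L.E u ⊓ L.E (t * u) = W := le_antisymm (fun x hx => hinvW x (hD ▸
    mem_inf.2 ⟨(cv ht r1).1 hx.1, (cv hu2 r2).1 hx.2⟩)) (le_inf wB wC)
  have hAC : L.E t ⊓ L.E (t * u) = W := le_antisymm (fun x hx => hinvW x (hBC ▸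
    mem_inf.2 ⟨(cv hu2 r2).1 hx.2, (cv hv2 r3).1 hx.1⟩)) (le_inf inf_le_left wC)
  have htuW : t * u ∈ W := mul_mem htW huW
  have wA : ∀ w ∈ W, w ∈ L.E t := fun w hw => hw.1
  have pAB := pair ht hu2 htW huW hD wA wB
  have pAC := pair ht hv2 htW htuW hAC wA wC
  have pBC := pair hu2 hv2 huW htuW hBC wB wC
  have := Fact.mk Nat.prime_two
  have p2 : ∀ {s : G}, orderOf s = 2 → IsPGroup 2 (L.E s) := fun hs =>
    IsPGroup.of_card (n := 4) (by rw [L.card_E _ hs]; norm_num)
  have leN : ∀ {s s' : G}, orderOf s = 2 → orderOf s' = 2 → s ∈ L.E s' →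
      L.E s' ≤ normalizer (L.E s : Set G) := fun hs hs' hss b hb =>
    L.le_normalizer _ hs (mem_cz.2 (comm_of_sq (L.sq_E _ hs') hb hss))
  set P := L.E t ⊔ L.E u ⊔ L.E (t * u)
  have hAB : IsPGroup 2 ↥(L.E t ⊔ L.E u) :=
    (p2 ht).to_sup_of_normal_right' (p2 hu2) (leN hu2 ht hu)
  have hP2 : IsPGroup 2 P := hAB.to_sup_of_normal_right' (p2 hv2)
    (sup_le (leN hv2 ht (wA _ htuW)) (leN hv2 hu2 (wB _ htuW)))
  have hPle : P ≤ cz t := sup_le (sup_le (E_le_cz hd L ht)
    (fun b hb => mem_cz.2 (comm_of_sq (L.sq_E _ hu2) hb (wB t htW))))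
    (fun b hb => mem_cz.2 (comm_of_sq (L.sq_E _ hv2) hb (wC t htW)))
  have hyP : ∀ x ∈ P, y * x * y⁻¹ ∈ P := by
    intro x hx
    have e : P.map (MulAut.conj y).toMonoidHom ≤ P := by
      simp only [P, Subgroup.map_sup]
      refine sup_le (sup_le ?_ ?_) ?_
      · rintro - ⟨a, ha, rfl⟩
        exact mem_sup_left (mem_sup_left (conj_mem hd L ht hty.symm ha))
      · rintro - ⟨a, ha, rfl⟩
        exact mem_sup_left (mem_sup_right (conj_mem hd L hu2 huy.symm ha))
      · rintro - ⟨a, ha, rfl⟩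
        exact mem_sup_right (conj_mem hd L hv2 (hty.symm.mul_right huy.symm) ha)
    exact e (mem_map_of_mem _ hx)
  have hWP : W ≤ P := fun w hw => mem_sup_left (mem_sup_left hw.1)
  have hPy : P ⊓ cz y = W := by
    refine (eq_of_le_of_card_ge (le_inf hWP inf_le_right) ?_).symm
    obtain ⟨k, hk⟩ := (hP2.to_le (inf_le_left : P ⊓ cz y ≤ P)).exists_card_eq
    have hdv := card_dvd_of_le (inf_le_right : P ⊓ cz y ≤ cz y)
    rw [L.card_cz_three y hy, hk] at hdv
    have hk3 : k < 3 := by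
      by_contra h
      have := (pow_dvd_pow 2 (show 3 ≤ k by omega)).trans hdv
      norm_num at this
    rw [hk, hW]
    calc 2 ^ k ≤ 2 ^ 2 := Nat.pow_le_pow_right (by norm_num) (by omega)
      _ = 4 := by norm_num
  have h64 : 64 ≤ Nat.card ↥(L.E t ⊔ L.E u) := by
    have := le_card_sup (L.E t) (L.E u)
    rw [L.card_E t ht, L.card_E u hu2, hD, hW] at this
    omega
  have hsup : P = L.E t ⊔ L.E u := by
    refine (eq_of_le_of_card_ge le_sup_left ?_).symm
    obtain ⟨k, hk⟩ := hP2.exists_card_eq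
    have hdv := card_dvd_of_le hPle
    rw [L.card_cz_two t ht, hk] at hdv
    have hk8 : k < 8 := by
      by_contra h
      have := (pow_dvd_pow 2 (show 8 ≤ k by omega)).trans hdv
      norm_num at this
    have hm := M22Nse38.fix_mod (p := 3) hy (P : Set G) hyP
    rw [show Nat.card {w : G // w ∈ (P : Set G) ∧ w ∈ M22Nse38.cz y} = 4 from
      hW ▸ hPy ▸ Nat.card_congr (Equiv.subtypeEquivRight fun w => Iff.rfl), SetLike.coe_sort_coe,
      Nat.ModEq, hk] at hm
    rw [hk]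
    exact (arith_sup k hk8 hm).trans h64
  have hC : ∀ c ∈ L.E (t * u), ∃ a ∈ L.E t, ∃ b ∈ L.E u, a * b = c := fun c hc => by
    have hcP : c ∈ ((L.E t ⊔ L.E u : Subgroup G) : Set G) := hsup ▸ mem_sup_right hc
    rw [coe_mul_of_left_le_normalizer_right _ _ (leN hu2 ht hu)] at hcP
    exact Set.mem_mul.1 hcP
  have hcomm := triangle pAB pAC pBC (L.card_E t ht) (L.card_E u hu2) (L.card_E _ hv2) hW hC r
    (fun a ha => (cv ht r1).2 (by simpa [mul_assoc] using ha))
    (fun b hb => (cv hu2 r2).2 (by simpa [mul_assoc] using hb))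
    (fun w hw e => by
      have hne0 : ∀ {a b : G}, r * a * r⁻¹ = b → b ≠ a → w ≠ a := fun e' hba hwa => hba (by
        rw [← e', ← hwa, e])
      by_contra hw1
      have hWsub : ({1, t, u, t * u} : Set G) = (W : Set G) := by
        refine Set.eq_of_subset_of_ncard_le ?_ ?_
        · rintro x (rfl | rfl | rfl | rfl)
          exacts [one_mem _, htW, huW, htuW]
        · have ht1 : t ≠ 1 := fun e => by rw [e, orderOf_one] at ht; omega
          rw [← Nat.card_coe_set_eq, Set.ncard_insert_of_notMem (by simp [Ne.symm ht1, Ne.symm hu1,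
            Ne.symm htu1]), Set.ncard_insert_of_notMem (by simp [Ne.symm hut, hu1]),
            Set.ncard_pair (by simpa using ht1)]
          exact hW.le
      rcases (hWsub.symm ▸ hw : w ∈ ({1, t, u, t * u} : Set G)) with h | h | h | h
      · exact hw1 h
      · exact hne0 r1 hut h
      · exact hne0 r2 (by simpa using (show t ≠ 1 from fun e => by rw [e, orderOf_one] at ht; omega)) h
      · exact hne0 r3 (by simpa using hu1) h)
  have : L.E u ≤ L.E t := by
    intro b hb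
    rw [← L.cent_E t ht, mem_centralizer_iff]
    exact fun a ha => hcomm a ha b hb
  exact hne (eq_of_le_of_card_ge this (by rw [L.card_E t ht, L.card_E u hu2]))

theorem exists_act : Nonempty (Act G) := by
  classical
  obtain ⟨t, ht⟩ : ∃ t : G, orderOf t = 2 := by
    have h : 0 < sn G 2 := by rw [hd.s2]; norm_num
    obtain ⟨⟨t, ht⟩⟩ := (Nat.card_pos_iff.1 h).1
    exact ⟨t, ht⟩
  set E := L.E t
  have hE : ∀ a ∈ E, a ≠ 1 → orderOf a = 2 ∧ L.E a = E := fun a ha h1 =>
    ⟨orderOf_of_mem hd L ht ha h1, E_eq hd L ht ha h1⟩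
  set H : Subgroup G := normalizer (E : Set G)
  have hcz : ∀ a ∈ E, a ≠ 1 → cz a ≤ H := fun a ha h1 => by
    obtain ⟨h2, he⟩ := hE a ha h1
    have := L.le_normalizer a h2
    rwa [he] at this
  have hEH : E ≤ H := le_normalizer
  have hnorm : ∀ g : G, (∀ x ∈ E, g * x * g⁻¹ ∈ E) → g ∈ H := fun g h =>
    M22Nse38.mem_normalizer_of h
  have himg : ∀ (g a : G), a ∈ E → a ≠ 1 → g * a * g⁻¹ ∈ E → g ∈ H := fun g a ha h1 h => by
    obtain ⟨h2, he⟩ := hE a ha h1
    obtain ⟨-, he'⟩ := hE _ h (fun e => h1 (conj_eq_one_iff.1 e))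
    refine hnorm g fun x hx => ?_
    rw [← he', L.conj_E g a h2, he]
    exact ⟨x, hx, rfl⟩
  have htrans : ∀ a ∈ E, ∀ b ∈ E, a ≠ 1 → b ≠ 1 → ∃ h ∈ H, h * a * h⁻¹ = b := by
    intro a ha b hb ha1 hb1
    obtain ⟨g, hg⟩ := L.conj_two a b (hE a ha ha1).1 (hE b hb hb1).1
    exact ⟨g, himg g a ha ha1 (hg ▸ hb), hg⟩
  have ht1 : t ≠ 1 := fun e => by rw [e, orderOf_one] at ht; omega
  have hcardH : Nat.card H = 40320 := by
    have h := M22Nse38.card_orbit_conj H t ((E : Set G) \ {1})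
      (fun k hk => ⟨(mem_normalizer_iff.1 hk t).1 (L.mem_E t ht),
        fun e => ht1 (conj_eq_one_iff.1 e)⟩)
      (fun a ha => htrans t (L.mem_E t ht) a ha.1 ht1 (fun e => ha.2 e))
    rw [Nat.card_coe_set_eq, Set.ncard_sdiff_singleton_of_mem (one_mem E), ← Nat.card_coe_set_eq,
      SetLike.coe_sort_coe, L.card_E t ht, show H ⊓ M22Nse38.cz t = cz t from
        inf_eq_right.2 (hcz t (L.mem_E t ht) ht1), L.card_cz_two t ht] at h
    omega
  let : CommGroup E :=
    { (inferInstance : Group E) with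
      mul_comm := fun a b => Subtype.ext (comm_of_sq (L.sq_E t ht) a.2 b.2) }
  obtain ⟨f, hf⟩ := S3103.exists_embed (V := E)
    (fun v => Subtype.ext (L.sq_E t ht v.1 v.2)) (L.card_E t ht).le
  let ψ : H →* alternatingGroup (Fin 8) := f.comp E.normalizerMonoidHom
  have hker : ψ.ker = E.subgroupOf H := by
    rw [← MonoidHom.comap_ker, (MonoidHom.ker_eq_bot_iff f).2 hf, MonoidHom.comap_bot,
      normalizerMonoidHom_ker, L.cent_E t ht]
  have hR : ψ.range.index = 8 := by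
    have h1 := ψ.ker.index_mul_card
    rw [index_ker, hker, Nat.card_congr (subgroupOfEquivOfLe hEH).toEquiv, L.card_E t ht,
      hcardH] at h1
    have h2 := ψ.range.card_mul_index
    rw [show Nat.card ψ.range = 2520 by omega,
      show Nat.card (alternatingGroup (Fin 8)) = 20160 by
        rw [nat_card_alternatingGroup, Nat.card_fin]; rfl] at h2
    omega
  obtain ⟨e⟩ := FG78.SL2Nat.alt_seven_of_index_eight ψ.range hR
  refine ⟨{
    H := H, E := E, card_H := hcardH, card_E := L.card_E t ht, E_le := hEH, sq := L.sq_E t ht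
    norm := rfl, cent := L.cent_E t ht, cz_le := hcz, trans := htrans
    ti := fun g hg => (eq_bot_iff_forall _).2 fun x hx => ?_
    φ := e.toMonoidHom.comp ψ.rangeRestrict
    φ_surj := e.surjective.comp ψ.rangeRestrict_surjective
    φ_ker := ?_
    card_cz_three := L.card_cz_three }⟩
  · by_contra h1
    obtain ⟨a, ha, rfl⟩ := hx.2
    exact hg (himg g a ha (fun e => h1 (by simp [e])) hx.1)
  · rw [← MonoidHom.comap_ker, (MonoidHom.ker_eq_bot_iff e.toMonoidHom).2 e.injective,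
      MonoidHom.comap_bot, MonoidHom.ker_rangeRestrict, hker]

end Cfsg.Agent.M23Nse48
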