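import Cfsg.Agent.M23Nse48.Defs

/-!
# Three elementary groups of order sixteen permuted cyclically over their common four group
-/

set_option autoImplicit false

namespace Cfsg.Agent.M23Nse48

open Subgroup

variable {G : Type*} [Group G]

theorem mul_self_of_sq {X : Subgroup G} (hX : ∀ a ∈ X, a ^ 2 = 1) {a : G} (ha : a ∈ X) : a * a = 1 := by
  rw [← pow_two]; exact hX a ha

theorem comm_of_sq {X : Subgroup G} (hX : ∀ a ∈ X, a ^ 2 = 1) {a b : G} (ha : a ∈ X) (hb : b ∈ X) :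
    a * b = b * a := by
  have i : ∀ {c : G}, c ∈ X → c⁻¹ = c := fun hc => inv_eq_of_mul_eq_one_left (mul_self_of_sq hX hc)
  calc a * b = (a * b)⁻¹ := (i (mul_mem ha hb)).symm
    _ = b * a := by rw [mul_inv_rev, i ha, i hb]

theorem exists_two [Finite G] {X W : Subgroup G} (hX : Nat.card X = 16) (hW : Nat.card W = 4) :
    ∃ a ∈ X, ∃ b ∈ X, a ∉ W ∧ b ∉ W ∧ a * b ∉ W := by
  obtain ⟨a, ha, ha'⟩ : ∃ a ∈ X, a ∉ W := by
    by_contra h
    push Not at h
    have := card_le_of_le (show X ≤ W from h)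
    omega
  refine ⟨a, ha, ?_⟩
  by_contra h
  push Not at h
  classical
  let f : X → Bool × W := fun x =>
    if hx : x.1 ∈ W then (true, ⟨x.1, hx⟩) else (false, ⟨a * x.1, h x.1 x.2 ha' hx⟩)
  have hf : Function.Injective f := by
    intro x y e
    refine Subtype.ext ?_
    simp only [f] at e
    split_ifs at e with hx hy hy <;> simp only [Prod.mk.injEq, Subtype.mk.injEq] at e
    · exact e.2
    · exact absurd e.1 (by decide)
    · exact absurd e.1 (by decide)
    · exact mul_left_cancel e.2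
  have := Nat.card_le_card_of_injective f hf
  rw [Nat.card_prod, hX, hW, Nat.card_eq_fintype_card (α := Bool)] at this
  simp at this

theorem four_cosets [Finite G] {X W : Subgroup G} (hle : W ≤ X) (hX : Nat.card X = 16)
    (hW : Nat.card W = 4) (hsq : ∀ a ∈ X, a ^ 2 = 1) {a b : G} (ha : a ∈ X) (hb : b ∈ X)
    (ha' : a ∉ W) (hb' : b ∉ W) (hab : a * b ∉ W) {x : G} (hx : x ∈ X) :
    x ∈ W ∨ a * x ∈ W ∨ b * x ∈ W ∨ a * b * x ∈ W := by
  classical
  have a2 : ∀ z, a * (a * z) = z := fun z => by rw [← mul_assoc, mul_self_of_sq hsq ha, one_mul]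
  have ba : ∀ z, b * (a * z) = a * (b * z) := fun z => by
    rw [← mul_assoc, comm_of_sq hsq hb ha, mul_assoc]
  have a1 := mul_self_of_sq hsq ha
  have b1 := mul_self_of_sq hsq hb
  have ba1 := comm_of_sq hsq hb ha
  let c : Fin 4 → G := ![1, a, b, a * b]
  have hc : ∀ i, c i ∈ X := by
    intro i; fin_cases i
    exacts [one_mem _, ha, hb, mul_mem ha hb]
  have key : ∀ i j, c i * c j ∈ W → i = j := by
    intro i j
    fin_cases i <;> fin_cases j <;>
      simp [c, mul_assoc, a1, b1, ba1, a2, ba, ha', hb', hab]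
  let f : Fin 4 × W → X := fun p => ⟨c p.1 * p.2.1, mul_mem (hc _) (hle p.2.2)⟩
  have hf : Function.Injective f := by
    rintro ⟨i, v⟩ ⟨j, w⟩ e
    have e' : c i * v.1 = c j * w.1 := congrArg Subtype.val e
    have hij : i = j := key i j (by
      have : c i * c j = v.1 * w.1⁻¹ := by
        rw [eq_mul_inv_iff_mul_eq, mul_assoc, ← e', ← mul_assoc, mul_self_of_sq hsq (hc i), one_mul]
      rw [this]
      exact mul_mem v.2 (inv_mem w.2))
    subst hij
    exact congrArg _ (Subtype.ext (mul_left_cancel e'))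
  have hb2 := (Nat.bijective_iff_injective_and_card f).2
    ⟨hf, by rw [Nat.card_prod, hW, hX, Nat.card_eq_fintype_card (α := Fin 4), Fintype.card_fin]⟩
  obtain ⟨⟨i, w⟩, e⟩ := hb2.2 ⟨x, hx⟩
  have e' : c i * w.1 = x := congrArg Subtype.val e
  have hm : c i * x ∈ W := by
    rw [← e', ← mul_assoc, mul_self_of_sq hsq (hc i), one_mul]
    exact w.2
  fin_cases i
  · left; simpa [c] using hm
  · right; left; simpa [c] using hm
  · right; right; left; simpa [c] using hm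
  · right; right; right; simpa [c, mul_assoc] using hm

/-- `(a * b) ^ 2`. -/
def k (a b : G) : G := a * b * a * b

variable {A B W : Subgroup G}

/-- Two elementary groups normalising each other with intersection `W`. -/
structure Pair (A B W : Subgroup G) : Prop where
  sqA : ∀ a ∈ A, a ^ 2 = 1
  sqB : ∀ b ∈ B, b ^ 2 = 1
  inf : A ⊓ B = W
  normA : ∀ a ∈ A, ∀ b ∈ B, b * a * b ∈ A
  normB : ∀ a ∈ A, ∀ b ∈ B, a * b * a ∈ B

namespace Pair

theorem symm (p : Pair A B W) : Pair B A W :=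
  ⟨p.sqB, p.sqA, by rw [inf_comm]; exact p.inf, fun a ha b hb => p.normB b hb a ha,
    fun a ha b hb => p.normA b hb a ha⟩

variable (p : Pair A B W)
include p

theorem le_left : W ≤ A := p.inf ▸ inf_le_left

theorem le_right : W ≤ B := p.inf ▸ inf_le_right

theorem k_mem {a b : G} (ha : a ∈ A) (hb : b ∈ B) : k a b ∈ W := by
  rw [← p.inf]
  refine mem_inf.2 ⟨?_, ?_⟩
  · rw [show k a b = a * (b * a * b) by simp [k, mul_assoc]]
    exact mul_mem ha (p.normA a ha b hb)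
  · rw [show k a b = a * b * a * b from rfl]
    exact mul_mem (p.normB a ha b hb) hb

theorem k_comm {a b : G} (ha : a ∈ A) (hb : b ∈ B) : k b a = k a b := by
  have h1 : k b a = (k a b)⁻¹ := by
    simp [k, mul_assoc, inv_eq_of_mul_eq_one_left (mul_self_of_sq p.sqA ha),
      inv_eq_of_mul_eq_one_left (mul_self_of_sq p.sqB hb)]
  rw [h1, inv_eq_of_mul_eq_one_left (mul_self_of_sq p.sqA (p.le_left (p.k_mem ha hb)))]

theorem mul_eq {a b : G} (ha : a ∈ A) (hb : b ∈ B) : a * b = k a b * (b * a) := by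
  have a1 := mul_self_of_sq p.sqA ha
  have b1 := mul_self_of_sq p.sqB hb
  calc a * b = a * b * a * (b * b) * a := by rw [b1, mul_one, mul_assoc (a * b), a1, mul_one]
    _ = k a b * (b * a) := by simp [k, mul_assoc]

theorem k_mul {a a' b : G} (ha : a ∈ A) (ha' : a' ∈ A) (hb : b ∈ B) :
    k (a * a') b = k a b * k a' b := by
  have hw := p.k_mem ha' hb
  have hwA := p.le_left hw
  calc k (a * a') b = a * (a' * b) * a * (a' * b) := by simp [k, mul_assoc]
    _ = a * (k a' b * (b * a')) * a * (a' * b) := by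
      rw [← p.mul_eq ha' hb]
    _ = k a' b * (a * b * ((a' * a) * a') * b) := by
      rw [← mul_assoc a (k a' b), comm_of_sq p.sqA ha hwA]; simp [mul_assoc]
    _ = k a' b * k a b := by
      rw [comm_of_sq p.sqA ha' ha, mul_assoc a a' a', mul_self_of_sq p.sqA ha', mul_one]; rfl
    _ = k a b * k a' b := comm_of_sq p.sqA hwA (p.le_left (p.k_mem ha hb))

theorem k_of_mem {a b : G} (ha : a ∈ W) (hb : b ∈ B) : k a b = 1 := by
  rw [k, mul_assoc (a * b), ← pow_two]
  exact p.sqB _ (mul_mem (p.le_right ha) hb)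

end Pair

/-- A cyclically permuted triple is commutative. -/
theorem triangle [Finite G] {C : Subgroup G} (pAB : Pair A B W) (pAC : Pair A C W) (pBC : Pair B C W)
    (cA : Nat.card A = 16) (cB : Nat.card B = 16) (cC : Nat.card C = 16) (cW : Nat.card W = 4)
    (hC : ∀ c ∈ C, ∃ a ∈ A, ∃ b ∈ B, a * b = c) (r : G)
    (rA : ∀ a ∈ A, r * a * r⁻¹ ∈ B) (rB : ∀ b ∈ B, r * b * r⁻¹ ∈ C)
    (rW : ∀ w ∈ W, r * w * r⁻¹ = w → w = 1) :
    ∀ a ∈ A, ∀ b ∈ B, a * b = b * a := by
  obtain ⟨c1, hc1, c2, hc2, n1, n2, n3⟩ := exists_two cC cW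
  obtain ⟨a1, ha1, b1, hb1, e1⟩ := hC c1 hc1
  obtain ⟨a2, ha2, b2, hb2, e2⟩ := hC c2 hc2
  have sqk : ∀ {c a b : G}, c ∈ C → a * b = c → k a b = 1 := fun hc e => by
    rw [k, mul_assoc (_ * _), e, mul_self_of_sq pAC.sqB hc]
  have k11 := sqk hc1 e1
  have k22 := sqk hc2 e2
  have inB : ∀ {c a b : G}, c ∈ C → a ∈ W → b ∈ B → a * b = c → c ∈ W := fun hc ha hb e => by
    rw [← pBC.inf]
    exact mem_inf.2 ⟨e ▸ mul_mem (pAB.le_right ha) hb, hc⟩
  have inA : ∀ {c a b : G}, c ∈ C → a ∈ A → b ∈ W → a * b = c → c ∈ W := fun hc ha hb e => by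
    rw [← pAC.inf]
    exact mem_inf.2 ⟨e ▸ mul_mem ha (pAB.le_left hb), hc⟩
  have a1n : a1 ∉ W := fun h => n1 (inB hc1 h hb1 e1)
  have a2n : a2 ∉ W := fun h => n2 (inB hc2 h hb2 e2)
  have b1n : b1 ∉ W := fun h => n1 (inA hc1 ha1 h e1)
  have b2n : b2 ∉ W := fun h => n2 (inA hc2 ha2 h e2)
  have e3 : k a2 b1 * (a1 * a2 * (b1 * b2)) = c1 * c2 := by
    rw [← e1, ← e2]
    calc k a2 b1 * (a1 * a2 * (b1 * b2)) = k a2 b1 * a1 * (a2 * b1) * b2 := by simp [mul_assoc]
      _ = a1 * (k a2 b1 * (a2 * b1)) * b2 := by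
        rw [← comm_of_sq pAB.sqA ha1 (pAB.le_left (pAB.k_mem ha2 hb1))]; simp [mul_assoc]
      _ = a1 * b1 * (a2 * b2) := by
        rw [← pAB.k_comm ha2 hb1, ← pAB.symm.mul_eq hb1 ha2]; simp [mul_assoc]
  have a12n : a1 * a2 ∉ W := fun h => n3 (inB (mul_mem hc1 hc2)
    (mul_mem (pAB.k_mem ha2 hb1) h) (mul_mem hb1 hb2) ((mul_assoc _ _ _).trans e3))
  have b12n : b1 * b2 ∉ W := fun h => n3 (inA (mul_mem hc1 hc2)
    (mul_mem (pAB.le_left (pAB.k_mem ha2 hb1)) (mul_mem ha1 ha2)) h ((mul_assoc _ _ _).trans e3))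
  have lin : ∀ {a : G}, a ∈ A → ∀ {b b' : G}, b ∈ B → b' ∈ B → k a (b * b') = k a b * k a b' := by
    intro a ha b b' hb hb'
    rw [← pAB.k_comm ha (mul_mem hb hb'), pAB.symm.k_mul hb hb' ha, pAB.k_comm ha hb,
      pAB.k_comm ha hb']
  have k33 : k (a1 * a2) (b1 * b2) = 1 := by
    have h := sqk (mul_mem hc1 hc2) ((mul_assoc _ _ _).trans e3)
    rwa [pAB.k_mul (pAB.le_left (pAB.k_mem ha2 hb1)) (mul_mem ha1 ha2) (mul_mem hb1 hb2),
      pAB.k_of_mem (pAB.k_mem ha2 hb1) (mul_mem hb1 hb2), one_mul] at h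
  have w2 : k a1 b2 * k a1 b2 = 1 := mul_self_of_sq pAB.sqA (pAB.le_left (pAB.k_mem ha1 hb2))
  have k21 : k a2 b1 = k a1 b2 := by
    rw [pAB.k_mul ha1 ha2 (mul_mem hb1 hb2), lin ha1 hb1 hb2, lin ha2 hb1 hb2, k11, k22, one_mul,
      mul_one] at k33
    exact mul_left_cancel (k33.trans w2.symm)
  let P : G → Prop := fun z => z = 1 ∨ z = k a1 b2
  have hmul : ∀ {x y : G}, P x → P y → P (x * y) := by
    rintro x y (rfl | rfl) (rfl | rfl) <;> simp [P, w2]
  have hcol : ∀ {b : G}, b ∈ B → P (k a1 b) → P (k a2 b) → ∀ {a : G}, a ∈ A → P (k a b) := by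
    intro b hb h1 h2 a ha
    have st : ∀ {d : G}, d ∈ A → P (k d b) → d * a ∈ W → P (k a b) := fun hd hdb hm => by
      have := pAB.k_mul hd (pAB.le_left hm) hb
      rw [pAB.k_of_mem hm hb, mul_one, ← mul_assoc, mul_self_of_sq pAB.sqA hd, one_mul] at this
      exact this ▸ hdb
    rcases four_cosets pAB.le_left cA cW pAB.sqA ha1 ha2 a1n a2n a12n ha with h | h | h | h
    · exact Or.inl (pAB.k_of_mem h hb)
    · exact st ha1 h1 h
    · exact st ha2 h2 h
    · exact st (mul_mem ha1 ha2) (pAB.k_mul ha1 ha2 hb ▸ hmul h1 h2) h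
  have hall : ∀ {a b : G}, a ∈ A → b ∈ B → P (k a b) := by
    intro a b ha hb
    have h1 : P (k a b1) := hcol hb1 (Or.inl k11) (Or.inr k21) ha
    have h2 : P (k a b2) := hcol hb2 (Or.inr rfl) (Or.inl k22) ha
    have h0 : ∀ {d : G}, d ∈ B → d * b ∈ W → k a b = k a d := fun hd hm => by
      have := lin ha hd (pAB.le_right hm)
      rw [← mul_assoc, mul_self_of_sq pAB.sqB hd, one_mul, ← pAB.k_comm ha (pAB.le_right hm),
        pAB.symm.k_of_mem hm ha, mul_one] at this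
      exact this
    rcases four_cosets pAB.le_right cB cW pAB.sqB hb1 hb2 b1n b2n b12n hb with h | h | h | h
    · exact Or.inl ((pAB.k_comm ha hb).symm.trans (pAB.symm.k_of_mem h ha))
    · exact (h0 hb1 h) ▸ h1
    · exact (h0 hb2 h) ▸ h2
    · exact (h0 (mul_mem hb1 hb2) h).trans (lin ha hb1 hb2) ▸ hmul h1 h2
  have w0W := pAB.k_mem ha1 hb2
  have hr : P (r * k a1 b2 * r⁻¹) := by
    obtain ⟨a, ha, b, hb, e⟩ := hC _ (rB b2 hb2)
    have hcc : b * a = a * b := by
      have h := pAB.mul_eq ha hb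
      rw [sqk (rB b2 hb2) e, one_mul] at h
      exact h.symm
    have hb' := rA a1 ha1
    have hh : r * k a1 b2 * r⁻¹ = k (r * a1 * r⁻¹) a := by
      calc r * k a1 b2 * r⁻¹ = r * a1 * r⁻¹ * (r * b2 * r⁻¹) * (r * a1 * r⁻¹) * (r * b2 * r⁻¹) := by
            simp [k, mul_assoc]
        _ = r * a1 * r⁻¹ * a * ((b * (r * a1 * r⁻¹)) * a) * b := by rw [← e]; simp [mul_assoc]
        _ = r * a1 * r⁻¹ * a * (r * a1 * r⁻¹) * (b * a * b) := by
            rw [comm_of_sq pAB.sqB hb hb']; simp [mul_assoc]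
        _ = k (r * a1 * r⁻¹) a := by
            rw [hcc, mul_assoc a b b, mul_self_of_sq pAB.sqB hb, mul_one]; rfl
    rw [hh, pAB.k_comm ha hb']
    exact hall ha hb'
  have hone : k a1 b2 = 1 := by
    rcases hr with h | h
    · exact conj_eq_one_iff.1 h
    · exact rW _ w0W h
  intro a ha b hb
  have : k a b = 1 := by
    rcases hall ha hb with h | h
    exacts [h, h.trans hone]
  have h := pAB.mul_eq ha hb
  rwa [this, one_mul] at h

end Cfsg.Agent.M23Nse48
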