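import Cfsg.Agent.M23Nse48.IdentPoint
import Cfsg.Agent.Lib.Steiner.AutWitt
import Cfsg.Agent.Lib.Golay.Transitive
import Cfsg.Prelude.Def_Spor_Mathieu

/-!
The cosets through a point form a set with stabiliser of index 23; blocks give an `S(4, 7, 23)`, so
the group is `M₂₃`.
-/

set_option autoImplicit false

namespace Cfsg.Agent.M23Nse48

open Subgroup MulAction Equiv
open scoped Pointwise

variable {G : Type*} [Group G] [Finite G] {Γ : Act G}

namespace Orb

variable (O : Orb Γ)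

theorem fix_label {C : G ⧸ Γ.H} {i : Fin 7} (hC : O.ι C = {i}) {a : G} (ha : a ∈ stab2 C) :
    Γ.per ⟨a, (Subgroup.mem_inf.1 ha).1⟩ i = i := by
  have := O.ι_smul' (Subgroup.mem_inf.1 ha).1 C
  rw [mem_stabilizer_iff.1 (Subgroup.mem_inf.1 ha).2, hC, Finset.image_singleton,
    Finset.singleton_inj] at this
  exact this.symm

theorem orbit_one {i : Fin 7} {C C₁ : G ⧸ Γ.H} (hC : O.ι C = {i}) (hC₁ : O.ι C₁ = {i}) (hne : C₁ ≠ C) :
    orbit (stab2 C) C₁ = {D | O.ι D = {i} ∧ D ≠ C} := by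
  have hCb : C ≠ Γ.base := O.ne_base (by rw [hC]; simp)
  ext D; constructor
  · rintro ⟨a, rfl⟩
    refine ⟨?_, fun e => hne ?_⟩
    · show O.ι ((a : G) • C₁) = {i}
      rw [O.ι_smul' (Subgroup.mem_inf.1 a.2).1, hC₁, Finset.image_singleton, O.fix_label hC a.2]
    · have e' : (a : G) • C₁ = (a : G) • C :=
        e.trans (mem_stabilizer_iff.1 (Subgroup.mem_inf.1 a.2).2).symm
      exact MulAction.injective (a : G) e'
  · rintro ⟨hD, hDC⟩
    have hb : ∀ {x : G ⧸ Γ.H}, O.ι x = {i} → x ≠ Γ.base := fun h => O.ne_base (by rw [h]; simp)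
    obtain ⟨e, he, he1⟩ := O.fiber_trans C C₁ hCb (hb hC₁) (hC.trans hC₁.symm)
    obtain ⟨e', he', he2⟩ := O.fiber_trans C D hCb (hb hD) (hC.trans hD.symm)
    have hn : e ≠ 1 := fun h => hne (by rw [← he1, h, one_smul])
    have hn' : e' ≠ 1 := fun h => hDC (by rw [← he2, h, one_smul])
    obtain ⟨h, hh, hconj⟩ := Γ.trans e he e' he' hn hn'
    obtain ⟨c, hc, hci⟩ := Γ.cz_move he hn i ((Γ.per ⟨h, hh⟩)⁻¹ i)
    set k : Γ.H := ⟨h, hh⟩ * c with hk
    have hki : Γ.per k i = i := by rw [hk, map_mul, Perm.mul_apply, hci, Perm.coe_inv, Equiv.apply_symm_apply]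
    have hι : O.ι ((k : G) • C) = O.ι C := by
      rw [O.ι_smul' k.2, Subtype.coe_eta, hC, Finset.image_singleton, hki]
    obtain ⟨e₂, he₂, he₃⟩ := O.fiber_trans ((k : G) • C) C (hb (hι.trans hC)) hCb hι
    refine ⟨⟨e₂ * k, Subgroup.mem_inf.2 ⟨mul_mem (Γ.E_le he₂) k.2, by
      rw [mem_stabilizer_iff, mul_smul]; exact he₃⟩⟩, ?_⟩
    show (e₂ * (k : G)) • C₁ = D
    have hce : (c : G) * e = e * (c : G) := mem_centralizer_singleton_iff.1 hc
    rw [← he1, ← mul_smul, ← he2]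
    have : e₂ * (k : G) * e = e' * (e₂ * (k : G)) := by
      rw [hk, Subgroup.coe_mul, ← hconj]
      calc e₂ * (h * (c : G)) * e = e₂ * (h * e * h⁻¹) * (h * (c : G)) := by
            rw [mul_assoc e₂, mul_assoc h, hce]; group
        _ = h * e * h⁻¹ * e₂ * (h * (c : G)) := by rw [Γ.comm he₂ (hconj ▸ he')]
        _ = h * e * h⁻¹ * (e₂ * (h * (c : G))) := by rw [mul_assoc]
    rw [this, mul_smul, mul_smul e₂, he₃]

theorem card_orbit_one {i : Fin 7} {C C₁ : G ⧸ Γ.H} (hC : O.ι C = {i}) (hC₁ : O.ι C₁ = {i}) (hne : C₁ ≠ C) :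
    Nat.card (orbit (stab2 C) C₁) = 15 := by
  rw [O.orbit_one hC hC₁ hne, Nat.card_coe_set_eq,
    show {D | O.ι D = {i} ∧ D ≠ C} = {D | O.ι D = {i}} \ {C} from rfl,
    Set.ncard_sdiff_singleton_of_mem (show C ∈ {D | O.ι D = {i}} from hC), ← Nat.card_coe_set_eq]
  exact congrArg (· - 1) (O.card_fiber_one _ (Finset.card_singleton i))

/-- The labels of an orbit of the stabiliser of a coset of the first kind. -/
theorem labels {i : Fin 7} {C : G ⧸ Γ.H} (hC : O.ι C = {i}) {D : G ⧸ Γ.H} (hD : D ≠ Γ.base) :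
    O.ι '' orbit (stab2 C) D = {s | s.card = (O.ι D).card ∧ (i ∈ s ↔ i ∈ O.ι D)} := by
  have hCb : C ≠ Γ.base := O.ne_base (by rw [hC]; simp)
  ext s; constructor
  · rintro ⟨_, ⟨a, rfl⟩, rfl⟩
    show (O.ι ((a : G) • D)).card = _ ∧ (i ∈ O.ι ((a : G) • D) ↔ _)
    rw [O.ι_smul' (Subgroup.mem_inf.1 a.2).1]
    refine ⟨Finset.card_image_of_injective _ (Equiv.injective _), ?_⟩
    have := (Equiv.injective (Γ.per ⟨(a : G), (Subgroup.mem_inf.1 a.2).1⟩)).mem_finset_image (s := O.ι D) (a := i)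
    rwa [O.fix_label hC a.2] at this
  · rintro ⟨hs, hiff⟩
    obtain ⟨σ, hσ, hσi, hσs⟩ : ∃ σ ∈ alternatingGroup (Fin 7), σ i = i ∧ (O.ι D).image σ = s := by
      rcases O.ι_card D hD with h1 | h3
      · obtain ⟨j, hj⟩ := Finset.card_eq_one.1 h1
        obtain ⟨k, rfl⟩ := Finset.card_eq_one.1 (hs.trans h1)
        rw [hj, Finset.mem_singleton, Finset.mem_singleton] at hiff
        by_cases hij : i = j
        · exact ⟨1, one_mem _, rfl, by rw [hj, ← hij, hiff.2 hij]; simp⟩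
        · obtain ⟨σ, h, hi, hjk⟩ := perm_move (Ne.symm hij) (fun e => hij (hiff.1 e.symm))
          exact ⟨σ, h, hi, by rw [hj, Finset.image_singleton, hjk]⟩
      · by_cases hi : i ∈ O.ι D
        · exact perm_triple_in h3 (hs.trans h3) hi (hiff.2 hi)
        · exact perm_triple_out h3 (hs.trans h3) hi (fun h => hi (hiff.1 h))
    obtain ⟨a, ha, hpa⟩ := O.lift hCb hσ (by rw [hC, Finset.image_singleton, hσi])
    refine ⟨(a : G) • D, ⟨⟨a, Subgroup.mem_inf.2 ⟨a.2, ha⟩⟩, rfl⟩, ?_⟩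
    rw [O.ι_smul' a.2, Subtype.coe_eta, hpa, hσs]

theorem card_labels : (∀ i : Fin 7, ((Finset.univ : Finset (Finset (Fin 7))).filter
      fun s => s.card = 1 ∧ i ∉ s).card = 6) ∧
    (∀ i : Fin 7, ((Finset.univ : Finset (Finset (Fin 7))).filter
      fun s => s.card = 3 ∧ i ∈ s).card = 15) ∧
    ∀ i : Fin 7, ((Finset.univ : Finset (Finset (Fin 7))).filter
      fun s => s.card = 3 ∧ i ∉ s).card = 20 := by
  refine ⟨?_, ?_, ?_⟩ <;> decide +kernel

theorem card_orbit_label {i : Fin 7} {C : G ⧸ Γ.H} (hC : O.ι C = {i}) {D : G ⧸ Γ.H} (hD : D ≠ Γ.base) :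
    ((O.ι D).card = 3 ∧ i ∈ O.ι D → Nat.card (orbit (stab2 C) D) =
      15 * Nat.card {x : G ⧸ Γ.H // x ∈ orbit (stab2 C) D ∧ O.ι x = O.ι D}) ∧
    (i ∉ O.ι D → 6 ∣ Nat.card (orbit (stab2 C) D) ∨ 20 ∣ Nat.card (orbit (stab2 C) D)) := by
  classical
  have hkey := card_orbit_fiber O.ι (fun (a : stab2 C) s => s.image (Γ.per ⟨a, (Subgroup.mem_inf.1 a.2).1⟩))
    (fun a x => O.ι_smul' (Subgroup.mem_inf.1 a.2).1 x) D
  rw [O.labels hC hD] at hkey
  obtain ⟨h6, h15, h20⟩ := card_labels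
  have hc : ∀ (p : Finset (Fin 7) → Prop) [DecidablePred p],
      Nat.card {s | p s} = ((Finset.univ : Finset (Finset (Fin 7))).filter p).card := fun p _ => by
    rw [Nat.card_eq_fintype_card, Fintype.card_subtype]; rfl
  constructor
  · rintro ⟨h3, hi⟩
    rw [hkey, ← h15 i, ← hc]
    congr 2
    refine congrArg (fun S : Set (Finset (Fin 7)) => ↥S) (Set.ext fun s => ?_)
    simp [h3, hi]
  · intro hi
    rcases O.ι_card D hD with h1 | h3
    · left; rw [hkey, ← h6 i, ← hc]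
      refine Dvd.intro _ (congrArg (· * _) (congrArg (fun S : Set (Finset (Fin 7)) => Nat.card S)
        (Set.ext fun s => ?_)))
      simp [h1, hi]
    · right; rw [hkey, ← h20 i, ← hc]
      refine Dvd.intro _ (congrArg (· * _) (congrArg (fun S : Set (Finset (Fin 7)) => Nat.card S)
        (Set.ext fun s => ?_)))
      simp [h3, hi]

theorem mem_of_card_orbit {i : Fin 7} {C : G ⧸ Γ.H} (hC : O.ι C = {i}) {D : G ⧸ Γ.H} {n : ℕ}
    (hn : n = 15 ∨ n = 45) (h : Nat.card (orbit (stab2 C) D) = n) :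
    D ≠ Γ.base ∧ i ∈ O.ι D := by
  have hD : D ≠ Γ.base := by
    rintro rfl
    have : orbit (stab2 C) Γ.base = {Γ.base} := by
      refine Set.eq_singleton_iff_unique_mem.2 ⟨mem_orbit_self _, ?_⟩
      rintro _ ⟨a, rfl⟩
      exact Γ.smul_base (Subgroup.mem_inf.1 a.2).1
    rw [this, Nat.card_coe_set_eq, Set.ncard_singleton] at h
    omega
  refine ⟨hD, ?_⟩
  by_contra hi
  rcases (O.card_orbit_label hC hD).2 hi with h' | h' <;> rw [h] at h' <;> omega

theorem K_smul {i : Fin 7} {h : G} (hh : h ∈ Γ.K i) (D : G ⧸ Γ.H) :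
    (h • D = Γ.base ↔ D = Γ.base) ∧ (i ∈ O.ι (h • D) ↔ i ∈ O.ι D) ∧ (O.ι (h • D) = {i} ↔ O.ι D = {i}) := by
  obtain ⟨hhH, hfix⟩ := Act.mem_K.1 hh
  refine ⟨⟨fun e => MulAction.injective h (e.trans (Γ.smul_base hhH).symm), fun e => e ▸ Γ.smul_base hhH⟩,
    ?_, ?_⟩
  · rw [O.ι_smul' hhH]
    conv_lhs => rw [← hfix]
    exact (Equiv.injective _).mem_finset_image
  · rw [O.ι_smul' hhH]
    constructor
    · intro e
      refine Finset.image_injective (Equiv.injective (Γ.per ⟨h, hhH⟩)) ?_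
      show (O.ι D).image _ = ({i} : Finset (Fin 7)).image _
      rw [e, Finset.image_singleton, hfix]
    · intro e; rw [e, Finset.image_singleton, hfix]

theorem mem_K_of {i : Fin 7} {S : Set (G ⧸ Γ.H)} {C : G ⧸ Γ.H} (hC : O.ι C = {i}) (hCS : C ∈ S)
    (hS : ∀ D ∈ S, D ≠ Γ.base → i ∈ O.ι D) {h : G} (hh : h ∈ stabilizer G S) (hH : h ∈ Γ.H) :
    h ∈ Γ.K i := by
  refine Act.mem_K.2 ⟨hH, ?_⟩
  have hmem : h • C ∈ S := (mem_stabilizer_iff.1 hh).subset (Set.smul_mem_smul_set hCS)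
  have hι : O.ι (h • C) = {Γ.per ⟨h, hH⟩ i} := by rw [O.ι_smul' hH, hC, Finset.image_singleton]
  have := hS _ hmem (O.ne_base (by rw [hι]; simp))
  rw [hι, Finset.mem_singleton] at this
  exact this.symm

theorem K_le_stab {i : Fin 7} {S : Set (G ⧸ Γ.H)}
    (hS : ∀ h ∈ Γ.K i, ∀ D, h • D ∈ S ↔ D ∈ S) : Γ.K i ≤ stabilizer G S := by
  intro h hh
  rw [mem_stabilizer_iff]
  ext D
  rw [Set.mem_smul_set_iff_inv_smul_mem, hS _ (inv_mem hh)]

theorem sum76 : ∀ i : Fin 7, (∑ s ∈ (Finset.univ : Finset (Finset (Fin 7))).filter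
    (fun s => (s.card = 1 ∨ s.card = 3) ∧ i ∈ s), if s.card = 1 then 16 else 4) = 76 := by decide +kernel

/-- An exchanging element does not fix the set of the base and the cosets of its label. -/
theorem not_seventeen {i : Fin 7} {C : G ⧸ Γ.H} (hC : O.ι C = {i}) {g : G}
    (hg1 : g • Γ.base = C) (hcard : Nat.card G = 10200960)
    (hg : ∀ D : G ⧸ Γ.H, (D = Γ.base ∨ O.ι D = {i}) → (g • D = Γ.base ∨ O.ι (g • D) = {i})) : False := by
  set S : Set (G ⧸ Γ.H) := {D | D = Γ.base ∨ O.ι D = {i}} with hS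
  have hgS : g ∈ stabilizer G S := by
    rw [mem_stabilizer_iff]
    exact Set.eq_of_subset_of_ncard_le (by rintro _ ⟨D, hD, rfl⟩; exact hg D hD)
      (by rw [Set.ncard_smul_set]) (Set.toFinite _)
  have hK := K_le_stab (i := i) (S := S) fun h hh D =>
    or_congr (O.K_smul hh D).1 (O.K_smul hh D).2.2
  have hc := card_stab (S := S) (i := i) (Or.inl rfl) hK
    (fun h hh hH => O.mem_K_of hC (Or.inr hC) (fun D hD hne => by
      rw [hD.resolve_left hne]; simp) hh hH) ?_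
  · have hcardS : Nat.card S = 17 := by
      rw [Nat.card_coe_set_eq, hS, show {D | D = Γ.base ∨ O.ι D = {i}} = insert Γ.base {D | O.ι D = {i}} from rfl,
        Set.ncard_insert_of_notMem (show Γ.base ∉ {D | O.ι D = {i}} from fun h => by
          rw [Set.mem_ofPred_eq, O.ι_base] at h; exact absurd h.symm (Finset.singleton_ne_empty i)),
        ← Nat.card_coe_set_eq]
      exact congrArg (· + 1) (O.card_fiber_one _ (Finset.card_singleton i))
    have := Subgroup.card_subgroup_dvd_card (stabilizer G S)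
    rw [hc, hcardS, hcard] at this
    norm_num at this
  · rintro D (rfl | hD)
    · exact ⟨1, one_mem _, one_smul _ _⟩
    · obtain ⟨e, he, hec⟩ := O.fiber_trans C D (O.ne_base (by rw [hC]; simp)) (O.ne_base (by rw [hD]; simp))
        (hC.trans hD.symm)
      refine ⟨e * g, mul_mem (hK (Act.mem_K.2 ⟨Γ.E_le he, ?_⟩)) hgS, by rw [mul_smul, hg1, hec]⟩
      rw [Γ.per_eq_one.2 he]; rfl

/-- An exchanging element moves the cosets through the point to themselves. -/
theorem exists_geo (hcard : Nat.card G = 10200960) (i : Fin 7) :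
    ∃ (C : G ⧸ Γ.H) (g : G), O.ι C = {i} ∧ g • Γ.base = C ∧ g ∈ stabilizer G (O.pts i) ∧
      ∃ C₁, O.ι C₁ = {i} ∧ (O.ι (g • C₁)).card = 3 ∧ i ∈ O.ι (g • C₁) := by
  classical
  obtain ⟨C, hC⟩ := O.exists_single i
  have hCb : C ≠ Γ.base := O.ne_base (by rw [hC]; simp)
  obtain ⟨g, hg1, hg2⟩ := O.exists_swap (C := C) (by rw [hC]; rfl)
  obtain ⟨C₁, hC₁, hne⟩ : ∃ C₁, O.ι C₁ = {i} ∧ C₁ ≠ C := by
    by_contra hcon
    push Not at hcon
    have : Nat.card {x : G ⧸ Γ.H // O.ι x = {i}} ≤ 1 := Finite.card_le_one_iff_subsingleton.2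
      ⟨fun a b => Subtype.ext ((hcon a.1 a.2).trans (hcon b.1 b.2).symm)⟩
    rw [O.card_fiber_one _ (Finset.card_singleton i)] at this
    omega
  have hC1orb : ∀ {D}, O.ι D = {i} → D ≠ C → D ∈ orbit (stab2 C) C₁ := fun h h' => by
    rw [O.orbit_one hC hC₁ hne]; exact ⟨h, h'⟩
  set C₀ := g • C₁ with hC₀
  set O₂ := orbit (stab2 C) C₀ with hO₂
  have hgO : ∀ {D}, D ∈ orbit (stab2 C) C₁ → g • D ∈ O₂ := fun h => by
    rw [hO₂, hC₀, smul_orbit_stab2 hg1 hg2]; exact ⟨_, h, rfl⟩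
  have hO2 : Nat.card O₂ = 15 := by rw [hO₂, hC₀, orbit_stab2 hg1 hg2, O.card_orbit_one hC hC₁ hne]
  obtain ⟨hb2, hi2⟩ := O.mem_of_card_orbit hC (Or.inl rfl) hO2
  have h3 : (O.ι C₀).card = 3 := by
    rcases O.ι_card _ hb2 with h1 | h3
    · exfalso
      obtain ⟨j, hj⟩ := Finset.card_eq_one.1 h1
      rw [hj, Finset.mem_singleton] at hi2
      subst hi2
      have hne0 : C₀ ≠ C := fun e => O.ne_base (C := C₁) (by rw [hC₁]; simp)
        (MulAction.injective g (e.trans hg1.symm))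
      refine O.not_seventeen hC hg1 hcard ?_
      rintro D (rfl | hD)
      · exact Or.inr (hg1 ▸ hC)
      · by_cases hDC : D = C
        · exact Or.inl (hDC ▸ hg2)
        · have := hgO (hC1orb hD hDC)
          rw [hO₂, O.orbit_one hC hj hne0] at this
          exact Or.inr this.1
    · exact h3
  -- one coset of the second orbit over each triple
  have hfib : Nat.card {x : G ⧸ Γ.H // x ∈ O₂ ∧ O.ι x = O.ι C₀} = 1 := by
    have := (O.card_orbit_label hC hb2).1 ⟨h3, hi2⟩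
    rw [← hO₂, hO2] at this
    omega
  have huniq : ∀ x ∈ O₂, O.ι x = O.ι C₀ → x = C₀ := by
    intro x hx hxι
    haveI := (Nat.card_eq_one_iff_unique.1 hfib).1
    exact congrArg Subtype.val (Subsingleton.elim (α := {x : G ⧸ Γ.H // x ∈ O₂ ∧ O.ι x = O.ι C₀})
      ⟨x, hx, hxι⟩ ⟨C₀, mem_orbit_self _, rfl⟩)
  -- the other cosets over the triples form one orbit
  obtain ⟨σ, hσ, hσ3, hσT⟩ := perm_cycle h3
  obtain ⟨y, hy, hyσ⟩ := O.lift hCb hσ (by rw [hC, Finset.image_singleton, hσT i hi2])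
  have hyA : (y : G) ∈ stab2 C := Subgroup.mem_inf.2 ⟨y.2, hy⟩
  have hyι : ∀ x, O.ι x = O.ι C₀ → O.ι ((y : G) • x) = O.ι C₀ := fun x hx => by
    rw [O.ι_smul' y.2, Subtype.coe_eta, hyσ, hx, Finset.image_congr (s := O.ι C₀) (g := id) hσT,
      Finset.image_id]
  have hy0 : (y : G) • C₀ = C₀ := huniq _ (mem_orbit C₀ (⟨y, hyA⟩ : stab2 C)) (hyι C₀ rfl)
  have hy3 : (y : G) ^ 3 = 1 := by
    have h1 : (y : G) ^ 3 ∈ Γ.E := by
      rw [← Subgroup.coe_pow, ← Γ.per_eq_one, map_pow, hyσ, ← hσ3.orderOf, pow_orderOf_eq_one]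
    have h2 : (y : G) ^ 3 ∈ Γ.E ⊓ stabilizer G C :=
      Subgroup.mem_inf.2 ⟨h1, pow_mem (Subgroup.mem_inf.1 hyA).2 3⟩
    rwa [O.inf_one C (by rw [hC]; rfl), mem_bot] at h2
  have hmove : ∀ x, O.ι x = O.ι C₀ → x ≠ C₀ → (y : G) • x ≠ x := by
    intro x hx hxne e
    obtain ⟨a, ha, rfl⟩ := O.fiber_trans C₀ x hb2 (O.ne_base (hx ▸ ⟨i, hi2⟩)) hx.symm
    have hcy : ∀ b ∈ Γ.E, (y : G) * b * (y : G)⁻¹ ∈ Γ.E := fun b hb => Γ.conj_mem y.2 hb
    set f := a * ((y : G) * a * (y : G)⁻¹) with hf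
    have hfE : f ∈ Γ.E := mul_mem ha (hcy a ha)
    have hf0 : f • C₀ = C₀ := by
      have h' : ((y : G) * a * (y : G)⁻¹) • C₀ = a • C₀ := by
        rw [mul_smul, mul_smul, inv_smul_eq_iff.2 hy0.symm, e]
      rw [hf, mul_smul, h', ← mul_smul, ← pow_two, Γ.sq a ha, one_smul]
    set c := fun b => (y : G) * b * (y : G)⁻¹ with hc
    have hfix : (y : G) * (a * c a * c (c a)) = (a * c a * c (c a)) * (y : G) := by
      have hcm : ∀ u v, c (u * v) = c u * c v := fun u v => by simp only [hc]; group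
      have h3' : c (c (c a)) = a := by
        simp only [hc]
        calc (y : G) * ((y : G) * ((y : G) * a * (y : G)⁻¹) * (y : G)⁻¹) * (y : G)⁻¹
            = ((y : G) * (y : G) * (y : G)) * a * ((y : G) * (y : G) * (y : G))⁻¹ := by group
          _ = a := by rw [← pow_three', hy3]; simp
      have : c (a * c a * c (c a)) = a * c a * c (c a) := by
        rw [hcm, hcm, h3', Γ.comm (mul_mem (hcy a ha) (hcy _ (hcy a ha))) ha, ← mul_assoc]
      simp only [hc] at this ⊢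
      exact mul_inv_eq_iff_eq_mul.1 this
    have h1 := Γ.cycle_fpf (y := y) (hyσ ▸ hσ3) (mul_mem (mul_mem ha (hcy a ha)) (hcy _ (hcy a ha))) hfix
    -- so `a` is the conjugate of `f`, which fixes `C₀`
    have hcc : c (c a) = f := by
      have h' : c (c a) = (a * c a)⁻¹ := eq_inv_of_mul_eq_one_right h1
      rw [h', show f = a * c a from rfl]
      exact Γ.inv_eq (mul_mem ha (hcy a ha))
    have hca : a = c f := by
      rw [← hcc]; simp only [hc]
      calc a = ((y : G) * (y : G) * (y : G)) * a * ((y : G) * (y : G) * (y : G))⁻¹ := by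
            rw [← pow_three', hy3]; simp
        _ = _ := by group
    exact hxne (by rw [hca]; simp only [hc]; rw [mul_smul, mul_smul, inv_smul_eq_iff.2 hy0.symm, hf0, hy0])
  have hR : ∀ D, (O.ι D).card = 3 → i ∈ O.ι D → D ∉ O₂ → Nat.card (orbit (stab2 C) D) = 45 := by
    intro D hD3 hDi hD
    have hDb : D ≠ Γ.base := O.ne_base ⟨i, hDi⟩
    -- move into the fibre of C₀
    obtain ⟨_, ⟨a, rfl⟩, hDa⟩ : O.ι C₀ ∈ O.ι '' orbit (stab2 C) D := by
      rw [O.labels hC hDb]; exact ⟨h3.trans hD3.symm, iff_of_true hi2 hDi⟩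
    set D' := (a : G) • D with hD'
    have horb : orbit (stab2 C) D' = orbit (stab2 C) D := MulAction.orbit_eq_iff.2 ⟨a, rfl⟩
    have hD'2 : D' ∉ O₂ := fun h => hD (by
      rw [hO₂, ← MulAction.orbit_eq_iff.2 h, horb]
      exact mem_orbit_self _)
    have hD'0 : D' ≠ C₀ := fun e => hD'2 (e ▸ mem_orbit_self _)
    have hι' : O.ι D' = O.ι C₀ := hDa
    have hD'b : D' ≠ Γ.base := O.ne_base (hι' ▸ ⟨i, hi2⟩)
    rw [← horb, (O.card_orbit_label hC hD'b).1 ⟨hι' ▸ h3, hι' ▸ hi2⟩]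
    have hge : 3 ≤ Nat.card {x : G ⧸ Γ.H // x ∈ orbit (stab2 C) D' ∧ O.ι x = O.ι D'} := by
      have h1 : (y : G) • D' ≠ D' := hmove D' hι' hD'0
      have h2 : (y : G) • (y : G) • D' ≠ D' := fun e => h1 (by
        conv_rhs => rw [← one_smul G D', ← hy3, pow_succ', pow_two, mul_smul, mul_smul, e])
      have h3' : (y : G) • (y : G) • D' ≠ (y : G) • D' := fun e => h1 (MulAction.injective _ e)
      have hsub : ({D', (y : G) • D', (y : G) • (y : G) • D'} : Finset (G ⧸ Γ.H)).card = 3 :=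
        Finset.card_eq_three.2 ⟨_, _, _, h1.symm, h2.symm, h3'.symm, rfl⟩
      rw [← hsub, ← Nat.card_eq_finsetCard]
      refine Nat.card_le_card_of_injective (fun x => ⟨x.1, ?_⟩) fun p q h => Subtype.ext (congrArg Subtype.val h :)
      have h := x.2
      simp only [Finset.mem_insert, Finset.mem_singleton] at h
      rw [hι']
      rcases h with e | e | e <;> rw [e]
      · exact ⟨mem_orbit_self _, hι'⟩
      · exact ⟨mem_orbit D' (⟨y, hyA⟩ : stab2 C), hyι _ hι'⟩
      · exact ⟨mem_orbit_of_mem_orbit (⟨y, hyA⟩ : stab2 C) (mem_orbit D' (⟨y, hyA⟩ : stab2 C)),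
          hyι _ (hyι _ hι')⟩
    have hle : Nat.card {x : G ⧸ Γ.H // x ∈ orbit (stab2 C) D' ∧ O.ι x = O.ι D'} ≤ 3 := by
      have h4 := O.card_fiber_three (O.ι C₀) h3
      have : {x : G ⧸ Γ.H | x ∈ orbit (stab2 C) D' ∧ O.ι x = O.ι D'} ⊆ {x | O.ι x = O.ι C₀} \ {C₀} := by
        rintro x ⟨hx, hxι⟩
        refine ⟨hxι.trans hι', fun e => hD'2 ?_⟩
        rw [hO₂, ← Set.mem_singleton_iff.1 e, MulAction.orbit_eq_iff.2 hx]
        exact mem_orbit_self _
      have := Set.ncard_le_ncard this (Set.toFinite _)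
      rw [Set.ncard_sdiff_singleton_of_mem (show C₀ ∈ {x | O.ι x = O.ι C₀} from rfl)] at this
      rw [← Set.coe_ofPred, Nat.card_coe_set_eq]
      rw [← Set.coe_ofPred, Nat.card_coe_set_eq] at h4
      omega
    rw [le_antisymm hle hge]
  have hgpts : g ∈ stabilizer G (O.pts i) := by
    rw [mem_stabilizer_iff]
    refine Set.eq_of_subset_of_ncard_le ?_ (by rw [Set.ncard_smul_set]) (Set.toFinite _)
    rintro _ ⟨D, hD, rfl⟩
    rcases hD with rfl | hDi
    · exact Or.inr (by show i ∈ O.ι (g • Γ.base); rw [hg1, hC]; simp)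
    have hDb : D ≠ Γ.base := O.ne_base ⟨i, hDi⟩
    rcases O.ι_card D hDb with h1 | hD3
    · obtain ⟨j, hj⟩ := Finset.card_eq_one.1 h1
      rw [hj, Finset.mem_singleton] at hDi
      subst hDi
      by_cases hDC : D = C
      · exact Or.inl (hDC ▸ hg2)
      · right
        obtain ⟨a, ha⟩ := hgO (hC1orb hj hDC)
        show i ∈ O.ι (g • D)
        rw [← ha]
        show i ∈ O.ι ((a : G) • C₀)
        rw [O.ι_smul' (Subgroup.mem_inf.1 a.2).1]
        exact Finset.mem_image.2 ⟨i, hi2, O.fix_label hC a.2⟩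
    · by_cases hD2 : D ∈ O₂
      · obtain ⟨a, rfl⟩ := hD2
        refine Or.inr ?_
        show i ∈ O.ι (g • (a : G) • C₀)
        have hgg : g * g ∈ stab2 C := by
          refine Subgroup.mem_inf.2 ⟨?_, ?_⟩
          · rw [← Γ.stab_base, mem_stabilizer_iff, mul_smul, hg1, hg2]
          · rw [mem_stabilizer_iff, mul_smul, hg2, hg1]
        have hb := mul_mem (stab2_conj hg1 hg2 a.2) hgg
        have : g • (a : G) • C₀ = (g * a * g⁻¹ * (g * g)) • C₁ := by
          rw [hC₀]; simp only [← mul_smul]; congr 1; group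
        rw [this, O.ι_smul' (Subgroup.mem_inf.1 hb).1, hC₁, Finset.image_singleton, O.fix_label hC hb]
        simp
      · have h45 := hR D hD3 hDi hD2
        exact Or.inr (O.mem_of_card_orbit hC (Or.inr rfl)
          (by rw [orbit_stab2 hg1 hg2, h45])).2
  exact ⟨C, g, hC, hg1, hgpts, C₁, hC₁, h3, hi2⟩

theorem exists_pts (hcard : Nat.card G = 10200960) (i : Fin 7) :
    Nat.card (orbit G (O.pts i)) = 23 ∧
      ∀ D ∈ O.pts i, ∃ m ∈ stabilizer G (O.pts i), m • Γ.base = D := by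
  obtain ⟨C, g, hC, hg1, hgS, C₁, hC₁, h3, hi⟩ := O.exists_geo hcard i
  have hCb : C ≠ Γ.base := O.ne_base (by rw [hC]; simp)
  have hK := K_le_stab (i := i) (S := O.pts i) fun h hh D =>
    or_congr (O.K_smul hh D).1 (O.K_smul hh D).2.1
  have hKE : ∀ {e}, e ∈ Γ.E → e ∈ Γ.K i := fun {e} he =>
    Act.mem_K.2 ⟨Γ.E_le he, by rw [Γ.per_eq_one.2 he]; rfl⟩
  have h1 : ∀ D, O.ι D = {i} → ∃ m ∈ stabilizer G (O.pts i), m • Γ.base = D := by
    intro D hD
    obtain ⟨e, he, hec⟩ := O.fiber_trans C D hCb (O.ne_base (by rw [hD]; simp)) (hC.trans hD.symm)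
    exact ⟨e * g, mul_mem (hK (hKE he)) hgS, by rw [mul_smul, hg1, hec]⟩
  have htr : ∀ D ∈ O.pts i, ∃ m ∈ stabilizer G (O.pts i), m • Γ.base = D := by
    rintro D (rfl | hD)
    · exact ⟨1, one_mem _, one_smul _ _⟩
    · rcases O.ι_card D (O.ne_base ⟨i, hD⟩) with hc | hc
      · obtain ⟨j, hj⟩ := Finset.card_eq_one.1 hc
        rw [hj, Finset.mem_singleton] at hD
        exact h1 D (hD ▸ hj)
      · obtain ⟨m₁, hm₁, hmC₁⟩ := h1 C₁ hC₁
        have hm1 : ∃ m ∈ stabilizer G (O.pts i), m • Γ.base = g • C₁ :=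
          ⟨g * m₁, mul_mem hgS hm₁, by rw [mul_smul, hmC₁]⟩
        obtain ⟨m, hm, hmC⟩ := hm1
        obtain ⟨σ, hσ, hσi, hσs⟩ := perm_triple_in h3 hc hi hD
        obtain ⟨a, ha, hap⟩ := O.move ⟨i, hi⟩ hσ hσs
        refine ⟨a * m, mul_mem (hK (Act.mem_K.2 ⟨a.2, ?_⟩)) hm, by rw [mul_smul, hmC, ha]⟩
        rw [Subtype.coe_eta, hap, hσi]
  have hc := card_stab (S := O.pts i) (i := i) (O.base_mem i) hK
    (fun h hh hH => O.mem_K_of hC (Or.inr (by rw [hC]; simp)) (fun D hD hne => hD.resolve_left hne) hh hH) htr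
  have hpts : Nat.card (O.pts i) = 77 := by
    classical
    haveI : Fintype (G ⧸ Γ.H) := Fintype.ofFinite _
    have hs : (Finset.univ.filter fun D => i ∈ O.ι D).card = 76 := by
      rw [Finset.card_eq_sum_card_fiberwise (f := O.ι)
        (t := Finset.univ.filter fun s => (s.card = 1 ∨ s.card = 3) ∧ i ∈ s)]
      · rw [Finset.sum_congr rfl (g := fun s => if s.card = 1 then 16 else 4)]
        · exact sum76 i
        · intro s hs
          obtain ⟨-, hs1, hs2⟩ := Finset.mem_filter.1 hs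
          rw [Finset.filter_filter, ← Fintype.card_subtype, ← Nat.card_eq_fintype_card]
          have e : ∀ D, (i ∈ O.ι D ∧ O.ι D = s) ↔ O.ι D = s :=
            fun D => ⟨fun h => h.2, fun h => ⟨h ▸ hs2, h⟩⟩
          rw [Nat.card_congr (Equiv.subtypeEquivRight e)]
          rcases hs1 with h | h
          · rw [if_pos h, O.card_fiber_one s h]
          · rw [if_neg (by omega), O.card_fiber_three s h]
      · intro D hD
        have hD' : i ∈ O.ι D := (Finset.mem_filter.1 hD).2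
        exact Finset.mem_coe.2 (Finset.mem_filter.2 ⟨Finset.mem_univ _, O.ι_card D (O.ne_base ⟨i, hD'⟩), hD'⟩)
    rw [Nat.card_coe_set_eq, show O.pts i = insert Γ.base {D | i ∈ O.ι D} from rfl,
      Set.ncard_insert_of_notMem (show Γ.base ∉ {D | i ∈ O.ι D} from fun h => by simp [O.ι_base] at h)
        (Set.toFinite _), show {D | i ∈ O.ι D} = ↑(Finset.univ.filter fun D => i ∈ O.ι D) by simp,
      Set.ncard_coe_finset, hs]
  have := (stabilizer G (O.pts i)).card_mul_index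
  rw [hc, hpts, hcard, index_stabilizer, ← Nat.card_coe_set_eq] at this
  exact ⟨by omega, htr⟩

theorem smul_pts (h : Γ.H) (i : Fin 7) : (h : G) • O.pts i = O.pts (Γ.per h i) := by
  ext D
  rw [Set.mem_smul_set_iff_inv_smul_mem]
  constructor
  · rintro (e | e)
    · exact Or.inl (by rw [← smul_inv_smul (h : G) D, e, Γ.smul_base h.2])
    · refine Or.inr ?_
      show Γ.per h i ∈ O.ι D
      rw [← smul_inv_smul (h : G) D, O.ι_smul' h.2]
      exact Finset.mem_image_of_mem _ e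
  · rintro (e | e)
    · exact Or.inl (by rw [e, Γ.smul_base (inv_mem h.2)])
    · refine Or.inr ?_
      show i ∈ O.ι ((h : G)⁻¹ • D)
      rw [O.ι_smul' (inv_mem h.2)]
      refine Finset.mem_image.2 ⟨_, e, ?_⟩
      show Γ.per h⁻¹ (Γ.per h i) = i
      rw [← Perm.mul_apply, ← map_mul, inv_mul_cancel, map_one, Perm.one_apply]

theorem mem_orbit_pts (j : Fin 7) : O.pts j ∈ orbit G (O.pts 0) := by
  obtain ⟨σ, hσ, hj⟩ := perm_move' 0 j
  obtain ⟨h, hh⟩ := Γ.per_lift hσ
  exact ⟨(h : G), show (h : G) • O.pts 0 = O.pts j by rw [O.smul_pts, hh, hj]⟩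

theorem pts_injective : Function.Injective O.pts := by
  intro j k h
  obtain ⟨C, hC⟩ := O.exists_single j
  have hm : C ∈ O.pts k := h ▸ Or.inr (by rw [hC]; simp)
  have := hm.resolve_left (O.ne_base (by rw [hC]; simp))
  rw [hC, Finset.mem_singleton] at this
  exact this.symm

theorem points_base (hcard : Nat.card G = 10200960) {p : Set (G ⧸ Γ.H)} (hp : p ∈ orbit G (O.pts 0))
    (hb : Γ.base ∈ p) : ∃ j, p = O.pts j := by
  obtain ⟨x, rfl⟩ := hp
  have hb' : x⁻¹ • Γ.base ∈ O.pts 0 := Set.mem_smul_set_iff_inv_smul_mem.1 hb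
  obtain ⟨m, hm, hmb⟩ := (O.exists_pts hcard 0).2 _ hb'
  have hH : x * m ∈ Γ.H := by
    rw [← Γ.stab_base, mem_stabilizer_iff, mul_smul, hmb, smul_inv_smul]
  refine ⟨Γ.per ⟨x * m, hH⟩ 0, ?_⟩
  rw [← O.smul_pts]
  show x • O.pts 0 = (x * m) • O.pts 0
  rw [mul_smul, mem_stabilizer_iff.1 hm]

open scoped Classical in
/-- The block of a coset: the points through it. -/
noncomputable def block [Fintype (orbit G (O.pts 0))] (X : G ⧸ Γ.H) : Finset (orbit G (O.pts 0)) :=
  Finset.univ.filter fun p => X ∈ (p : Set (G ⧸ Γ.H))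

theorem mem_block [Fintype (orbit G (O.pts 0))] {X : G ⧸ Γ.H} {p : orbit G (O.pts 0)} :
    p ∈ O.block X ↔ X ∈ (p : Set (G ⧸ Γ.H)) := by
  classical
  simp [block]

theorem smul_block [Fintype (orbit G (O.pts 0))] [DecidableEq (orbit G (O.pts 0))] (g : G) (X : G ⧸ Γ.H) :
    (O.block X).image (fun p => g • p) = O.block (g • X) := by
  ext p
  rw [Finset.mem_image, mem_block]
  constructor
  · rintro ⟨q, hq, rfl⟩
    exact Set.smul_mem_smul_set (O.mem_block.1 hq)
  · intro hp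
    exact ⟨g⁻¹ • p, O.mem_block.2 (Set.mem_smul_set_iff_inv_smul_mem.2 (by rwa [inv_inv])), smul_inv_smul g p⟩

theorem block_base [Fintype (orbit G (O.pts 0))] [DecidableEq (orbit G (O.pts 0))]
    (hcard : Nat.card G = 10200960) :
    O.block Γ.base = Finset.univ.image (fun j => (⟨O.pts j, O.mem_orbit_pts j⟩ : orbit G (O.pts 0))) := by
  ext p
  rw [mem_block, Finset.mem_image]
  constructor
  · intro hp
    obtain ⟨j, hj⟩ := O.points_base hcard p.2 hp
    exact ⟨j, Finset.mem_univ _, Subtype.ext hj.symm⟩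
  · rintro ⟨j, -, rfl⟩; exact O.base_mem j

theorem card_block [Fintype (orbit G (O.pts 0))] [DecidableEq (orbit G (O.pts 0))]
    (hcard : Nat.card G = 10200960) (X : G ⧸ Γ.H) : (O.block X).card = 7 := by
  obtain ⟨g, rfl⟩ := MulAction.exists_smul_eq G Γ.base X
  rw [← O.smul_block, Finset.card_image_of_injective _ (MulAction.injective g), O.block_base hcard,
    Finset.card_image_of_injective _ (fun a b h => O.pts_injective (congrArg Subtype.val h))]
  rfl

theorem card_inter [Fintype (orbit G (O.pts 0))] [DecidableEq (orbit G (O.pts 0))]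
    (hcard : Nat.card G = 10200960) {X Y : G ⧸ Γ.H} (hne : X ≠ Y) :
    (O.block X ∩ O.block Y).card ≤ 3 := by
  obtain ⟨g, rfl⟩ := MulAction.exists_smul_eq G Γ.base X
  have hY : g⁻¹ • Y ≠ Γ.base := fun e => hne (by rw [← e, smul_inv_smul])
  have hsub : (O.block Γ.base ∩ O.block (g⁻¹ • Y)) ⊆ (O.ι (g⁻¹ • Y)).image
      (fun j => (⟨O.pts j, O.mem_orbit_pts j⟩ : orbit G (O.pts 0))) := by
    intro p hp
    rw [Finset.mem_inter, O.block_base hcard, Finset.mem_image] at hp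
    obtain ⟨⟨j, -, rfl⟩, hp2⟩ := hp
    exact Finset.mem_image.2 ⟨j, (O.mem_block.1 hp2).resolve_left hY, rfl⟩
  have h3 : (O.ι (g⁻¹ • Y)).card ≤ 3 := by rcases O.ι_card _ hY with h | h <;> omega
  calc (O.block (g • Γ.base) ∩ O.block Y).card
      = ((O.block Γ.base).image (fun p => g • p) ∩ (O.block (g⁻¹ • Y)).image (fun p => g • p)).card := by
        rw [O.smul_block, O.smul_block, smul_inv_smul]
    _ = (O.block Γ.base ∩ O.block (g⁻¹ • Y)).card := by
        rw [← Finset.image_inter _ _ (MulAction.injective g), Finset.card_image_of_injective _ (MulAction.injective g)]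
    _ ≤ 3 := ((Finset.card_le_card hsub).trans Finset.card_image_le).trans h3

theorem steiner [Fintype (orbit G (O.pts 0))] [DecidableEq (orbit G (O.pts 0))]
    (hcard : Nat.card G = 10200960) : Cfsg.IsSteinerSystem 4 7 (Set.range O.block) := by
  classical
  haveI : Fintype (G ⧸ Γ.H) := Fintype.ofFinite _
  have hX : Fintype.card (G ⧸ Γ.H) = 253 := by
    have := Γ.H.card_mul_index
    rw [Subgroup.index, Γ.card_H, hcard, Nat.card_eq_fintype_card] at this
    omega
  have hu : ∀ {X Y : G ⧸ Γ.H} {s : Finset (orbit G (O.pts 0))}, s.card = 4 → s ⊆ O.block X →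
      s ⊆ O.block Y → X = Y := fun hs h1 h2 => by
    by_contra hne
    have := (Finset.card_le_card (Finset.subset_inter h1 h2)).trans (O.card_inter hcard hne)
    omega
  refine ⟨?_, fun s hs => ?_⟩
  · rintro _ ⟨X, rfl⟩; exact O.card_block hcard X
  set U := (Finset.univ : Finset (G ⧸ Γ.H)).biUnion fun X => (O.block X).powersetCard 4 with hU
  have hUall : U = (Finset.univ : Finset (orbit G (O.pts 0))).powersetCard 4 := by
    refine Finset.eq_of_subset_of_card_le ?_ ?_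
    · intro t ht
      obtain ⟨X, -, hX⟩ := Finset.mem_biUnion.1 ht
      exact Finset.mem_powersetCard.2 ⟨Finset.subset_univ _, (Finset.mem_powersetCard.1 hX).2⟩
    · rw [hU, Finset.card_biUnion]
      · simp only [Finset.card_powersetCard, O.card_block hcard, Finset.card_univ, Finset.sum_const, hX,
          ← Nat.card_eq_fintype_card, (O.exists_pts hcard 0).1]
        decide +kernel
      · intro X _ Y _ hne
        rw [Function.onFun, Finset.disjoint_left]
        intro t h1 h2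
        exact hne (hu (Finset.mem_powersetCard.1 h1).2 (Finset.mem_powersetCard.1 h1).1
          (Finset.mem_powersetCard.1 h2).1)
  obtain ⟨X, -, hX'⟩ := Finset.mem_biUnion.1
    (show s ∈ U from hUall ▸ Finset.mem_powersetCard.2 ⟨Finset.subset_univ _, hs⟩)
  refine ⟨O.block X, ⟨⟨X, rfl⟩, (Finset.mem_powersetCard.1 hX').1⟩, ?_⟩
  rintro _ ⟨⟨Y, rfl⟩, hY⟩
  rw [hu hs hY (Finset.mem_powersetCard.1 hX').1]

end Orb

/-- A group with the data and the orbits is `M₂₃`. -/
theorem nonempty_iso (hd : Dat G) (Γ : Act G) (O : Orb Γ) : Nonempty (G ≃* ↥Cfsg.Spor.M23) := by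
  classical
  haveI := hd.simple
  haveI : Fintype (orbit G (O.pts 0)) := Fintype.ofFinite _
  have hP : Fintype.card (orbit G (O.pts 0)) = 23 := by
    rw [← Nat.card_eq_fintype_card]; exact (O.exists_pts hd.card 0).1
  have hS := O.steiner hd.card
  have hmem : ∀ g : G, MulAction.toPermHom G (orbit G (O.pts 0)) g ∈ Cfsg.setSystemAut (Set.range O.block) := by
    intro g
    have key : ∀ X, (MulAction.toPermHom G (orbit G (O.pts 0)) g) • O.block X = O.block (g • X) := by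
      intro X
      rw [← O.smul_block]; rfl
    rw [MulAction.mem_stabilizer_iff]
    ext b
    constructor
    · rintro ⟨_, ⟨X, rfl⟩, rfl⟩; exact ⟨g • X, (key X).symm⟩
    · rintro ⟨X, rfl⟩
      exact ⟨O.block (g⁻¹ • X), ⟨_, rfl⟩, by rw [← smul_inv_smul g X]; simp only [inv_smul_smul]; exact key _⟩
  set ρ := (MulAction.toPermHom G (orbit G (O.pts 0))).codRestrict _ hmem with hρ
  have hinj : Function.Injective ρ := by
    rw [← MonoidHom.ker_eq_bot_iff]
    refine (IsSimpleGroup.eq_bot_or_eq_top_of_normal ρ.ker (MonoidHom.normal_ker ρ)).resolve_right fun htop => ?_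
    have hfix : ∀ (g : G) (p : orbit G (O.pts 0)), g • p = p := fun g p => by
      have h1 : g ∈ ρ.ker := htop ▸ Subgroup.mem_top g
      exact Equiv.Perm.ext_iff.1 (congrArg Subtype.val h1) p
    haveI : Subsingleton (orbit G (O.pts 0)) := ⟨fun a b => by
      obtain ⟨g, rfl⟩ := MulAction.exists_smul_eq G a b
      exact (hfix g a).symm⟩
    have := Fintype.card_le_one_iff_subsingleton.2 (inferInstance : Subsingleton (orbit G (O.pts 0)))
    omega
  obtain ⟨hM, -⟩ := Steiner.aut23_facts hP hS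
  have hbij : Function.Bijective ρ := hinj.bijective_of_nat_card_le (by rw [hM.2, hd.card])
  obtain ⟨e, he⟩ := Steiner.setSystemIso_of_normalForm Steiner.normalForm23 hP
    (by rw [Steiner.card_ne_subtype, Golay.card_golayPt]) hS
    (Steiner.steiner_derivedAt Golay.octads_steiner none)
  obtain ⟨f, -⟩ := Steiner.exists_mulEquiv_setSystemAut e he
  let r := MulEquiv.ofBijective (Steiner.restrictHom Cfsg.octads none)
    ⟨Steiner.restrictHom_injective _ _,
      Steiner.restrictHom_surjective Golay.card_golayPt Golay.octads_steiner none⟩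
  have hst : Nonempty (MulAction.stabilizer (Cfsg.setSystemAut Cfsg.octads) (none : Cfsg.GolayPt) ≃*
      MulAction.stabilizer Cfsg.M24 (none : Cfsg.GolayPt)) := by
    rw [Golay.M24_eq_octad_aut]; exact ⟨MulEquiv.refl _⟩
  obtain ⟨m⟩ := hst
  obtain ⟨k⟩ := Golay.nonempty_stabilizer_equiv_M23 (none : Cfsg.GolayPt)
  exact ⟨(MulEquiv.ofBijective ρ hbij).trans ((f.trans (r.symm.trans m)).trans k)⟩

end Cfsg.Agent.M23Nse48
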