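import Mathlib

/-!
Even permutations of seven points, for the identification of M₂₃.
-/

set_option autoImplicit false

namespace Cfsg.Agent.M23Nse48

open Equiv Equiv.Perm Finset

/-- Even, fixing `i` and mapping `j` to `k`. -/
theorem perm_move {i j k : Fin 7} (hj : j ≠ i) (hk : k ≠ i) :
    ∃ σ ∈ alternatingGroup (Fin 7), σ i = i ∧ σ j = k := by
  by_cases hjk : j = k
  · exact ⟨1, one_mem _, rfl, by simp [hjk]⟩
  obtain ⟨l, hl⟩ : ∃ l : Fin 7, l ∉ ({i, j, k} : Finset (Fin 7)) := by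
    by_contra h; push Not at h
    have := card_le_card (fun a _ => h a : (univ : Finset (Fin 7)) ⊆ {i, j, k})
    simp only [card_univ, Fintype.card_fin] at this
    exact absurd (this.trans card_le_three) (by omega)
  simp only [mem_insert, mem_singleton, not_or] at hl
  obtain ⟨hli, hlj, hlk⟩ := hl
  refine ⟨swap k l * swap j l, mem_alternatingGroup.2 (by simp [Ne.symm hlk, Ne.symm hlj]), ?_, ?_⟩
  · rw [Perm.mul_apply, swap_apply_of_ne_of_ne hj.symm (Ne.symm hli),
      swap_apply_of_ne_of_ne hk.symm (Ne.symm hli)]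
  · rw [Perm.mul_apply, swap_apply_left, swap_apply_right]

theorem perm_move' (j k : Fin 7) : ∃ σ ∈ alternatingGroup (Fin 7), σ j = k := by
  obtain ⟨i, hi⟩ : ∃ i : Fin 7, i ∉ ({j, k} : Finset (Fin 7)) := by
    by_contra h; push Not at h
    have := card_le_card (fun a _ => h a : (univ : Finset (Fin 7)) ⊆ {j, k})
    simp only [card_univ, Fintype.card_fin] at this
    exact absurd (this.trans card_le_two) (by omega)
  simp only [mem_insert, mem_singleton, not_or] at hi
  obtain ⟨σ, hσ, -, h⟩ := perm_move (Ne.symm hi.1) (Ne.symm hi.2)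
  exact ⟨σ, hσ, h⟩

/-- Two triples with a common point are exchanged, fixing a point outside or the common one. -/
theorem perm_triple_common {i k : Fin 7} {T T' : Finset (Fin 7)} (hT : T.card = 3) (hT' : T'.card = 3)
    (hk : k ∈ T) (hk' : k ∈ T') (hi : i = k ∨ (i ∉ T ∧ i ∉ T')) :
    ∃ σ ∈ alternatingGroup (Fin 7), σ i = i ∧ σ k = k ∧ T.image σ = T' := by
  obtain ⟨a, b, hab, he⟩ := card_eq_two.1 (by rw [card_erase_of_mem hk, hT] : (T.erase k).card = 2)
  obtain ⟨c, d, hcd, he'⟩ := card_eq_two.1 (by rw [card_erase_of_mem hk', hT'] : (T'.erase k).card = 2)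
  have hTe : T = {k, a, b} := by rw [← insert_erase hk, he]
  have hTe' : T' = {k, c, d} := by rw [← insert_erase hk', he']
  have ha : a ≠ k := fun e => by
    have := congrArg (a ∈ ·) he; simp [e] at this
  have hb : b ≠ k := fun e => by
    have := congrArg (b ∈ ·) he; simp [e] at this
  have hc : c ≠ k := fun e => by
    have := congrArg (c ∈ ·) he'; simp [e] at this
  have hd : d ≠ k := fun e => by
    have := congrArg (d ∈ ·) he'; simp [e] at this
  have hi4 : i = k ∨ (i ≠ k ∧ i ≠ a ∧ i ≠ b ∧ i ≠ c ∧ i ≠ d) := by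
    refine hi.imp_right fun ⟨h, h'⟩ => ?_
    rw [hTe] at h; rw [hTe'] at h'
    simp only [mem_insert, mem_singleton, not_or] at h h'
    exact ⟨h.1, h.2.1, h.2.2, h'.2.1, h'.2.2⟩
  have hsimp : ∀ j, j ≠ a → j ≠ b → j ≠ c → j ≠ d →
      (swap (swap a c b) d * swap a c) j = j := by
    intro j h1 h2 h3 h4
    rw [Perm.mul_apply, swap_apply_of_ne_of_ne h1 h3, swap_apply_of_ne_of_ne _ h4]
    intro e
    exact h2 ((swap a c).injective (by rw [swap_apply_of_ne_of_ne h1 h3]; exact e))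
  set π := swap (swap a c b) d * swap a c with hπ
  have hπk : π k = k := hsimp k ha.symm hb.symm hc.symm hd.symm
  have hπi : π i = i := by
    rcases hi4 with rfl | ⟨-, h1, h2, h3, h4⟩
    · exact hπk
    · exact hsimp i h1 h2 h3 h4
  have hπb : π b = d := by rw [hπ, Perm.mul_apply, swap_apply_left]
  have hπa : π a = c := by
    rw [hπ, Perm.mul_apply, swap_apply_left, swap_apply_of_ne_of_ne ?_ hcd]
    intro e
    exact hab ((swap a c).injective ((swap_apply_left a c).trans e))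
  have himg : T.image π = T' := by
    rw [hTe, hTe']; simp [hπk, hπa, hπb]
  have hne : ∀ j, j = k ∨ (j ≠ c ∧ j ≠ d) → swap c d j = j := by
    rintro j (rfl | ⟨h1, h2⟩)
    · exact swap_apply_of_ne_of_ne hc.symm hd.symm
    · exact swap_apply_of_ne_of_ne h1 h2
  rcases Int.units_eq_one_or (sign π) with h | h
  · exact ⟨π, mem_alternatingGroup.2 h, hπi, hπk, himg⟩
  · refine ⟨swap c d * π, mem_alternatingGroup.2 (by simp [h, hcd]), ?_, ?_, ?_⟩
    · rw [Perm.mul_apply, hπi, hne i (hi4.imp id fun h => ⟨h.2.2.2.1, h.2.2.2.2⟩)]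
    · rw [Perm.mul_apply, hπk, hne k (Or.inl rfl)]
    · rw [hTe, hTe']
      simp only [image_insert, image_singleton, Perm.mul_apply, hπk, hπa, hπb, hne k (Or.inl rfl),
        swap_apply_left, swap_apply_right]
      rw [pair_comm]

/-- Two triples through `i`. -/
theorem perm_triple_in {i : Fin 7} {T T' : Finset (Fin 7)} (hT : T.card = 3) (hT' : T'.card = 3)
    (hi : i ∈ T) (hi' : i ∈ T') : ∃ σ ∈ alternatingGroup (Fin 7), σ i = i ∧ T.image σ = T' := by
  obtain ⟨σ, h1, h2, -, h4⟩ := perm_triple_common hT hT' hi hi' (Or.inl rfl)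
  exact ⟨σ, h1, h2, h4⟩

/-- Two triples avoiding `i`. -/
theorem perm_triple_out {i : Fin 7} {T T' : Finset (Fin 7)} (hT : T.card = 3) (hT' : T'.card = 3)
    (hi : i ∉ T) (hi' : i ∉ T') : ∃ σ ∈ alternatingGroup (Fin 7), σ i = i ∧ T.image σ = T' := by
  obtain ⟨a, ha⟩ := card_pos.1 (by omega : 0 < T.card)
  obtain ⟨b, hb⟩ := card_pos.1 (by omega : 0 < T'.card)
  obtain ⟨M, hM, hMc⟩ := exists_subsuperset_card_eq (s := ({a, b} : Finset (Fin 7)))
    (t := univ.erase i) (n := 3)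
    (by intro x hx; rcases mem_insert.1 hx with rfl | hx
        · exact mem_erase.2 ⟨fun e => hi (e ▸ ha), mem_univ _⟩
        · rw [mem_singleton.1 hx]; exact mem_erase.2 ⟨fun e => hi' (e ▸ hb), mem_univ _⟩)
    (card_le_two.trans (by omega)) (by simp)
  have hiM : i ∉ M := fun h => (mem_erase.1 (hMc.1 h)).1 rfl
  obtain ⟨σ, h1, h2, -, h4⟩ := perm_triple_common hT hMc.2 ha (hM (by simp)) (Or.inr ⟨hi, hiM⟩)
  obtain ⟨τ, g1, g2, -, g4⟩ := perm_triple_common hMc.2 hT' (hM (by simp)) hb (Or.inr ⟨hiM, hi'⟩)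
  refine ⟨τ * σ, mul_mem g1 h1, by rw [Perm.mul_apply, h2, g2], ?_⟩
  rw [← g4, ← h4, image_image]; rfl

/-- A three-cycle fixing a triple pointwise. -/
theorem perm_cycle {T : Finset (Fin 7)} (hT : T.card = 3) :
    ∃ σ ∈ alternatingGroup (Fin 7), σ.IsThreeCycle ∧ ∀ j ∈ T, σ j = j := by
  obtain ⟨a, ha, b, hb, c, hc, hab, hac, hbc⟩ : ∃ a ∈ Tᶜ, ∃ b ∈ Tᶜ, ∃ c ∈ Tᶜ, a ≠ b ∧ a ≠ c ∧ b ≠ c := by
    obtain ⟨a, ha, b, hb, c, hc, h⟩ := two_lt_card.1 (by rw [card_compl, hT, Fintype.card_fin]; omega : 2 < Tᶜ.card)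
    exact ⟨a, ha, b, hb, c, hc, h⟩
  rw [mem_compl] at ha hb hc
  refine ⟨swap a b * swap a c, mem_alternatingGroup.2 (by simp [hab, hac]),
    isThreeCycle_swap_mul_swap_same hab hac hbc, fun j hj => ?_⟩
  have h1 : j ≠ a := by rintro rfl; exact ha hj
  have h2 : j ≠ b := by rintro rfl; exact hb hj
  have h3 : j ≠ c := by rintro rfl; exact hc hj
  rw [Perm.mul_apply, swap_apply_of_ne_of_ne h1 h3, swap_apply_of_ne_of_ne h1 h2]

end Cfsg.Agent.M23Nse48
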