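import Cfsg.Agent.M23Nse48.Defs
import Cfsg.Agent.M23Nse48.IdentPerm

/-!
The subgroup of index 253 acting on the seven points and on the other cosets.
-/

set_option autoImplicit false

namespace Cfsg.Agent.M23Nse48

open Subgroup MulAction Equiv
open scoped Pointwise

variable {G : Type*} [Group G] [Finite G] {Γ : Act G}

namespace Act

/-- The permutation of the seven points. -/
def per (Γ : Act G) : Γ.H →* Perm (Fin 7) := (alternatingGroup (Fin 7)).subtype.comp Γ.φ

theorem per_def (Γ : Act G) (h : Γ.H) : Γ.per h = (Γ.φ h : Perm (Fin 7)) := rfl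

theorem per_lift (Γ : Act G) {σ : Perm (Fin 7)} (hσ : σ ∈ alternatingGroup (Fin 7)) :
    ∃ h : Γ.H, Γ.per h = σ := by
  obtain ⟨h, hh⟩ := Γ.φ_surj ⟨σ, hσ⟩
  exact ⟨h, by rw [per_def, hh]⟩

theorem per_eq_one (Γ : Act G) {h : Γ.H} : Γ.per h = 1 ↔ (h : G) ∈ Γ.E := by
  rw [← mem_subgroupOf, ← Γ.φ_ker, MonoidHom.mem_ker, per_def, OneMemClass.coe_eq_one]

theorem stab_base (Γ : Act G) : stabilizer G Γ.base = Γ.H := MulAction.stabilizer_quotient Γ.H

theorem smul_base (Γ : Act G) {h : G} (hh : h ∈ Γ.H) : h • Γ.base = Γ.base := by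
  rw [← mem_stabilizer_iff, stab_base]; exact hh

theorem comm (Γ : Act G) {a b : G} (ha : a ∈ Γ.E) (hb : b ∈ Γ.E) : a * b = b * a := by
  have := Γ.cent.symm.le ha
  rw [mem_centralizer_iff] at this
  exact (this b hb).symm

theorem conj_mem (Γ : Act G) {h e : G} (hh : h ∈ Γ.H) (he : e ∈ Γ.E) : h * e * h⁻¹ ∈ Γ.E := by
  rw [Γ.norm, mem_normalizer_iff] at hh
  exact (hh e).1 he

theorem inv_eq (Γ : Act G) {e : G} (he : e ∈ Γ.E) : e⁻¹ = e :=
  inv_eq_of_mul_eq_one_left (by rw [← pow_two]; exact Γ.sq e he)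

theorem card_cz (Γ : Act G) {e : G} (he : e ∈ Γ.E) (h1 : e ≠ 1) : Nat.card (cz e) = 2688 := by
  set S : Set G := {b : G | b ∈ Γ.E ∧ b ≠ 1}
  let e' : Γ.H ⧸ (cz e).subgroupOf Γ.H ≃ S :=
    Equiv.ofBijective (Quotient.lift (fun h : Γ.H => (⟨(h : G) * e * (h : G)⁻¹,
      Γ.conj_mem h.2 he, fun w => h1 (by simpa using w)⟩ : S)) (fun a b hab => by
        have hab' : a⁻¹ * b ∈ (cz e).subgroupOf Γ.H := QuotientGroup.leftRel_apply.1 hab
        rw [mem_subgroupOf, mem_centralizer_singleton_iff] at hab'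
        apply Subtype.ext
        show (a : G) * e * (a : G)⁻¹ = (b : G) * e * (b : G)⁻¹
        simp only [Subgroup.coe_mul, Subgroup.coe_inv] at hab'
        calc (a : G) * e * (a : G)⁻¹ = (a : G) * (((a : G)⁻¹ * b) * e * ((a : G)⁻¹ * b)⁻¹) * (a : G)⁻¹ := by
              rw [hab', mul_inv_cancel_right]
          _ = (b : G) * e * (b : G)⁻¹ := by group))
      ⟨by
        rintro ⟨a⟩ ⟨b⟩ hab
        have hab' : (a : G) * e * (a : G)⁻¹ = (b : G) * e * (b : G)⁻¹ := congrArg Subtype.val hab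
        refine Quotient.sound (QuotientGroup.leftRel_apply.2 ?_)
        rw [mem_subgroupOf, mem_centralizer_singleton_iff]
        simp only [Subgroup.coe_mul, Subgroup.coe_inv]
        calc (a : G)⁻¹ * b * e = (a : G)⁻¹ * ((b : G) * e * (b : G)⁻¹) * b := by group
          _ = (a : G)⁻¹ * ((a : G) * e * (a : G)⁻¹) * b := by rw [hab']
          _ = e * ((a : G)⁻¹ * b) := by group, by
        rintro ⟨b, hb, hb1⟩
        obtain ⟨h, hh, rfl⟩ := Γ.trans e he b hb h1 hb1
        exact ⟨QuotientGroup.mk ⟨h, hh⟩, rfl⟩⟩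
  have hS : Nat.card S = 15 := by
    have hb : Nat.card S + 1 = 16 := by
      rw [← Γ.card_E]
      have : (Γ.E : Set G) = insert 1 S := by
        ext x; by_cases hx : x = 1
        · subst hx; simp [one_mem]
        · simp [S, hx]
      rw [← SetLike.coe_sort_coe, this, Nat.card_coe_set_eq, Nat.card_coe_set_eq,
        Set.ncard_insert_of_notMem (by simp [S])]
    omega
  have hidx := ((cz e).subgroupOf Γ.H).card_mul_index
  rw [Subgroup.index, Nat.card_congr e', hS, Γ.card_H,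
    Nat.card_congr (Subgroup.subgroupOfEquivOfLe (Γ.cz_le e he h1)).toEquiv] at hidx
  omega

/-- The centraliser of a non-trivial element of `E` moves every point to every point. -/
theorem cz_move (Γ : Act G) {e : G} (he : e ∈ Γ.E) (h1 : e ≠ 1) (i j : Fin 7) :
    ∃ h : Γ.H, (h : G) ∈ cz e ∧ Γ.per h i = j := by
  haveI : Fact (Nat.Prime 7) := ⟨by norm_num⟩
  obtain ⟨c, hc⟩ := exists_prime_orderOf_dvd_card' (G := cz e) 7 (by rw [Γ.card_cz he h1]; norm_num)
  set h : Γ.H := ⟨c, Γ.cz_le e he h1 c.2⟩ with hh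
  have hho : orderOf h = 7 := by
    rw [← Subgroup.orderOf_coe h]; exact (Subgroup.orderOf_coe c).trans hc
  have h7' : h ^ 7 = 1 := orderOf_dvd_iff_pow_eq_one.1 (dvd_of_eq hho)
  have hne : Γ.per h ≠ 1 := by
    rw [Ne, per_eq_one]
    intro hE
    have := orderOf_dvd_of_pow_eq_one (Γ.sq _ hE)
    rw [Subgroup.orderOf_coe, hho] at this
    norm_num at this
  have hpo : orderOf (Γ.per h) = 7 :=
    orderOf_eq_prime (by rw [← map_pow, h7', map_one]) hne
  have hcyc : (Γ.per h).IsCycle :=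
    Perm.isCycle_of_prime_order'' (by simp; norm_num) (by rw [hpo]; simp)
  have hsupp : ∀ k, Γ.per h k ≠ k := by
    intro k hk
    have h7 : (Γ.per h).support.card = 7 := by rw [← hcyc.orderOf, hpo]
    have huniv : (Γ.per h).support = Finset.univ :=
      Finset.eq_univ_of_card _ (by rw [h7]; simp)
    exact (Perm.mem_support.1 (huniv ▸ Finset.mem_univ k)) hk
  obtain ⟨z, hz⟩ := hcyc.exists_zpow_eq (hsupp i) (hsupp j)
  exact ⟨h ^ z, by rw [Subgroup.coe_zpow]; exact (cz e).zpow_mem c.2 z, by rw [map_zpow]; exact hz⟩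

/-- An element inducing a three-cycle centralises no non-trivial element of `E`. -/
theorem cycle_fpf (Γ : Act G) {y : Γ.H} (hy : (Γ.per y).IsThreeCycle) {e : G} (he : e ∈ Γ.E)
    (hc : (y : G) * e = e * (y : G)) : e = 1 := by
  by_contra h1
  set L : Subgroup (Perm (Fin 7)) := ((cz e).subgroupOf Γ.H).map Γ.per with hL
  have hyL : Γ.per y ∈ L :=
    mem_map_of_mem _ (by rw [mem_subgroupOf, mem_centralizer_singleton_iff]; exact hc)
  haveI : IsPretransitive L (Fin 7) := ⟨fun i j => by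
    obtain ⟨h, hh, hij⟩ := Γ.cz_move he h1 i j
    exact ⟨⟨Γ.per h, mem_map_of_mem _ hh⟩, hij⟩⟩
  have hpre : IsPreprimitive L (Fin 7) := IsPreprimitive.of_prime_card (by simp; norm_num)
  have hA := Perm.alternatingGroup_le_of_isPreprimitive_of_isThreeCycle_mem hpre hy hyL
  have hle : Γ.H ≤ cz e := by
    intro g hg
    obtain ⟨c, hc', heq⟩ := hA (Γ.φ ⟨g, hg⟩).2
    have hE : ((⟨g, hg⟩ * c⁻¹ : Γ.H) : G) ∈ Γ.E := by
      rw [← per_eq_one, map_mul, map_inv, heq, per_def, mul_inv_cancel]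
    rw [SetLike.mem_coe, mem_subgroupOf] at hc'
    have : ((⟨g, hg⟩ * c⁻¹ : Γ.H) : G) ∈ cz e := by
      rw [mem_centralizer_singleton_iff]; exact Γ.comm hE he
    simpa using (cz e).mul_mem this hc'
  have := Subgroup.card_dvd_of_le hle
  rw [Γ.card_H, Γ.card_cz he h1] at this
  norm_num at this

/-- The stabiliser in `H` of a point. -/
def K (Γ : Act G) (i : Fin 7) : Subgroup G :=
  (((stabilizer (Perm (Fin 7)) i)).comap Γ.per).map Γ.H.subtype

theorem mem_K {i : Fin 7} {g : G} : g ∈ Γ.K i ↔ ∃ hg : g ∈ Γ.H, Γ.per ⟨g, hg⟩ i = i := by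
  simp only [K, mem_map, mem_comap, mem_stabilizer_iff, Perm.smul_def, Subgroup.coe_subtype]
  constructor
  · rintro ⟨h, hh, rfl⟩; exact ⟨h.2, hh⟩
  · rintro ⟨hg, hh⟩; exact ⟨⟨g, hg⟩, hh, rfl⟩

theorem card_K (Γ : Act G) (i : Fin 7) : Nat.card (Γ.K i) = 5760 := by
  rw [K, card_map_of_injective Subtype.val_injective]
  letI : MulAction Γ.H (Fin 7) := MulAction.compHom _ Γ.per
  have hst : (stabilizer (Perm (Fin 7)) i).comap Γ.per = stabilizer Γ.H i := rfl
  haveI : IsPretransitive Γ.H (Fin 7) := ⟨fun a b => by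
    obtain ⟨σ, hσ, hab⟩ := perm_move' a b
    obtain ⟨h, hh⟩ := Γ.per_lift hσ
    exact ⟨h, by show Γ.per h a = b; rw [hh, hab]⟩⟩
  have := (stabilizer Γ.H i).card_mul_index
  rw [index_stabilizer_of_transitive, Nat.card_fin, Γ.card_H, ← hst] at this
  omega

end Act

end Cfsg.Agent.M23Nse48
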