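import Cfsg.Agent.M23Nse48.IdentBasic

/-!
The 77 cosets through a point: the union is moved to itself by an element exchanging the base with a
coset of the first kind, so its stabiliser has index 23.
-/

set_option autoImplicit false

namespace Cfsg.Agent.M23Nse48

open Subgroup MulAction Equiv
open scoped Pointwise

/-- The size of an orbit from an equivariant map. -/
theorem card_orbit_fiber {M α β : Type*} [Group M] [MulAction M α] [Finite α] (f : α → β)
    (π : M → β → β) (hf : ∀ (m : M) (x : α), f (m • x) = π m (f x)) (C : α) :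
    Nat.card (orbit M C) = Nat.card (f '' orbit M C) * Nat.card {D : α // D ∈ orbit M C ∧ f D = f C} := by
  classical
  haveI : Fintype ↥(f '' orbit M C) := Fintype.ofFinite _
  have e : orbit M C ≃ Σ v : f '' orbit M C, {D : α // D ∈ orbit M C ∧ f D = (v : β)} :=
    { toFun := fun D => ⟨⟨f D, D, D.2, rfl⟩, D, D.2, rfl⟩
      invFun := fun p => ⟨p.2.1, p.2.2.1⟩
      left_inv := fun D => rfl
      right_inv := fun ⟨⟨v, hv⟩, D, hD, hDv⟩ => by cases hDv; rfl }
  rw [Nat.card_congr e, Nat.card_sigma, Finset.sum_eq_card_nsmul (b := Nat.card {D : α // D ∈ orbit M C ∧ f D = f C})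
    ?_, Finset.card_univ, ← Nat.card_eq_fintype_card, smul_eq_mul]
  rintro ⟨v, D₀, hD₀, rfl⟩ -
  obtain ⟨m, hm⟩ := id hD₀
  have hm' : D₀ = m • C := hm.symm
  subst hm'
  refine Nat.card_congr
    { toFun := fun D => ⟨m⁻¹ • D.1, mem_orbit_of_mem_orbit _ D.2.1, ?_⟩
      invFun := fun D => ⟨m • D.1, mem_orbit_of_mem_orbit _ D.2.1, ?_⟩
      left_inv := fun D => Subtype.ext (smul_inv_smul m D.1)
      right_inv := fun D => Subtype.ext (inv_smul_smul m D.1) }
  · have : f (m⁻¹ • D.1) = f (m⁻¹ • (m • C)) :=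
      (hf _ _).trans ((congrArg _ D.2.2).trans (hf _ _).symm)
    rwa [inv_smul_smul] at this
  · exact (hf _ _).trans ((congrArg _ D.2.2).trans (hf m C).symm)

variable {G : Type*} [Group G] [Finite G] {Γ : Act G}

namespace Orb

variable (O : Orb Γ)

theorem ι_smul' {g : G} (hg : g ∈ Γ.H) (C : G ⧸ Γ.H) :
    O.ι (g • C) = (O.ι C).image (Γ.per ⟨g, hg⟩) := O.ι_smul ⟨g, hg⟩ C

theorem ι_E {e : G} (he : e ∈ Γ.E) (C : G ⧸ Γ.H) : O.ι (e • C) = O.ι C := by
  rw [O.ι_smul' (Γ.E_le he), Γ.per_eq_one.2 (show ((⟨e, Γ.E_le he⟩ : Γ.H) : G) ∈ Γ.E from he),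
    Perm.coe_one, Finset.image_id]

theorem ne_base {C : G ⧸ Γ.H} (h : (O.ι C).Nonempty) : C ≠ Γ.base := by
  rintro rfl
  rw [O.ι_base] at h
  exact Finset.not_nonempty_empty h

/-- Every even permutation fixing the label is induced by an element fixing the coset. -/
theorem lift {C : G ⧸ Γ.H} (hC : C ≠ Γ.base) {σ : Perm (Fin 7)} (hσ : σ ∈ alternatingGroup (Fin 7))
    (hfix : (O.ι C).image σ = O.ι C) : ∃ a : Γ.H, (a : G) • C = C ∧ Γ.per a = σ := by
  obtain ⟨h, hh⟩ := Γ.per_lift hσ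
  have hι : O.ι ((h : G) • C) = O.ι C := by rw [O.ι_smul' h.2, Subtype.coe_eta, hh, hfix]
  have hne : (h : G) • C ≠ Γ.base := fun e => hC (by
    rw [← inv_smul_smul (h : G) C, e, Γ.smul_base (inv_mem h.2)])
  obtain ⟨e, he, hec⟩ := O.fiber_trans _ _ hne hC hι
  refine ⟨⟨e, Γ.E_le he⟩ * h, ?_, ?_⟩
  · rw [Subgroup.coe_mul, mul_smul]; exact hec
  · rw [map_mul, Γ.per_eq_one.2 (show ((⟨e, Γ.E_le he⟩ : Γ.H) : G) ∈ Γ.E from he), one_mul, hh]

theorem exists_single (i : Fin 7) : ∃ C, O.ι C = {i} := by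
  have : 0 < Nat.card {C : G ⧸ Γ.H // O.ι C = {i}} := by rw [O.card_fiber_one _ (Finset.card_singleton i)]; norm_num
  obtain ⟨⟨C, hC⟩⟩ := (Nat.card_pos_iff.1 this).1
  exact ⟨C, hC⟩

/-- Cosets with labels related by an even permutation are related by `H`. -/
theorem move {C D : G ⧸ Γ.H} (hC : (O.ι C).Nonempty) {σ : Perm (Fin 7)}
    (hσ : σ ∈ alternatingGroup (Fin 7)) (h : (O.ι C).image σ = O.ι D) :
    ∃ a : Γ.H, (a : G) • C = D ∧ Γ.per a = σ := by
  obtain ⟨a, ha⟩ := Γ.per_lift hσ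
  have hι : O.ι ((a : G) • C) = O.ι D := by rw [O.ι_smul' a.2, Subtype.coe_eta, ha, h]
  have hD : (O.ι D).Nonempty := h ▸ hC.image _
  obtain ⟨e, he, hec⟩ := O.fiber_trans _ _ (O.ne_base (hι ▸ hD)) (O.ne_base hD) hι
  refine ⟨⟨e, Γ.E_le he⟩ * a, ?_, ?_⟩
  · rw [Subgroup.coe_mul, mul_smul]; exact hec
  · rw [map_mul, Γ.per_eq_one.2 (show ((⟨e, Γ.E_le he⟩ : Γ.H) : G) ∈ Γ.E from he), one_mul, ha]

theorem card_cases (n : ℕ) (hn : n = 1 ∨ n = 3) :
    Nat.card {C : G ⧸ Γ.H // (O.ι C).card = n} = if n = 1 then 112 else 140 := by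
  classical
  haveI : Fintype (G ⧸ Γ.H) := Fintype.ofFinite _
  have key : ∀ s : Finset (Fin 7), s.card = n →
      (Finset.univ.filter fun C => O.ι C = s).card = if n = 1 then 16 else 4 := by
    intro s hs
    rw [← Fintype.card_subtype, ← Nat.card_eq_fintype_card]
    rcases hn with rfl | rfl
    · exact O.card_fiber_one s hs
    · exact O.card_fiber_three s hs
  rw [Nat.card_eq_fintype_card, Fintype.card_subtype,
    Finset.card_eq_sum_card_fiberwise (f := O.ι) (t := Finset.univ.filter fun s => s.card = n)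
      (fun C hC => by simpa using hC)]
  have : ∀ s ∈ (Finset.univ : Finset (Finset (Fin 7))).filter (fun s => s.card = n),
      ((Finset.univ.filter fun C => (O.ι C).card = n).filter fun C => O.ι C = s).card =
        if n = 1 then 16 else 4 := by
    intro s hs
    rw [Finset.filter_filter, ← key s (Finset.mem_filter.1 hs).2]
    congr 1
    refine Finset.filter_congr fun C _ => ⟨fun h => h.2, fun h => ⟨by rw [h]; exact (Finset.mem_filter.1 hs).2, h⟩⟩
  rw [Finset.sum_congr rfl this, Finset.sum_const, smul_eq_mul]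
  rcases hn with rfl | rfl
  · rw [show ((Finset.univ : Finset (Finset (Fin 7))).filter fun s => s.card = 1).card = 7 by decide]; rfl
  · rw [show ((Finset.univ : Finset (Finset (Fin 7))).filter fun s => s.card = 3).card = 35 by decide]; rfl

/-- The orbit of a coset is all cosets of its kind. -/
theorem card_orbit {C : G ⧸ Γ.H} (hC : C ≠ Γ.base) :
    Nat.card (orbit Γ.H C) = if (O.ι C).card = 1 then 112 else 140 := by
  rw [← O.card_cases _ (O.ι_card C hC)]
  have horb : orbit Γ.H C = {D | (O.ι D).card = (O.ι C).card} := by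
    ext D
    refine ⟨?_, fun hD => ?_⟩
    · rintro ⟨h, rfl⟩
      show (O.ι ((h : G) • C)).card = _
      rw [O.ι_smul' h.2, Finset.card_image_of_injective _ (Equiv.injective _)]
    · have hD' : (O.ι D).card = (O.ι C).card := hD
      rcases O.ι_card C hC with h1 | h3
      · obtain ⟨j, hj⟩ := Finset.card_eq_one.1 h1
        obtain ⟨k, hk⟩ := Finset.card_eq_one.1 (hD'.trans h1)
        obtain ⟨σ, hσ, hjk⟩ := perm_move' j k
        obtain ⟨a, ha, -⟩ := O.move (by rw [hj]; simp) hσ (show (O.ι C).image σ = O.ι D by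
          rw [hj, hk, Finset.image_singleton, hjk])
        exact ⟨a, ha⟩
      · obtain ⟨j, hj⟩ := Finset.card_pos.1 (by omega : 0 < (O.ι C).card)
        obtain ⟨k, hk⟩ := Finset.card_pos.1 (by omega : 0 < (O.ι D).card)
        obtain ⟨σ, hσ, hjk⟩ := perm_move' j k
        have h3' : ((O.ι C).image σ).card = 3 := by rw [Finset.card_image_of_injective _ σ.injective, h3]
        obtain ⟨τ, hτ, -, hT⟩ := perm_triple_in h3' (hD'.trans h3) (hjk ▸ Finset.mem_image_of_mem σ hj) hk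
        obtain ⟨a, ha, -⟩ := O.move ⟨j, hj⟩ (mul_mem hτ hσ) (show (O.ι C).image (τ * σ) = O.ι D by
          rw [← hT, Finset.image_image]; rfl)
        exact ⟨a, ha⟩
  rw [horb]; rfl

/-- An element exchanging the base and a coset of the first kind. -/
theorem exists_swap {C : G ⧸ Γ.H} (hC : (O.ι C).card = 1) :
    ∃ g : G, g • Γ.base = C ∧ g • C = Γ.base := by
  have hC0 : C ≠ Γ.base := O.ne_base (Finset.card_pos.1 (by omega))
  obtain ⟨g₀, hg₀⟩ := MulAction.exists_smul_eq G Γ.base C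
  set D := g₀⁻¹ • Γ.base with hD
  have hD0 : D ≠ Γ.base := fun e =>
    hC0 (hg₀.symm.trans ((congrArg (g₀ • ·) e.symm).trans (smul_inv_smul g₀ Γ.base)))
  have hst : ∀ {x : G ⧸ Γ.H}, (stabilizer Γ.H x).map Γ.H.subtype = Γ.H ⊓ stabilizer G x := by
    intro x; ext g
    exact ⟨fun ⟨h, hh, e⟩ => e ▸ Subgroup.mem_inf.2 ⟨h.2, hh⟩,
      fun hg => ⟨⟨g, (Subgroup.mem_inf.1 hg).1⟩, (Subgroup.mem_inf.1 hg).2, rfl⟩⟩
  have hmap : (Γ.H ⊓ stabilizer G D).map (MulAut.conj g₀).toMonoidHom = Γ.H ⊓ stabilizer G C := by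
    have e1 : Γ.H.map (MulAut.conj g₀).toMonoidHom = stabilizer G C :=
      (congrArg (Subgroup.map (MulAut.conj g₀).toMonoidHom) Γ.stab_base.symm).trans
        ((stabilizer_smul_eq_stabilizer_map_conj g₀ Γ.base).symm.trans (congrArg (stabilizer G) hg₀))
    have e2 : (stabilizer G D).map (MulAut.conj g₀).toMonoidHom = Γ.H :=
      ((stabilizer_smul_eq_stabilizer_map_conj g₀ D).symm.trans
        (congrArg (stabilizer G) (smul_inv_smul g₀ Γ.base))).trans Γ.stab_base
    rw [Subgroup.map_inf _ _ _ (MulAut.conj g₀).injective, e1, e2, inf_comm]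
  have hcard : Nat.card (stabilizer Γ.H D) = Nat.card (stabilizer Γ.H C) := by
    rw [Nat.card_congr (equivMapOfInjective _ _ Γ.H.subtype_injective).toEquiv, hst,
      Nat.card_congr (equivMapOfInjective (stabilizer Γ.H C) _ Γ.H.subtype_injective).toEquiv, hst, ← hmap,
      Nat.card_congr (equivMapOfInjective (Γ.H ⊓ stabilizer G D) (MulAut.conj g₀).toMonoidHom
        (MulAut.conj g₀).injective).toEquiv]
  have h1 := (stabilizer Γ.H C).card_mul_index
  have h2 := (stabilizer Γ.H D).card_mul_index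
  rw [index_stabilizer, ← Nat.card_coe_set_eq, O.card_orbit hC0, if_pos hC, Γ.card_H] at h1
  rw [index_stabilizer, ← Nat.card_coe_set_eq, O.card_orbit hD0, Γ.card_H, hcard] at h2
  have hD1 : (O.ι D).card = 1 := by
    by_contra h; rw [if_neg h] at h2; omega
  obtain ⟨j, hj⟩ := Finset.card_eq_one.1 hC
  obtain ⟨k, hk⟩ := Finset.card_eq_one.1 hD1
  obtain ⟨σ, hσ, hjk⟩ := perm_move' j k
  obtain ⟨h, hh, -⟩ := O.move (by rw [hj]; simp) hσ (show (O.ι C).image σ = O.ι D by
    rw [hj, hk, Finset.image_singleton, hjk])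
  exact ⟨g₀ * h, by rw [mul_smul, Γ.smul_base h.2, hg₀], by rw [mul_smul, hh, hD, smul_inv_smul]⟩

/-- The elements of `H` fixing a coset. -/
def stab2 (C : G ⧸ Γ.H) : Subgroup G := Γ.H ⊓ stabilizer G C

theorem stab2_conj {C : G ⧸ Γ.H} {k : G} (hk1 : k • Γ.base = C) (hk2 : k • C = Γ.base) {a : G}
    (haa : a ∈ stab2 C) : k * a * k⁻¹ ∈ stab2 C := by
  obtain ⟨ha, ha'⟩ := Subgroup.mem_inf.1 haa
  refine Subgroup.mem_inf.2 ⟨?_, ?_⟩
  · rw [← Γ.stab_base, mem_stabilizer_iff, mul_smul, mul_smul, ← hk2, inv_smul_smul,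
      mem_stabilizer_iff.1 ha', hk2]
  · rw [mem_stabilizer_iff, mul_smul, mul_smul, ← hk1, inv_smul_smul, Γ.smul_base ha, hk1]

theorem smul_orbit_stab2 {C : G ⧸ Γ.H} {g : G} (h1 : g • Γ.base = C) (h2 : g • C = Γ.base)
    (D : G ⧸ Γ.H) : orbit (stab2 C) (g • D) = (fun x => g • x) '' orbit (stab2 C) D := by
  ext x; constructor
  · rintro ⟨a, rfl⟩
    refine ⟨g⁻¹ • (a : G) • g • D, ⟨⟨g⁻¹ * a * g⁻¹⁻¹, stab2_conj ?_ ?_ a.2⟩, ?_⟩, ?_⟩
    · rw [← h2, inv_smul_smul]
    · rw [← h1, inv_smul_smul]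
    · show (g⁻¹ * a * g⁻¹⁻¹) • D = _
      rw [inv_inv, mul_smul, mul_smul]
    · show g • g⁻¹ • (a : G) • g • D = _
      rw [smul_inv_smul]; rfl
  · rintro ⟨y, ⟨a, rfl⟩, rfl⟩
    refine ⟨⟨g * a * g⁻¹, stab2_conj h1 h2 a.2⟩, ?_⟩
    show (g * a * g⁻¹) • g • D = g • (a : G) • D
    rw [mul_smul, mul_smul, inv_smul_smul]

theorem orbit_stab2 {C : G ⧸ Γ.H} {g : G} (h1 : g • Γ.base = C) (h2 : g • C = Γ.base) (D : G ⧸ Γ.H) :
    Nat.card (orbit (stab2 C) (g • D)) = Nat.card (orbit (stab2 C) D) := by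
  rw [smul_orbit_stab2 h1 h2, Nat.card_image_of_injective (MulAction.injective g)]

/-- The cosets through a point. -/
def pts (i : Fin 7) : Set (G ⧸ Γ.H) := {C | C = Γ.base ∨ i ∈ O.ι C}

theorem base_mem (i : Fin 7) : Γ.base ∈ O.pts i := Or.inl rfl

/-- The stabiliser of a set of cosets on which it is transitive. -/
theorem card_stab {S : Set (G ⧸ Γ.H)} {i : Fin 7} (hB : Γ.base ∈ S)
    (hK : Γ.K i ≤ stabilizer G S) (hK' : ∀ h ∈ stabilizer G S, h ∈ Γ.H → h ∈ Γ.K i)
    (htr : ∀ C ∈ S, ∃ m ∈ stabilizer G S, m • Γ.base = C) :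
    Nat.card (stabilizer G S) = Nat.card S * 5760 := by
  have horb : orbit (stabilizer G S) Γ.base = S := by
    ext C; constructor
    · rintro ⟨m, rfl⟩
      have hm : (m : G) • S = S := m.2
      exact hm.subset (Set.smul_mem_smul_set hB)
    · intro hC
      obtain ⟨m, hm, h⟩ := htr C hC
      exact ⟨⟨m, hm⟩, h⟩
  have hst : (stabilizer (stabilizer G S) Γ.base).map (stabilizer G S).subtype = Γ.K i := by
    ext g; constructor
    · rintro ⟨m, hm, rfl⟩
      exact hK' _ m.2 (Γ.stab_base.le hm)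
    · intro hg
      obtain ⟨hgH, -⟩ := Act.mem_K.1 hg
      exact ⟨⟨g, hK hg⟩, Γ.smul_base hgH, rfl⟩
  have := (stabilizer (stabilizer G S) Γ.base).card_mul_index
  rw [index_stabilizer, ← Nat.card_coe_set_eq, horb] at this
  rw [← this, ← card_map_of_injective (f := (stabilizer G S).subtype) Subtype.val_injective, hst,
    Γ.card_K, mul_comm]

end Orb

end Cfsg.Agent.M23Nse48
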