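import Cfsg.Agent.M23Nse48.LocalTwo

/-!
# The local data of a group with the counts of M₂₃ (helper46)
-/

set_option autoImplicit false

namespace Cfsg.Agent.M23Nse48

/-- The counts give the centralisers of the elements of orders two and three. -/
theorem exists_local {G : Type*} [Group G] [Finite G] (hd : Dat G) : Nonempty (Local G) :=
  ⟨{ E := Loc.E
     card_cz_two := fun _ ht => Loc.card_cz_two hd ht
     card_cz_three := fun _ hx => Loc.card_cz_three hd hx
     conj_two := fun _ _ ht hu => Loc.conj_two hd ht hu
     card_E := fun _ ht => (Loc.good_E hd ht).card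
     mem_E := fun _ ht => (Loc.good_E hd ht).mem
     sq_E := fun _ ht => Loc.sq_E hd ht
     cent_E := fun _ ht => Loc.cent_E hd ht
     le_normalizer := fun _ ht => (Loc.good_E hd ht).le_norm
     conj_E := fun g _ ht => Loc.conj_E hd g ht
     card_E_inf := fun _ _ ht hy hty => Loc.card_E_inf hd ht hy hty }⟩

end Cfsg.Agent.M23Nse48
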