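import Cfsg.Agent.M23Nse48.Defs
import Cfsg.Agent.M22Nse38.Arith
import Cfsg.Agent.Lib.SmallGroups.Basic
import Cfsg.Agent.Lib.SmallGroups.Counting
import Cfsg.Agent.Lib.SmallGroups.Action

/-!
# The centralisers of elements of orders three and two in a group with the counts of M₂₃ (helper46)
-/

set_option autoImplicit false

open Subgroup

namespace Cfsg.Agent.M23Nse48.Loc

variable {G : Type*} [Group G] [Finite G]

theorem mem_cz {g a : G} : g ∈ cz a ↔ Commute a g := by
  show g ∈ centralizer ({a} : Set G) ↔ _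
  rw [Subgroup.mem_centralizer_iff]
  exact ⟨fun h => h a rfl, fun h b hb => by rw [Set.mem_singleton_iff.mp hb]; exact h⟩

theorem self_mem (a : G) : a ∈ cz a := mem_cz.2 (Commute.refl a)

theorem eq_zpowers_of_cyclic {H : Type*} [Group H] [Finite H] [IsCyclic H] {a b : H}
    (h : orderOf b = orderOf a) : b ∈ zpowers a := by
  classical
  have := Fintype.ofFinite H
  by_contra hb
  let S := Finset.univ.filter (fun c : H => c ^ orderOf a = 1)
  have hsub : insert b (Finset.univ.filter (fun c : H => c ∈ zpowers a)) ⊆ S := by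
    intro c hc
    rw [Finset.mem_insert, Finset.mem_filter] at hc
    refine Finset.mem_filter.mpr ⟨Finset.mem_univ _, ?_⟩
    rcases hc with rfl | ⟨-, hc⟩
    · rw [← h, pow_orderOf_eq_one]
    · obtain ⟨k, rfl⟩ := mem_zpowers_iff.mp hc
      rw [← zpow_natCast, ← zpow_mul, mul_comm, zpow_mul, zpow_natCast, pow_orderOf_eq_one,
        one_zpow]
  have h1 := Finset.card_le_card hsub
  have h2 : S.card ≤ orderOf a := IsCyclic.card_pow_eq_one_le (orderOf_pos a)
  rw [Finset.card_insert_of_notMem (by simpa using hb)] at h1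
  have h3 : (Finset.univ.filter (fun c : H => c ∈ zpowers a)).card = orderOf a := by
    rw [← Fintype.card_subtype, ← Nat.card_eq_fintype_card]
    exact Nat.card_zpowers a
  omega

theorem class_mul (hd : Dat G) (g : G) :
    Nat.card {w : G // IsConj g w} * Nat.card (cz g) = 10200960 := by
  rw [← hd.card]
  exact SmallGroups.card_conj_mul_centralizer g

theorem orderOf_conj (g a : G) : orderOf (g * a * g⁻¹) = orderOf a :=
  (MulAut.conj g).orderOf_eq a

theorem class_le (g : G) : Nat.card {w : G // IsConj g w} ≤ sn G (orderOf g) := by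
  refine Nat.card_le_card_of_injective (fun w => ⟨w.1, ?_⟩) fun a b e => ?_
  · obtain ⟨c, hc⟩ := isConj_iff.1 w.2
    rw [← hc, orderOf_conj]
  · exact Subtype.ext (congrArg Subtype.val e :)

theorem conj_of_class {g : G} {n : ℕ} (hg : orderOf g = n)
    (h : Nat.card {w : G // IsConj g w} = sn G n) {w : G} (hw : orderOf w = n) :
    ∃ c : G, c * g * c⁻¹ = w := by
  let f : {w : G // IsConj g w} → {w : G // orderOf w = n} := fun z => ⟨z.1, by
    obtain ⟨c, hc⟩ := isConj_iff.1 z.2
    rw [← hc, orderOf_conj, hg]⟩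
  have hinj : Function.Injective f := fun a b e => Subtype.ext (congrArg Subtype.val e :)
  obtain ⟨z, hz⟩ := ((Nat.bijective_iff_injective_and_card f).2 ⟨hinj, h⟩).2 ⟨w, hw⟩
  obtain ⟨c, hc⟩ := isConj_iff.1 z.2
  exact ⟨c, hc.trans (congrArg Subtype.val hz)⟩

theorem not_dvd_cz (hd : Dat G) {g : G} {n p : ℕ} [hp : Fact p.Prime] (hg : orderOf g = n)
    (hn : Nat.Coprime n p) (h : n * p ∉ ([1, 2, 3, 4, 5, 6, 7, 8, 11, 14, 15, 23] : List ℕ)) :
    ¬ p ∣ Nat.card (cz g) := by
  intro hdv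
  obtain ⟨w, hw⟩ := exists_prime_orderOf_dvd_card' (G := cz g) p hdv
  have hw' : orderOf (w : G) = p := by rw [Subgroup.orderOf_coe, hw]
  have := hd.spec (g * w)
  rw [(mem_cz.1 w.2).orderOf_mul_eq_mul_orderOf_of_coprime (by rwa [hg, hw']), hg, hw'] at this
  exact h this

theorem cz_dvd_three (hd : Dat G) {x : G} (hx : orderOf x = 3) :
    Nat.card (cz x) ∣ 2 ^ 7 * 9 * 5 := by
  have h : Nat.card (cz x) ∣ 2 ^ 7 * 9 * 5 * (7 * 11 * 23) := by
    have := card_subgroup_dvd_card (cz x)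
    rw [hd.card] at this
    norm_num
    exact this
  have : Fact (Nat.Prime 7) := ⟨by norm_num⟩
  have : Fact (Nat.Prime 11) := ⟨by norm_num⟩
  have : Fact (Nat.Prime 23) := ⟨by norm_num⟩
  refine Nat.Coprime.dvd_of_dvd_mul_right ?_ h
  refine Nat.Coprime.mul_right (Nat.Coprime.mul_right ?_ ?_) ?_ <;>
    refine ((Nat.Prime.coprime_iff_not_dvd (by norm_num)).2
      (not_dvd_cz hd hx (by norm_num) (by simp))).symm

theorem sylow_three_card (hd : Dat G) [Fact (Nat.Prime 3)] (P : Sylow 3 G) :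
    Nat.card ↥(P : Subgroup G) = 3 ^ 2 :=
  SmallGroups.card_sylow_eq (p := 3) (a := 2) (m := 1133440) (by rw [hd.card]; norm_num)
    (by norm_num) P

theorem nine_dvd (hd : Dat G) {x : G} (hx : orderOf x = 3) : 9 ∣ Nat.card (cz x) := by
  have : Fact (Nat.Prime 3) := ⟨Nat.prime_three⟩
  obtain ⟨P, hP⟩ := SmallGroups.exists_mem_sylow hx
  rw [show (9 : ℕ) = 3 ^ 2 by norm_num, ← sylow_three_card hd P]
  refine Subgroup.card_dvd_of_le fun w hw => mem_cz.2 ?_
  exact congrArg Subtype.val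
    (IsPGroup.commutative_of_card_eq_prime_sq (sylow_three_card hd P) ⟨x, hP⟩ ⟨w, hw⟩)

theorem sq_eq_one (hd : Dat G) {x w : G} (hx : orderOf x = 3) (hc : Commute x w) {k : ℕ}
    (hw : orderOf w ∣ 2 ^ k) : w ^ 2 = 1 := by
  have hco : (orderOf x).Coprime (orderOf w) :=
    Nat.Coprime.coprime_dvd_right hw (by rw [hx]; exact Nat.Coprime.pow_right k (by norm_num))
  have h := hd.spec (x * w)
  rw [hc.orderOf_mul_eq_mul_orderOf_of_coprime hco, hx] at h
  simp only [List.mem_cons, List.not_mem_nil, or_false] at h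
  rw [← orderOf_dvd_iff_pow_eq_one]
  have hne : orderOf w ≠ 5 := fun e => by
    have := Nat.Prime.dvd_of_dvd_pow (by norm_num : Nat.Prime 5) (e ▸ hw)
    norm_num at this
  have ho : orderOf w = 1 ∨ orderOf w = 2 := by omega
  rcases ho with ho | ho <;> rw [ho]
  exact one_dvd _

/-- The number of involutions commuting with an element. -/
noncomputable def invs (x : G) : ℕ := Nat.card {w : G // orderOf w = 2 ∧ Commute x w}

theorem pow_two_le_invs (hd : Dat G) {x : G} (hx : orderOf x = 3) {a : ℕ}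
    (ha : 2 ^ a ∣ Nat.card (cz x)) : 2 ^ a ≤ invs x + 1 := by
  classical
  have : Fact (Nat.Prime 2) := ⟨Nat.prime_two⟩
  obtain ⟨Q, hQ⟩ := Sylow.exists_subgroup_card_pow_prime (G := cz x) 2 ha
  rw [← hQ]
  have hinj : Function.Injective (fun w : Q =>
      if h : (w.1.1 : G) = 1 then none
      else some (⟨w.1.1, by
        have hsq := sq_eq_one hd hx (mem_cz.1 w.1.2) (k := a) (w := w.1.1) (by
          rw [Subgroup.orderOf_coe, Subgroup.orderOf_coe, ← hQ]; exact orderOf_dvd_natCard w)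
        exact orderOf_eq_prime hsq h, mem_cz.1 w.1.2⟩ :
          {w : G // orderOf w = 2 ∧ Commute x w})) := by
    intro u v e
    simp only at e
    by_cases hu : (u.1.1 : G) = 1 <;> by_cases hv : (v.1.1 : G) = 1
    · exact Subtype.ext (Subtype.ext (hu.trans hv.symm))
    · rw [dif_pos hu, dif_neg hv] at e; exact absurd e.symm (by simp)
    · rw [dif_neg hu, dif_pos hv] at e; exact absurd e (by simp)
    · rw [dif_neg hu, dif_neg hv] at e
      exact Subtype.ext (Subtype.ext (congrArg Subtype.val (Option.some.inj e) :))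
  refine (Nat.card_le_card_of_injective _ hinj).trans ?_
  rw [Finite.card_option]
  rfl

theorem sum_invs (hd : Dat G) [Fintype G] [DecidableEq G] :
    ∑ x : {x : G // orderOf x = 3}, invs x.1 = 850080 := by
  rw [← hd.s6]
  exact (M22Nse38.sn_mul (G := G) (p := 3) (q := 2) (by norm_num)).symm

theorem normalizer_five (hd : Dat G) [Fact (Nat.Prime 5)] (Q : Sylow 5 G) :
    Nat.card ↥(normalizer ((Q : Subgroup G) : Set G)) = 60 := by
  have h1 := SmallGroups.card_orderOf_eq (p := 5) fun P : Sylow 5 G => by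
    simpa using SmallGroups.card_sylow_eq (p := 5) (a := 1) (m := 2040192)
      (by rw [hd.card]; norm_num) (by norm_num) P
  change sn G 5 = _ at h1
  rw [hd.s5] at h1
  exact SmallGroups.normalizer_conj_eq_card Q (n := 170016) (by omega) (by rw [hd.card])

theorem card_inf_normalizer_five (hd : Dat G) [Fact (Nat.Prime 5)] {x q : G} (hx : orderOf x = 3)
    (hq : orderOf q = 5) (hc : Commute q x) :
    Nat.card ↥(cz x ⊓ normalizer (zpowers q : Set G)) = 30 := by
  classical
  have hQc : Nat.card (zpowers q) = 5 ^ (Nat.card G).factorization 5 := by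
    rw [Nat.card_zpowers, hq, hd.card, show 10200960 = 5 ^ 1 * 2040192 from rfl,
      Nat.factorization_mul (by norm_num) (by norm_num), Finsupp.add_apply,
      (Fact.out : Nat.Prime 5).factorization_pow,
      Nat.factorization_eq_zero_of_not_dvd (by norm_num)]
    simp
  set N := normalizer (zpowers q : Set G) with hN
  have hNc : Nat.card N = 60 := normalizer_five hd (Sylow.ofCard _ hQc)
  set D := zpowers (q * x) with hD
  have hqx : orderOf (q * x) = 15 := by
    rw [hc.orderOf_mul_eq_mul_orderOf_of_coprime (by rw [hq, hx]; norm_num), hq, hx]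
  have hDle : D ≤ cz q := zpowers_le.mpr (mem_cz.2 ((Commute.refl q).mul_right hc))
  have hDeq : D = cz q :=
    eq_of_le_of_card_ge hDle (by rw [hd.cz5 q hq, Nat.card_zpowers, hqx])
  have hcyc : IsCyclic (cz q) := hDeq ▸ (inferInstance : IsCyclic (zpowers (q * x)))
  -- the normaliser moves `x` to `x` or to its inverse
  have hmove : ∀ g ∈ N, g * x * g⁻¹ = x ∨ g * x * g⁻¹ = x⁻¹ := by
    intro g hg
    have hxq : g * x * g⁻¹ ∈ cz q := by
      obtain ⟨k, hk⟩ := mem_zpowers_iff.mp
        ((Subgroup.mem_normalizer_iff''.mp hg q).mp (mem_zpowers q))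
      refine mem_cz.2 ?_
      have h1 : Commute (g⁻¹ * q * g) x := hk ▸ hc.zpow_left k
      calc q * (g * x * g⁻¹) = g * (g⁻¹ * q * g * x) * g⁻¹ := by group
        _ = g * (x * (g⁻¹ * q * g)) * g⁻¹ := by rw [h1.eq]
        _ = g * x * g⁻¹ * q := by group
    have hm : (⟨g * x * g⁻¹, hxq⟩ : cz q) ∈ zpowers (⟨x, mem_cz.2 hc⟩ : cz q) :=
      eq_zpowers_of_cyclic (by rw [Subgroup.orderOf_mk, Subgroup.orderOf_mk, orderOf_conj])
    obtain ⟨k, hk⟩ := mem_zpowers_iff.mp hm
    have hk' : x ^ k = g * x * g⁻¹ := by simpa using congrArg Subtype.val hk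
    have h3 : x ^ (3 : ℤ) = 1 := by
      rw [show (3 : ℤ) = ((3 : ℕ) : ℤ) from rfl, zpow_natCast, ← hx, pow_orderOf_eq_one]
    have hk2 : x ^ k = x ^ (k % 3) := by
      conv_lhs => rw [← Int.emod_add_mul_ediv k 3]
      rw [zpow_add, zpow_mul, h3, one_zpow, mul_one]
    have hcase : k % 3 = 0 ∨ k % 3 = 1 ∨ k % 3 = 2 := by omega
    rw [hk2] at hk'
    rcases hcase with e | e | e <;> rw [e] at hk'
    · rw [zpow_zero, eq_comm, conj_eq_one_iff] at hk'
      rw [hk', orderOf_one] at hx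
      norm_num at hx
    · exact Or.inl (by rw [← hk', zpow_one])
    · refine Or.inr (hk'.symm.trans (eq_inv_of_mul_eq_one_left ?_))
      rw [← zpow_add_one]; exact h3
  set K := (cz x ⊓ N).subgroupOf N with hK
  have hKc : Nat.card K = Nat.card ↥(cz x ⊓ N) :=
    Nat.card_congr (subgroupOfEquivOfLe inf_le_right).toEquiv
  have hidx : K.index ≤ 2 := by
    let f : N ⧸ K → Bool := fun c => decide (((c.out : N) : G) * x * ((c.out : N) : G)⁻¹ = x)
    have hinj : Function.Injective f := by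
      intro c d hcd
      rw [← QuotientGroup.out_eq' c, ← QuotientGroup.out_eq' d]
      refine QuotientGroup.eq.mpr ⟨mem_cz.2 ?_, (c.out⁻¹ * d.out).2⟩
      have h' : ((c.out : N) : G) * x * ((c.out : N) : G)⁻¹ =
          ((d.out : N) : G) * x * ((d.out : N) : G)⁻¹ := by
        rcases hmove _ (c.out).2 with e | e <;> rcases hmove _ (d.out).2 with e' | e'
        · rw [e, e']
        · exact ((decide_eq_decide.mp hcd).mp e).symm ▸ e
        · exact ((decide_eq_decide.mp hcd).mpr e').trans e'.symm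
        · rw [e, e']
      show x * ((c.out : G)⁻¹ * (d.out : G)) = (c.out : G)⁻¹ * (d.out : G) * x
      calc x * ((c.out : G)⁻¹ * (d.out : G))
          = (c.out : G)⁻¹ * ((c.out : G) * x * (c.out : G)⁻¹) * (d.out : G) := by group
        _ = (c.out : G)⁻¹ * (d.out : G) * x := by rw [h']; group
    have := Nat.card_le_card_of_injective f hinj
    rwa [Nat.card_eq_fintype_card (α := Bool), Fintype.card_bool] at this
  have hne1 : K.index ≠ 1 := by
    intro h1
    have hle : ∀ g ∈ N, Commute x g := fun g hg => by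
      have : (⟨g, hg⟩ : N) ∈ K := by rw [Subgroup.index_eq_one.mp h1]; exact mem_top _
      exact mem_cz.1 this.1
    have : Fact (Nat.Prime 2) := ⟨Nat.prime_two⟩
    obtain ⟨S, hS⟩ := Sylow.exists_subgroup_card_pow_prime (G := N) 2 (n := 2)
      (by rw [hNc]; norm_num)
    have hsq : ∀ s : S, ((s : N) : G) ^ 2 = 1 := fun s =>
      sq_eq_one hd hx (hle _ (s : N).2) (k := 2) (by
        rw [Subgroup.orderOf_coe, Subgroup.orderOf_coe, ← hS]; exact orderOf_dvd_natCard s)
    have hq5 : q ^ (5 : ℤ) = 1 := by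
      rw [show (5 : ℤ) = ((5 : ℕ) : ℤ) from rfl, zpow_natCast, ← hq, pow_orderOf_eq_one]
    have hpm : ∀ s : S, ((s : N) : G) * q * ((s : N) : G)⁻¹ = q ∨
        ((s : N) : G) * q * ((s : N) : G)⁻¹ = q⁻¹ := by
      intro s
      obtain ⟨k, hk⟩ := mem_zpowers_iff.mp
        ((Subgroup.mem_normalizer_iff.mp (s : N).2 q).mp (mem_zpowers q))
      have h2 : q ^ (k * k) = q := by
        rw [zpow_mul, hk, conj_zpow, hk]
        have := hsq s
        rw [pow_two] at this
        calc ((s : N) : G) * (((s : N) : G) * q * ((s : N) : G)⁻¹) * ((s : N) : G)⁻¹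
            = (((s : N) : G) * ((s : N) : G)) * q * (((s : N) : G) * ((s : N) : G))⁻¹ := by group
          _ = q := by rw [this]; group
      have hk2 : q ^ k = q ^ (k % 5) := by
        conv_lhs => rw [← Int.emod_add_mul_ediv k 5]
        rw [zpow_add, zpow_mul, hq5, one_zpow, mul_one]
      have h5 : (5 : ℤ) ∣ k * k - 1 := by
        have e : q ^ (k * k - 1) = 1 := by rw [zpow_sub_one, h2, mul_inv_cancel]
        have := orderOf_dvd_iff_zpow_eq_one.mpr e
        rwa [hq] at this
      rw [← hk, hk2]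
      have hm : (k * k - 1) % 5 = 0 := Int.emod_eq_zero_of_dvd h5
      rw [Int.sub_emod, Int.mul_emod] at hm
      have hcase : k % 5 = 0 ∨ k % 5 = 1 ∨ k % 5 = 2 ∨ k % 5 = 3 ∨ k % 5 = 4 := by omega
      rcases hcase with e | e | e | e | e <;> rw [e] at hm ⊢
      · norm_num at hm
      · exact Or.inl (zpow_one q)
      · norm_num at hm
      · norm_num at hm
      · refine Or.inr (eq_inv_of_mul_eq_one_left ?_)
        rw [← zpow_add_one]; exact hq5
    let f : S → Bool := fun s => decide (((s : N) : G) * q * ((s : N) : G)⁻¹ = q)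
    have hinj : Function.Injective f := by
      intro s s' hss
      have h' : ((s : N) : G) * q * ((s : N) : G)⁻¹ = ((s' : N) : G) * q * ((s' : N) : G)⁻¹ := by
        rcases hpm s with e | e <;> rcases hpm s' with e' | e'
        · rw [e, e']
        · exact ((decide_eq_decide.mp hss).mp e).symm ▸ e
        · exact ((decide_eq_decide.mp hss).mpr e').trans e'.symm
        · rw [e, e']
      set d := s⁻¹ * s' with hdd
      have hdq : ((d : N) : G) ∈ cz q := mem_cz.2 (by
        show q * (((s : N) : G)⁻¹ * ((s' : N) : G)) = ((s : N) : G)⁻¹ * ((s' : N) : G) * q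
        calc q * (((s : N) : G)⁻¹ * ((s' : N) : G))
            = ((s : N) : G)⁻¹ * (((s : N) : G) * q * ((s : N) : G)⁻¹) * ((s' : N) : G) := by group
          _ = ((s : N) : G)⁻¹ * ((s' : N) : G) * q := by rw [h']; group)
      have h15 := orderOf_dvd_natCard (⟨_, hdq⟩ : cz q)
      rw [hd.cz5 q hq, Subgroup.orderOf_mk] at h15
      have h4 : orderOf ((d : N) : G) ∣ 4 := by
        rw [Subgroup.orderOf_coe, Subgroup.orderOf_coe, show 4 = 2 ^ 2 from rfl, ← hS]
        exact orderOf_dvd_natCard d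
      have h1' : orderOf ((d : N) : G) = 1 := Nat.eq_one_of_dvd_one (Nat.dvd_gcd h4 h15)
      have hd1 : d = 1 := Subtype.ext (Subtype.ext (orderOf_eq_one_iff.mp h1'))
      exact inv_mul_eq_one.mp hd1
    have := Nat.card_le_card_of_injective f hinj
    rw [hS, Nat.card_eq_fintype_card (α := Bool), Fintype.card_bool] at this
    omega
  have := K.card_mul_index
  rw [hNc, hKc] at this
  have h0 : K.index ≠ 0 := Subgroup.index_ne_zero_of_finite
  have hK2 : K.index = 2 := by omega
  rw [hK2] at this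
  omega

theorem cz_three_or (hd : Dat G) {x : G} (hx : orderOf x = 3) :
    Nat.card (cz x) = 180 ∨ 31 ≤ invs x := by
  have hle := class_le x
  rw [hx, hd.s3] at hle
  have hmul := class_mul hd x
  have h180 : 180 ≤ Nat.card (cz x) := by
    by_contra h
    push Not at h
    have := Nat.mul_le_mul hle (Nat.le_of_lt_succ (show Nat.card (cz x) < 179 + 1 by omega))
    omega
  obtain ⟨m, hm⟩ := nine_dvd hd hx
  have hm2 : m ∣ 2 ^ 7 * 5 := Nat.dvd_of_mul_dvd_mul_left (by norm_num : 0 < 9) (by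
    rw [← hm, show 9 * (2 ^ 7 * 5) = 2 ^ 7 * 9 * 5 from rfl]; exact cz_dvd_three hd hx)
  have h5 : Fact (Nat.Prime 5) := ⟨by norm_num⟩
  have hbig : ∀ a, 2 ^ a ∣ Nat.card (cz x) → 5 ≤ a → 31 ≤ invs x := by
    intro a ha h
    have := pow_two_le_invs hd hx ha
    have := Nat.pow_le_pow_right two_pos h
    omega
  by_cases hd5 : 5 ∣ m
  swap
  · obtain ⟨a, -, rfl⟩ := (Nat.dvd_prime_pow Nat.prime_two).1
      (Nat.Coprime.dvd_of_dvd_mul_right
        ((Nat.Prime.coprime_iff_not_dvd h5.out).2 hd5).symm hm2)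
    refine Or.inr (hbig a (Dvd.intro_left 9 hm.symm) ?_)
    by_contra ha
    have := Nat.pow_le_pow_right two_pos (show a ≤ 4 by omega)
    omega
  obtain ⟨m', rfl⟩ := hd5
  obtain ⟨a, -, rfl⟩ := (Nat.dvd_prime_pow Nat.prime_two).1
    (Nat.dvd_of_mul_dvd_mul_left (by norm_num : 0 < 5)
      (show 5 * m' ∣ 5 * 2 ^ 7 by rwa [mul_comm 5 (2 ^ 7)]))
  by_cases ha5 : 5 ≤ a
  · exact Or.inr (hbig a ⟨45, by rw [hm]; ring⟩ ha5)
  left
  obtain ⟨w, hw⟩ := exists_prime_orderOf_dvd_card' (G := cz x) 5 ⟨9 * 2 ^ a, by rw [hm]; ring⟩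
  have hq : orderOf (w : G) = 5 := by rw [Subgroup.orderOf_coe, hw]
  have h30 := card_inf_normalizer_five hd hx hq (mem_cz.1 w.2).symm
  have hPc : Nat.card ((zpowers (w : G)).subgroupOf (cz x)) =
      5 ^ (Nat.card (cz x)).factorization 5 := by
    rw [Nat.card_congr (subgroupOfEquivOfLe (zpowers_le.mpr w.2)).toEquiv, Nat.card_zpowers, hq,
      hm, show 9 * (5 * 2 ^ a) = 5 ^ 1 * (9 * 2 ^ a) by ring,
      Nat.factorization_mul (by norm_num) (by positivity), Finsupp.add_apply,
      h5.out.factorization_pow, Nat.factorization_eq_zero_of_not_dvd (n := 9 * 2 ^ a) (p := 5) (by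
        rw [h5.out.dvd_mul]
        rintro (h | h)
        · norm_num at h
        · have := h5.out.dvd_of_dvd_pow h; norm_num at this)]
    simp
  let P : Sylow 5 (cz x) := Sylow.ofCard _ hPc
  have hNP : Nat.card ↥(normalizer ((P : Subgroup (cz x)) : Set (cz x))) = 30 := by
    rw [← h30]
    refine Nat.card_congr ⟨fun g => ⟨g.1, g.1.2, ?_⟩, fun g => ⟨⟨g.1, g.2.1⟩, ?_⟩,
      fun g => rfl, fun g => rfl⟩
    · show ((g.1 : cz x) : G) ∈ normalizer (zpowers (w : G) : Set G)
      rw [Subgroup.mem_normalizer_iff]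
      intro v
      have hP : ∀ v' : cz x, v' ∈ (P : Subgroup (cz x)) ↔ (v' : G) ∈ zpowers (w : G) := fun _ =>
        Iff.rfl
      constructor
      · intro hv
        have hvm : v ∈ cz x := zpowers_le.mpr w.2 hv
        exact (hP _).mp ((Subgroup.mem_normalizer_iff.mp g.2 ⟨v, hvm⟩).mp ((hP _).mpr hv))
      · intro hv
        have hvm : g.1 * v * (g.1 : G)⁻¹ ∈ cz x := zpowers_le.mpr w.2 hv
        have hv' : v ∈ cz x := by
          have := mul_mem (mul_mem (inv_mem g.1.2) hvm) g.1.2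
          rwa [show (g.1 : G)⁻¹ * (g.1 * v * (g.1 : G)⁻¹) * g.1 = v by group] at this
        exact (hP _).mp ((Subgroup.mem_normalizer_iff.mp g.2 ⟨v, hv'⟩).mpr ((hP _).mpr hv))
    · rw [Subgroup.mem_normalizer_iff]
      intro v
      exact Subgroup.mem_normalizer_iff.mp g.2.2 (v : G)
  have hn := SmallGroups.card_normalizer_mul P
  rw [hNP, hm] at hn
  have hmod := SmallGroups.card_sylow_mem (G := cz x) (p := 5) (a := 1) (m := 9 * 2 ^ a)
    (by rw [hm]; ring) (by
      rw [h5.out.dvd_mul]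
      rintro (h | h)
      · norm_num at h
      · have := h5.out.dvd_of_dvd_pow h; norm_num at this)
  interval_cases a <;> omega

theorem exists_three (hd : Dat G) : ∃ x : G, orderOf x = 3 ∧ Nat.card (cz x) = 180 := by
  classical
  have := Fintype.ofFinite G
  by_contra h
  push Not at h
  have hge : ∀ x ∈ (Finset.univ : Finset {x : G // orderOf x = 3}), 31 ≤ invs x.1 :=
    fun x _ => (cz_three_or hd x.2).resolve_left (h x.1 x.2)
  have := Finset.card_nsmul_le_sum _ _ _ hge
  rw [sum_invs hd, Finset.card_univ, smul_eq_mul, ← Nat.card_eq_fintype_card,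
    show Nat.card {x : G // orderOf x = 3} = sn G 3 from rfl, hd.s3] at this
  omega

theorem conj_three (hd : Dat G) {x y : G} (hx : orderOf x = 3) (hy : orderOf y = 3) :
    ∃ c : G, c * x * c⁻¹ = y := by
  obtain ⟨x₀, hx₀, hc⟩ := exists_three hd
  have hcl : Nat.card {w : G // IsConj x₀ w} = sn G 3 := by
    have := class_mul hd x₀
    rw [hc] at this
    rw [hd.s3]
    omega
  obtain ⟨c, rfl⟩ := conj_of_class hx₀ hcl hx
  obtain ⟨d, rfl⟩ := conj_of_class hx₀ hcl hy
  exact ⟨d * c⁻¹, by group⟩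

theorem cz_conj (k g : G) : Nat.card (cz (k * g * k⁻¹)) = Nat.card (cz g) := by
  refine (Nat.card_congr ((MulAut.conj k).toEquiv.subtypeEquiv fun a => ?_)).symm
  show a ∈ cz g ↔ k * a * k⁻¹ ∈ cz (k * g * k⁻¹)
  rw [mem_cz, mem_cz]
  exact (commute_map_iff (f := (MulAut.conj k).toMonoidHom) (MulAut.conj k).injective).symm

theorem card_cz_three (hd : Dat G) {x : G} (hx : orderOf x = 3) : Nat.card (cz x) = 180 := by
  obtain ⟨x₀, hx₀, hc⟩ := exists_three hd
  obtain ⟨c, rfl⟩ := conj_three hd hx₀ hx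
  rw [cz_conj, hc]

theorem cz_dvd_two (hd : Dat G) {t : G} (ht : orderOf t = 2) :
    Nat.card (cz t) ∣ 2 ^ 7 * 9 * 7 := by
  have h : Nat.card (cz t) ∣ 2 ^ 7 * 9 * 7 * (5 * 11 * 23) := by
    have := card_subgroup_dvd_card (cz t)
    rw [hd.card] at this
    norm_num
    exact this
  have : Fact (Nat.Prime 5) := ⟨by norm_num⟩
  have : Fact (Nat.Prime 11) := ⟨by norm_num⟩
  have : Fact (Nat.Prime 23) := ⟨by norm_num⟩
  refine Nat.Coprime.dvd_of_dvd_mul_right ?_ h
  refine Nat.Coprime.mul_right (Nat.Coprime.mul_right ?_ ?_) ?_ <;>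
    refine ((Nat.Prime.coprime_iff_not_dvd (by norm_num)).2
      (not_dvd_cz hd ht (by norm_num) (by simp))).symm

theorem exists_seven (hd : Dat G) {t : G} (ht : orderOf t = 2) :
    ∃ p : G, orderOf p = 7 ∧ Commute t p := by
  have h7 : Fact (Nat.Prime 7) := ⟨by norm_num⟩
  suffices 7 ∣ Nat.card (cz t) by
    obtain ⟨p, hp⟩ := exists_prime_orderOf_dvd_card' (G := cz t) 7 this
    exact ⟨p, by rw [Subgroup.orderOf_coe, hp], mem_cz.1 p.2⟩
  by_contra h
  have hle := class_le t
  rw [ht, hd.s2] at hle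
  have hC : Nat.card (cz t) ≤ 1152 := Nat.le_of_dvd (by norm_num)
    (Nat.Coprime.dvd_of_dvd_mul_right ((Nat.Prime.coprime_iff_not_dvd h7.out).2 h).symm
      (show Nat.card (cz t) ∣ 1152 * 7 from cz_dvd_two hd ht))
  have := class_mul hd t
  have := Nat.mul_le_mul hle hC
  omega

theorem unique_invol (hd : Dat G) {p t u : G} (hp : orderOf p = 7) (ht : orderOf t = 2)
    (hu : orderOf u = 2) (htp : Commute t p) (hup : Commute u p) : t = u := by
  have h7 : Fact (Nat.Prime 2) := ⟨Nat.prime_two⟩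
  have hcyc : IsCyclic (cz p) := isCyclic_of_orderOf_eq_card
      (⟨t * p, mem_cz.2 (htp.symm.mul_right (Commute.refl p))⟩ : cz p) (by
      rw [Subgroup.orderOf_mk, hd.cz7 p hp,
        htp.orderOf_mul_eq_mul_orderOf_of_coprime (by rw [ht, hp]; norm_num), ht, hp])
  by_contra hne
  have hm : (⟨u, mem_cz.2 hup.symm⟩ : cz p) ∈ zpowers (⟨t, mem_cz.2 htp.symm⟩ : cz p) :=
    eq_zpowers_of_cyclic (by rw [Subgroup.orderOf_mk, Subgroup.orderOf_mk, ht, hu])
  obtain ⟨k, hk⟩ := mem_zpowers_iff.mp hm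
  have hk' : t ^ k = u := by simpa using congrArg Subtype.val hk
  have ht2 : t ^ (2 : ℤ) = 1 := by
    rw [show (2 : ℤ) = ((2 : ℕ) : ℤ) from rfl, zpow_natCast, ← ht, pow_orderOf_eq_one]
  rcases Int.even_or_odd k with ⟨j, rfl⟩ | ⟨j, rfl⟩
  · rw [← two_mul, zpow_mul, ht2, one_zpow] at hk'
    rw [← hk', orderOf_one] at hu
    norm_num at hu
  · rw [zpow_add, zpow_mul, ht2, one_zpow, one_mul, zpow_one] at hk'
    exact hne hk'

theorem conj_two (hd : Dat G) {t u : G} (ht : orderOf t = 2) (hu : orderOf u = 2) :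
    ∃ g : G, g * t * g⁻¹ = u := by
  have h7 : Fact (Nat.Prime 7) := ⟨by norm_num⟩
  obtain ⟨p, hp, htp⟩ := exists_seven hd ht
  obtain ⟨q, hq, huq⟩ := exists_seven hd hu
  have hS : ∀ {a : G}, orderOf a = 7 →
      Nat.card (zpowers a) = 7 ^ (Nat.card G).factorization 7 := by
    intro a ha
    rw [Nat.card_zpowers, ha, hd.card, show 10200960 = 7 ^ 1 * 1457280 from rfl,
      Nat.factorization_mul (by norm_num) (by norm_num), Finsupp.add_apply,
      h7.out.factorization_pow, Nat.factorization_eq_zero_of_not_dvd (by norm_num)]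
    simp
  obtain ⟨g, hg⟩ := MulAction.exists_smul_eq G (Sylow.ofCard _ (hS hp)) (Sylow.ofCard _ (hS hq))
  have hmem : g⁻¹ * q * g ∈ zpowers p := by
    have h : q ∈ ((g • Sylow.ofCard _ (hS hp) : Sylow 7 G) : Subgroup G) := by
      rw [hg]; exact mem_zpowers q
    rw [Sylow.coe_subgroup_smul] at h
    obtain ⟨a, ha, ha'⟩ := Subgroup.mem_map.mp h
    have : g * a * g⁻¹ = q := by simpa using ha'
    rw [← this]
    simpa [mul_assoc] using (show a ∈ zpowers p from ha)
  obtain ⟨k, hk⟩ := mem_zpowers_iff.mp hmem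
  refine ⟨g, unique_invol hd hq (by rw [orderOf_conj, ht]) hu ?_ huq⟩
  have h1 : Commute t (g⁻¹ * q * g) := hk ▸ htp.zpow_right k
  show g * t * g⁻¹ * q = q * (g * t * g⁻¹)
  calc g * t * g⁻¹ * q = g * (t * (g⁻¹ * q * g)) * g⁻¹ := by group
    _ = g * (g⁻¹ * q * g * t) * g⁻¹ := by rw [h1.eq]
    _ = q * (g * t * g⁻¹) := by group

theorem card_cz_two (hd : Dat G) {t : G} (ht : orderOf t = 2) : Nat.card (cz t) = 2688 := by
  have hcl : Nat.card {w : G // IsConj t w} = sn G 2 := Nat.card_congr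
    (Equiv.subtypeEquivRight fun w => ⟨fun h => by
      obtain ⟨c, hc⟩ := isConj_iff.1 h
      rw [← hc, orderOf_conj, ht], fun h => isConj_iff.2 (conj_two hd ht h)⟩)
  have := class_mul hd t
  rw [hcl, hd.s2] at this
  omega

theorem normalizer_seven (hd : Dat G) {p : G} (hp : orderOf p = 7) :
    Nat.card ↥(normalizer (zpowers p : Set G)) = 42 := by
  have h7 : Fact (Nat.Prime 7) := ⟨by norm_num⟩
  have h1 := SmallGroups.card_orderOf_eq (p := 7) fun P : Sylow 7 G => by
    simpa using SmallGroups.card_sylow_eq (p := 7) (a := 1) (m := 1457280)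
      (by rw [hd.card]; norm_num) (by norm_num) P
  change sn G 7 = _ at h1
  rw [hd.s7] at h1
  have hS : Nat.card (zpowers p) = 7 ^ (Nat.card G).factorization 7 := by
    rw [Nat.card_zpowers, hp, hd.card, show 10200960 = 7 ^ 1 * 1457280 from rfl,
      Nat.factorization_mul (by norm_num) (by norm_num), Finsupp.add_apply,
      h7.out.factorization_pow, Nat.factorization_eq_zero_of_not_dvd (by norm_num)]
    simp
  exact SmallGroups.normalizer_conj_eq_card (Sylow.ofCard _ hS) (n := 242880) (by omega)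
    (by rw [hd.card])

/-- The normaliser of a subgroup of order seven centralises its involution. -/
theorem normalizer_seven_le (hd : Dat G) {t p : G} (ht : orderOf t = 2) (hp : orderOf p = 7)
    (htp : Commute t p) : normalizer (zpowers p : Set G) ≤ cz t := by
  intro g hg
  obtain ⟨k, hk⟩ := mem_zpowers_iff.mp
    ((Subgroup.mem_normalizer_iff''.mp hg p).mp (mem_zpowers p))
  have h1 : Commute t (g⁻¹ * p * g) := hk ▸ htp.zpow_right k
  have h2 : g * t * g⁻¹ = t := unique_invol hd hp (by rw [orderOf_conj, ht]) ht (by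
    show g * t * g⁻¹ * p = p * (g * t * g⁻¹)
    calc g * t * g⁻¹ * p = g * (t * (g⁻¹ * p * g)) * g⁻¹ := by group
      _ = g * (g⁻¹ * p * g * t) * g⁻¹ := by rw [h1.eq]
      _ = p * (g * t * g⁻¹) := by group) htp
  refine mem_cz.2 ?_
  show t * g = g * t
  conv_lhs => rw [← h2]
  group

/-- An involution, an element of order three it centralises and an element centralising the
involution and inverting that element. -/
theorem exists_inverted (hd : Dat G) :
    ∃ t x g : G, orderOf t = 2 ∧ orderOf x = 3 ∧ Commute t x ∧ Commute g t ∧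
      g * x * g⁻¹ = x⁻¹ := by
  obtain ⟨x, hx, hcx⟩ := exists_three hd
  obtain ⟨g₀, hg₀⟩ := conj_three hd hx (y := x⁻¹) (by rw [orderOf_inv, hx])
  -- a 2-power of the inverter still inverts
  obtain ⟨e, m, hm, he⟩ := Nat.exists_eq_two_pow_mul_odd (orderOf_pos g₀).ne'
  set g := g₀ ^ m with hg
  have hinv : ∀ j : ℕ, g₀ ^ (2 * j + 1) * x * (g₀ ^ (2 * j + 1))⁻¹ = x⁻¹ := by
    intro j
    induction j with
    | zero => simpa using hg₀
    | succ j ih =>
      calc g₀ ^ (2 * (j + 1) + 1) * x * (g₀ ^ (2 * (j + 1) + 1))⁻¹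
          = g₀ * (g₀ * (g₀ ^ (2 * j + 1) * x * (g₀ ^ (2 * j + 1))⁻¹) * g₀⁻¹) * g₀⁻¹ := by
            rw [show 2 * (j + 1) + 1 = 2 + (2 * j + 1) by ring, pow_add, pow_two]; group
        _ = x⁻¹ := by rw [ih, ← conj_inv, hg₀, inv_inv, hg₀]
  have hgx : g * x * g⁻¹ = x⁻¹ := by
    obtain ⟨j, hj⟩ := hm
    rw [hg, hj]
    exact hinv j
  have hgo : orderOf g ∣ 2 ^ e := orderOf_dvd_of_pow_eq_one (by
    rw [hg, ← pow_mul, mul_comm, ← he, pow_orderOf_eq_one])
  have : Fact (Nat.Prime 2) := ⟨Nat.prime_two⟩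
  let I := {w : G // w ∈ cz x ∧ w ^ 2 = 1}
  have hI : 2 ∣ Nat.card I := by
    have h180 : 4 ∣ Nat.card (cz x) := by rw [card_cz_three hd hx]; norm_num
    have hIe : Nat.card I = Nat.card {w : cz x // w ^ 2 = 1} := Nat.card_congr
      { toFun := fun w => ⟨⟨w.1, w.2.1⟩, Subtype.ext (by simpa using w.2.2)⟩
        invFun := fun w => ⟨w.1.1, w.1.2, by simpa using congrArg Subtype.val w.2⟩
        left_inv := fun w => rfl
        right_inv := fun w => rfl }
    have hf := M22Nse38.frob (G := cz x) 2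
    rw [card_cz_three hd hx] at hf
    rw [hIe]
    simpa using hf
  have hgm : ∀ w : G, w ∈ cz x → g * w * g⁻¹ ∈ cz x := by
    intro w hw
    refine mem_cz.2 ?_
    have h : Commute (g * x * g⁻¹) (g * w * g⁻¹) :=
      Commute.map (mem_cz.1 hw) (MulAut.conj g).toMonoidHom
    rw [hgx] at h
    exact Commute.inv_left_iff.mp h
  have hgm' : ∀ w : G, w ∈ cz x → g⁻¹ * w * g ∈ cz x := by
    intro w hw
    refine mem_cz.2 ?_
    have h : Commute (g⁻¹ * x⁻¹ * g) (g⁻¹ * w * g) := by
      simpa using Commute.map (mem_cz.1 hw).inv_left (MulAut.conj g⁻¹).toMonoidHom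
    rwa [← hgx, show g⁻¹ * (g * x * g⁻¹) * g = x by group] at h
  let ρ : Equiv.Perm I :=
    { toFun := fun w => ⟨g * w.1 * g⁻¹, hgm _ w.2.1, by rw [conj_pow, w.2.2]; group⟩
      invFun := fun w => ⟨g⁻¹ * w.1 * g, hgm' _ w.2.1, by
        have := conj_pow (i := 2) (a := g⁻¹) (b := w.1)
        rw [inv_inv] at this
        rw [this, w.2.2]; group⟩
      left_inv := fun w => Subtype.ext (by show g⁻¹ * (g * w.1 * g⁻¹) * g = w.1; group)
      right_inv := fun w => Subtype.ext (by show g * (g⁻¹ * w.1 * g) * g⁻¹ = w.1; group) }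
  have hρ : ρ ^ 2 ^ e = 1 := by
    have hpow : ∀ (i : ℕ) (w : I), (((ρ ^ i) w : I) : G) = g ^ i * w.1 * (g ^ i)⁻¹ := by
      intro i
      induction i with
      | zero => intro w; simp
      | succ i ih =>
        intro w
        rw [pow_succ', Equiv.Perm.mul_apply]
        show g * ((ρ ^ i) w : I).1 * g⁻¹ = _
        rw [ih, pow_succ' g i]; group
    refine Equiv.ext fun w => Subtype.ext ?_
    rw [hpow, orderOf_dvd_iff_pow_eq_one.mp hgo]
    simp
  have hP : IsPGroup 2 (zpowers ρ) := by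
    obtain ⟨k, -, hk⟩ := (Nat.dvd_prime_pow Nat.prime_two).mp (orderOf_dvd_of_pow_eq_one hρ)
    exact IsPGroup.of_card (n := k) (by rw [Nat.card_zpowers, hk])
  let w₁ : I := ⟨1, one_mem _, one_pow 2⟩
  have hw₁ : w₁ ∈ MulAction.fixedPoints (zpowers ρ) I := by
    have hfix : ρ w₁ = w₁ := Subtype.ext (by show g * 1 * g⁻¹ = 1; simp)
    intro σ
    obtain ⟨k, hk⟩ := mem_zpowers_iff.mp σ.2
    show (σ : Equiv.Perm I) w₁ = w₁
    rw [← hk]
    exact Equiv.Perm.zpow_apply_eq_self_of_apply_eq_self hfix k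
  obtain ⟨w, hw, hne⟩ := hP.exists_fixed_point_of_prime_dvd_card_of_fixed_point I hI hw₁
  have hw' : ρ w = w := hw ⟨ρ, mem_zpowers ρ⟩
  have hw1 : (w : G) ≠ 1 := fun h => hne (Subtype.ext h.symm)
  refine ⟨w.1, x, g, orderOf_eq_prime w.2.2 hw1, hx, (mem_cz.1 w.2.1).symm, ?_, hgx⟩
  have h : g * w.1 * g⁻¹ = w.1 := congrArg Subtype.val hw'
  exact mul_inv_eq_iff_eq_mul.mp h

end Cfsg.Agent.M23Nse48.Loc
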