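import Cfsg.Agent.M23Nse48.LocalBasic
import Cfsg.Agent.BlkChar.SmallCofactorFour

/-!
# The normal subgroup of order sixteen in the centraliser of an involution (helper46)
-/

set_option autoImplicit false

open Subgroup MulAction
open scoped commutatorElement

namespace Cfsg.Agent.M23Nse48.Loc

/-- A group of order 2688 with a central involution, self-centralising cyclic subgroups of order 14
and no elements of order 21 has a normal 2-subgroup outside the central one. -/
theorem exists_two_normal {H : Type*} [Group H] [Finite H] (hH : Nat.card H = 2688) {z : H}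
    (hz : ∀ h, Commute z h) (hz2 : orderOf z = 2)
    (hN : ∀ p : H, orderOf p = 7 → Nat.card ↥(normalizer (zpowers p : Set H)) = 42)
    (h21 : ∀ h : H, orderOf h ≠ 21) :
    ∃ L : Subgroup H, L.Normal ∧ IsPGroup 2 L ∧ ¬ L ≤ zpowers z := by
  classical
  have h2 : Fact (Nat.Prime 2) := ⟨Nat.prime_two⟩
  have h7 : Fact (Nat.Prime 7) := ⟨by norm_num⟩
  obtain ⟨p, hp⟩ := exists_prime_orderOf_dvd_card' (G := H) 7 (by rw [hH]; norm_num)
  have hpZ : p ∉ zpowers z := fun h => by
    have h1 : orderOf p ∣ Nat.card (zpowers z) := orderOf_dvd_natCard _ h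
    rw [Nat.card_zpowers, hz2, hp] at h1
    norm_num at h1
  by_cases hs : ∃ n, derivedSeries H n ≤ zpowers z
  · obtain ⟨m, hm, hm'⟩ : ∃ m, ¬ derivedSeries H m ≤ zpowers z ∧
        derivedSeries H (m + 1) ≤ zpowers z := by
      obtain ⟨n, hn⟩ := hs
      induction n with
      | zero => exact absurd (hn (mem_top p)) hpZ
      | succ n ih =>
        by_cases h : derivedSeries H n ≤ zpowers z
        · exact ih h
        · exact ⟨n, h, hn⟩
    set L := derivedSeries H m with hL
    have hLn : L.Normal := derivedSeries_normal H m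
    refine ⟨L, hLn, ?_, hm⟩
    have hno : ∀ q : ℕ, q.Prime → q = 3 ∨ q = 7 → ¬ q ∣ Nat.card L := by
      intro q hq hq37 hdvd
      have : Fact q.Prime := ⟨hq⟩
      obtain ⟨y', hy'⟩ := exists_prime_orderOf_dvd_card' (G := L) q hdvd
      set y : H := y'.1 with hy
      have hyo : orderOf y = q := by rw [hy, Subgroup.orderOf_coe, hy']
      have hcen : ∀ g ∈ L, Commute g y := by
        intro g hg
        have he : g * y * g⁻¹ * y⁻¹ ∈ zpowers z := hm' (by
          rw [derivedSeries_succ]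
          exact commutator_mem_commutator hg y'.2)
        obtain ⟨k, hk⟩ := mem_zpowers_iff.mp he
        set e := g * y * g⁻¹ * y⁻¹ with he'
        have hz2' : z ^ 2 = 1 := by rw [← hz2, pow_orderOf_eq_one]
        have he2 : e ^ 2 = 1 := by
          rw [← hk, ← zpow_natCast (z ^ k), ← zpow_mul, mul_comm, zpow_mul, zpow_natCast, hz2',
            one_zpow]
        have hey : Commute e y := hk ▸ (hz y).zpow_left k
        have hgy : g * y * g⁻¹ = e * y := by rw [he']; group
        have h1 : (e * y) ^ q = 1 := by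
          rw [← hgy, conj_pow, ← hyo, pow_orderOf_eq_one, mul_one, mul_inv_cancel]
        rw [hey.mul_pow, ← hyo, pow_orderOf_eq_one, mul_one, hyo] at h1
        have he1 : e = 1 := by
          rcases hq37 with rfl | rfl
          · rwa [pow_succ, he2, one_mul] at h1
          · rwa [show 7 = 2 * 3 + 1 from rfl, pow_succ, pow_mul, he2, one_pow, one_mul] at h1
        rw [he1, one_mul] at hgy
        exact mul_inv_eq_iff_eq_mul.mp hgy
      have hnorm : ∀ g : H, g * y * g⁻¹ ∈ zpowers y := by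
        intro g
        set w := g * y * g⁻¹ with hw
        have hwy : Commute w y := hcen w (hLn.conj_mem y y'.2 g)
        have hwo : orderOf w = q := (MulAut.conj g).orderOf_eq y ▸ hyo
        have hle : zpowers w ≤ normalizer (zpowers y : Set H) := by
          refine zpowers_le.mpr (Subgroup.mem_normalizer_iff.mpr fun v => ?_)
          constructor
          · intro hv
            obtain ⟨k, rfl⟩ := mem_zpowers_iff.mp hv
            rw [(hwy.zpow_right k).eq, mul_inv_cancel_right]
            exact zpow_mem (mem_zpowers y) k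
          · intro hv
            obtain ⟨k, hk⟩ := mem_zpowers_iff.mp hv
            refine mem_zpowers_iff.mpr ⟨k, ?_⟩
            have h := (hwy.zpow_right k).eq
            rw [hk] at h ⊢
            calc w * v * w⁻¹ = w⁻¹ * (w * (w * v * w⁻¹)) * 1 := by group
              _ = w⁻¹ * ((w * v * w⁻¹) * w) := by rw [h, mul_one]
              _ = v := by group
        obtain ⟨i, hi⟩ := (IsPGroup.to_sup_of_normal_right'
          (IsPGroup.of_card (n := 1) (by rw [Nat.card_zpowers, hwo, pow_one]))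
          (IsPGroup.of_card (p := q) (n := 1) (by rw [Nat.card_zpowers, hyo, pow_one]))
          hle).exists_card_eq
        have hi1 : i ≤ 1 := by
          by_contra hi2
          have h : q ^ 2 ∣ 2688 := by
            rw [← hH]
            exact (pow_dvd_pow q (by omega : 2 ≤ i)).trans (hi ▸ card_subgroup_dvd_card _)
          rcases hq37 with rfl | rfl <;> norm_num at h
        have heq : zpowers y = zpowers w ⊔ zpowers y := eq_of_le_of_card_ge le_sup_right (by
          rw [hi, Nat.card_zpowers, hyo]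
          exact (Nat.pow_le_pow_right hq.pos hi1).trans (pow_one q).le)
        rw [heq]
        exact le_sup_left (a := zpowers w) (b := zpowers y) (mem_zpowers w)
      rcases hq37 with rfl | rfl
      · have h3 : y ^ 3 = 1 := by rw [← hyo, pow_orderOf_eq_one]
        obtain ⟨i, hi, hi'⟩ := Finset.mem_image.mp
          ((isOfFinOrder_of_finite y).mem_zpowers_iff_mem_range_orderOf.mp (hnorm p))
        have hi' : y ^ i = p * y * p⁻¹ := hi'
        rw [hyo, Finset.mem_range] at hi
        have hp2 : Commute (p ^ 2) y := by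
          have h : p ^ 2 * y * (p ^ 2)⁻¹ = y := by
            calc p ^ 2 * y * (p ^ 2)⁻¹ = p * (p * y * p⁻¹) * p⁻¹ := by rw [pow_two]; group
              _ = (p * y * p⁻¹) ^ i := by rw [← hi', ← conj_pow, ← hi']
              _ = y ^ (i * i) := by rw [← hi', pow_mul]
              _ = y := by
                interval_cases i
                · rw [pow_zero, eq_comm, conj_eq_one_iff] at hi'
                  rw [hi']; simp
                · simp
                · rw [show 2 * 2 = 3 + 1 from rfl, pow_succ, h3, one_mul]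
          exact mul_inv_eq_iff_eq_mul.mp h
        have hpy : Commute p y := by
          have h := hp2.pow_left 4
          rwa [← pow_mul, show 2 * 4 = 7 + 1 from rfl, pow_succ, ← hp, pow_orderOf_eq_one,
            one_mul] at h
        exact h21 (p * y)
          (by rw [hpy.orderOf_mul_eq_mul_orderOf_of_coprime (by rw [hp, hyo]; norm_num), hp, hyo])
      · have htop : normalizer (zpowers y : Set H) = ⊤ := by
          refine eq_top_iff.mpr fun g _ => Subgroup.mem_normalizer_iff.mpr fun v => ⟨?_, ?_⟩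
          · intro hv
            obtain ⟨k, rfl⟩ := mem_zpowers_iff.mp hv
            rw [← conj_zpow]
            exact zpow_mem (hnorm g) k
          · intro hv
            obtain ⟨k, hk⟩ := mem_zpowers_iff.mp hv
            have h : v = (g⁻¹ * y * g⁻¹⁻¹) ^ k := by rw [conj_zpow, hk]; group
            rw [h]
            exact zpow_mem (hnorm g⁻¹) k
        have h := hN y hyo
        rw [htop, card_top, hH] at h
        norm_num at h
    have hd : Nat.card L ∣ 2 ^ 7 := by
      have h : Nat.card L ∣ 2 ^ 7 * (3 * 7) := by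
        have := card_subgroup_dvd_card L
        rwa [hH] at this
      exact Nat.Coprime.dvd_of_dvd_mul_right
        (Nat.Coprime.mul_right
          ((Nat.Prime.coprime_iff_not_dvd Nat.prime_three).2 (hno 3 Nat.prime_three (.inl rfl))).symm
          ((Nat.Prime.coprime_iff_not_dvd h7.out).2 (hno 7 h7.out (.inr rfl))).symm) h
    obtain ⟨k, -, hk⟩ := (Nat.dvd_prime_pow Nat.prime_two).mp hd
    exact IsPGroup.of_card hk
  push Not at hs
  obtain ⟨n, hn⟩ : ∃ n, derivedSeries H (n + 1) = derivedSeries H n := by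
    by_contra h
    push Not at h
    exact not_injective_infinite_finite (derivedSeries H) (strictAnti_nat_of_succ_lt fun n =>
      lt_of_le_of_ne (derivedSeries_antitone H n.le_succ) (h n)).injective
  set D := derivedSeries H n with hD
  have hDn : D.Normal := derivedSeries_normal H n
  have hperf : commutator D = ⊤ := by
    refine map_injective D.subtype_injective ?_
    rw [map_subtype_commutator, ← MonoidHom.range_eq_map, range_subtype, hD]
    exact (derivedSeries_succ H n).symm.trans hn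
  have hDbot : (⊥ : Subgroup D) ≠ ⊤ := fun h =>
    hs n (le_of_eq_of_le (show D = ⊥ by
      rw [← D.range_subtype, MonoidHom.range_eq_map, ← h, Subgroup.map_bot]) bot_le)
  obtain ⟨M, -, ⟨hMn, hMt⟩, hmax⟩ := Finite.exists_le_maximal (α := Subgroup D)
    (p := fun N => N.Normal ∧ N ≠ ⊤) (a := ⊥) ⟨inferInstance, hDbot⟩
  have : Nontrivial (D ⧸ M) := by
    rw [← not_subsingleton_iff_nontrivial]
    exact fun h => hMt (QuotientGroup.subgroup_eq_top_of_subsingleton M h)
  have hsimp : IsSimpleGroup (D ⧸ M) := ⟨fun N hNn => by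
    have hle : M ≤ N.comap (QuotientGroup.mk' M) := fun x hx => by
      show QuotientGroup.mk' M x ∈ N
      rw [(QuotientGroup.eq_one_iff x).mpr hx |> fun h => show QuotientGroup.mk' M x = 1 from h]
      exact one_mem N
    by_cases htop : N.comap (QuotientGroup.mk' M) = ⊤
    · exact Or.inr (by
        rw [← map_comap_eq_self_of_surjective (QuotientGroup.mk'_surjective M) N, htop,
          map_top_of_surjective _ (QuotientGroup.mk'_surjective M)])
    · left
      have h := le_antisymm (hmax ⟨hNn.comap _, htop⟩ hle) hle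
      rw [← map_comap_eq_self_of_surjective (QuotientGroup.mk'_surjective M) N, h,
        QuotientGroup.map_mk'_self]⟩
  have hna : ¬ IsMulCommutative (D ⧸ M) := fun hc => by
    refine hMt (top_le_iff.mp (hperf ▸ ?_))
    rw [commutator_def, commutator_le]
    intro a _ b _
    rw [← QuotientGroup.eq_one_iff]
    have h : Commute (QuotientGroup.mk' M a) (QuotientGroup.mk' M b) := hc.is_comm.comm _ _
    show QuotientGroup.mk' M ⁅a, b⁆ = 1
    rw [map_commutatorElement, commutatorElement_eq_one_iff_commute.mpr h]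
  have hSdvd : Nat.card (D ⧸ M) ∣ Nat.card D := card_quotient_dvd_card M
  have hDdvd : Nat.card D ∣ 2688 := hH ▸ card_subgroup_dvd_card D
  have hSd : Nat.card (D ⧸ M) ∣ 2 ^ 7 * (3 * 7) := hSdvd.trans hDdvd
  have hsol : ∀ {l : ℕ}, l.Prime → ¬ Nat.card (D ⧸ M) ∣ 2 ^ 7 * l := by
    intro l hl h
    obtain ⟨⟨d₁, hd₁⟩, ⟨d₂, hd₂⟩, hS⟩ := Nat.dvd_mul.mp h |>
      fun ⟨a, b, ha, hb, e⟩ => (⟨⟨a, ha⟩, ⟨b, hb⟩, e.symm⟩ :
        ∃ (u : {a // a ∣ 2 ^ 7}) (v : {b // b ∣ l}), Nat.card (D ⧸ M) = u.1 * v.1)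
    obtain ⟨i, -, rfl⟩ := (Nat.dvd_prime_pow Nat.prime_two).mp hd₁
    obtain ⟨k, -, rfl⟩ := (Nat.dvd_prime_pow hl).mp (show d₂ ∣ l ^ 1 by rwa [pow_one])
    have : Group.IsSolvable (D ⧸ M) :=
      CharCore.isSolvable_of_card_eq_prime_pow_mul Nat.prime_two hl _ (D ⧸ M) i k rfl hS
    exact hna ⟨⟨fun x y => IsSimpleGroup.comm_iff_isSolvable.mpr inferInstance x y⟩⟩
  have h3S : 3 ∣ Nat.card (D ⧸ M) := by
    by_contra h
    refine hsol h7.out (Nat.Coprime.dvd_of_dvd_mul_right
      ((Nat.Prime.coprime_iff_not_dvd Nat.prime_three).2 h).symm ?_)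
    rwa [mul_assoc, mul_comm 7 3]
  have h7S : 7 ∣ Nat.card (D ⧸ M) := by
    by_contra h
    refine hsol Nat.prime_three (Nat.Coprime.dvd_of_dvd_mul_right
      ((Nat.Prime.coprime_iff_not_dvd h7.out).2 h).symm ?_)
    rwa [mul_assoc]
  obtain ⟨m, hm⟩ := Nat.Coprime.mul_dvd_of_dvd_of_dvd (by norm_num) h3S h7S
  obtain ⟨i, -, rfl⟩ := (Nat.dvd_prime_pow Nat.prime_two).mp (show m ∣ 2 ^ 7 from
    Nat.dvd_of_mul_dvd_mul_left (by norm_num : 0 < 3 * 7)
      (by rw [← hm, mul_comm (3 * 7)]; exact hSd))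
  have hS : Nat.card (D ⧸ M) = 60 ∨ Nat.card (D ⧸ M) = 168 :=
    BlkChar.CofFour.three_result hna (p := 7) (q := 2) (a := 1) (b := i) (by norm_num)
      Nat.prime_two (by norm_num) (by norm_num) (by rw [hm, pow_one])
  have hD7 : 7 ∣ Nat.card D := h7S.trans hSdvd
  have hall : ∀ x : H, orderOf x = 7 → x ∈ D := by
    intro x hx
    have hidx : Nat.Coprime 7 D.index := (Nat.Prime.coprime_iff_not_dvd h7.out).2 fun h => by
      have h49 := Nat.mul_dvd_mul hD7 h
      rw [D.card_mul_index, hH] at h49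
      norm_num at h49
    have hqx := D.pow_index_mem x
    obtain ⟨k, hk⟩ := exists_pow_eq_self_of_coprime (hx.symm ▸ hidx.symm : D.index.Coprime (orderOf x))
    rw [← hk]
    exact pow_mem hqx k
  have hPH : ∀ P : Sylow 7 H, Nat.card ↥(P : Subgroup H) = 7 := fun P => by
    simpa using SmallGroups.card_sylow_eq (p := 7) (a := 1) (m := 384) (by rw [hH]; norm_num)
      (by norm_num) P
  have hnH : Nat.card (Sylow 7 H) = 64 := by
    obtain ⟨P⟩ := (inferInstance : Nonempty (Sylow 7 H))
    obtain ⟨y, hy, hy1⟩ : ∃ y ∈ (P : Subgroup H), y ≠ 1 :=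
      (Subgroup.bot_or_exists_ne_one (P : Subgroup H)).resolve_left fun h => by
        have h' := hPH P
        rw [h, card_bot] at h'
        norm_num at h'
    have h := SmallGroups.card_normalizer_mul P
    rw [← SmallGroups.zpowers_eq_of_card_prime (hPH P) hy hy1,
      hN y (SmallGroups.orderOf_of_card_prime (hPH P) hy hy1), hH] at h
    omega
  have h64 : 64 ∣ Nat.card D := by
    obtain ⟨m', hm'⟩ := hD7
    have h49 : ¬ 7 ∣ m' := fun h => by
      have := (Nat.mul_dvd_mul_left 7 h).trans (hm' ▸ hDdvd)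
      norm_num at this
    have hPD : ∀ P : Sylow 7 D, Nat.card ↥(P : Subgroup D) = 7 := fun P => by
      simpa using SmallGroups.card_sylow_eq (p := 7) (a := 1) (m := m')
        (by rw [hm', pow_one]) h49 P
    have e : Nat.card {x : D // orderOf x = 7} = Nat.card {x : H // orderOf x = 7} :=
      Nat.card_congr
        { toFun := fun x => ⟨x.1.1, by rw [Subgroup.orderOf_coe, x.2]⟩
          invFun := fun x => ⟨⟨x.1, hall _ x.2⟩, by rw [Subgroup.orderOf_mk, x.2]⟩
          left_inv := fun x => rfl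
          right_inv := fun x => rfl }
    rw [SmallGroups.card_orderOf_eq hPD, SmallGroups.card_orderOf_eq hPH, hnH] at e
    obtain ⟨P⟩ := (inferInstance : Nonempty (Sylow 7 D))
    exact Dvd.intro_left _ (show _ * 64 = Nat.card D by
      rw [← show Nat.card (Sylow 7 D) = 64 by omega]
      exact SmallGroups.card_normalizer_mul P)
  have hM : Nat.card M = 8 ∨ Nat.card M = 16 ∧ Nat.card (D ⧸ M) = 168 := by
    have hmul := M.card_eq_card_quotient_mul_card_subgroup
    have h21' : 3 * 7 ∣ Nat.card D := (Dvd.intro _ hm.symm).trans hSdvd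
    have h1344 : 1344 ∣ Nat.card D :=
      (show 1344 = 64 * (3 * 7) by norm_num) ▸
        Nat.Coprime.mul_dvd_of_dvd_of_dvd (by norm_num) h64 h21'
    obtain ⟨c, hc⟩ := h1344
    have hc2 : c ∣ 2 := Nat.dvd_of_mul_dvd_mul_left (by norm_num : 0 < 1344) (hc ▸ hDdvd)
    rcases hS with h | h <;> rcases (Nat.dvd_prime Nat.prime_two).mp hc2 with rfl | rfl <;>
      rw [h, hc] at hmul <;> omega
  have hS168 : Nat.card (D ⧸ M) = 168 := by
    rcases hS with h | h
    · have := hSd
      rw [h] at this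
      norm_num at this
    · exact h
  obtain ⟨k, hk, hk3⟩ : ∃ k, Nat.card M = 2 ^ k ∧ 2 < 2 ^ k := by
    rcases hM with h | ⟨h, -⟩
    exacts [⟨3, h, by norm_num⟩, ⟨4, h, by norm_num⟩]
  have hM2 : IsPGroup 2 M := IsPGroup.of_card hk
  refine ⟨M.map D.subtype, ⟨fun x hx g => ?_⟩, hM2.map _, fun hle => ?_⟩
  · obtain ⟨m₀, hm₀, rfl⟩ := Subgroup.mem_map.mp hx
    let c : D ≃* D := MulAut.conjNormal g
    have hn' : (M.map c.toMonoidHom).Normal := hMn.map _ c.surjective
    have hn'' : ((M.map c.toMonoidHom).map (QuotientGroup.mk' M)).Normal :=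
      hn'.map _ (QuotientGroup.mk'_surjective M)
    rcases hn''.eq_bot_or_eq_top with hb | ht
    · have hle : M.map c.toMonoidHom ≤ M :=
        ((Subgroup.map_eq_bot_iff _).mp hb).trans (QuotientGroup.ker_mk' M).le
      exact ⟨c m₀, hle (mem_map_of_mem _ hm₀), MulAut.conjNormal_apply g m₀⟩
    · exfalso
      have hp' := (hM2.map c.toMonoidHom).map (QuotientGroup.mk' M)
      obtain ⟨j, hj⟩ := hp'.exists_card_eq
      rw [ht, card_top, hS168] at hj
      have : 3 ∣ 2 ^ j := by rw [← hj]; norm_num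
      have := Nat.prime_three.dvd_of_dvd_pow this
      norm_num at this
  · have h := Subgroup.card_le_of_le hle
    rw [card_map_of_injective D.subtype_injective, hk, Nat.card_zpowers, hz2] at h
    omega

variable {G : Type*} [Group G] [Finite G]

/-- What characterises the subgroup of order sixteen. -/
structure Good (t : G) (K : Subgroup G) : Prop where
  mem : t ∈ K
  card : Nat.card K = 16
  le : K ≤ cz t
  le_norm : cz t ≤ normalizer (K : Set G)

theorem le_normalizer_of {C K : Subgroup G} (h : ∀ g ∈ C, ∀ a ∈ K, g * a * g⁻¹ ∈ K) :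
    C ≤ normalizer (K : Set G) := by
  intro g hg
  refine Subgroup.mem_normalizer_iff.mpr fun a => ⟨h g hg a, fun ha => ?_⟩
  have h' := h g⁻¹ (inv_mem hg) _ ha
  rwa [show g⁻¹ * (g * a * g⁻¹) * g⁻¹⁻¹ = a by group] at h'

theorem conj_mem {C K : Subgroup G} (hn : C ≤ normalizer (K : Set G)) {g : G} (hg : g ∈ C)
    {a : G} (ha : a ∈ K) : g * a * g⁻¹ ∈ K :=
  (Subgroup.mem_normalizer_iff.mp (hn hg) a).mp ha

/-- The elements of a subgroup fixed by an element of prime order normalising it. -/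
theorem conj_modEq {q : ℕ} [Fact q.Prime] {K : Subgroup G} {y : G} (hy : orderOf y = q)
    (hn : y ∈ normalizer (K : Set G)) :
    Nat.card K ≡ Nat.card ↥(K ⊓ cz y) [MOD q] := by
  let ρ : Equiv.Perm K :=
    { toFun := fun w => ⟨y * w.1 * y⁻¹, (Subgroup.mem_normalizer_iff.mp hn _).mp w.2⟩
      invFun := fun w => ⟨y⁻¹ * w.1 * y, (Subgroup.mem_normalizer_iff''.mp hn _).mp w.2⟩
      left_inv := fun w => Subtype.ext (by show y⁻¹ * (y * w.1 * y⁻¹) * y = w.1; group)
      right_inv := fun w => Subtype.ext (by show y * (y⁻¹ * w.1 * y) * y⁻¹ = w.1; group) }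
  have hρ : ρ ^ q = 1 := by
    have hpow : ∀ (i : ℕ) (w : K), (((ρ ^ i) w : K) : G) = y ^ i * w.1 * (y ^ i)⁻¹ := by
      intro i
      induction i with
      | zero => intro w; simp
      | succ i ih =>
        intro w
        rw [pow_succ', Equiv.Perm.mul_apply]
        show y * ((ρ ^ i) w : K).1 * y⁻¹ = _
        rw [ih, pow_succ' y i]; group
    refine Equiv.ext fun w => Subtype.ext ?_
    rw [hpow, ← hy, pow_orderOf_eq_one]
    simp
  have hP : IsPGroup q (zpowers ρ) := by
    obtain ⟨k, -, hk⟩ := (Nat.dvd_prime_pow Fact.out).mp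
      (show orderOf ρ ∣ q ^ 1 by rw [pow_one]; exact orderOf_dvd_of_pow_eq_one hρ)
    exact IsPGroup.of_card (n := k) (by rw [Nat.card_zpowers, hk])
  refine (hP.card_modEq_card_fixedPoints K).trans (Eq.congr_left ?_ |>.mpr rfl)
  refine congrArg (· % q) (Nat.card_congr
    { toFun := fun w => ⟨w.1.1, w.1.2, mem_cz.2 ?_⟩
      invFun := fun w => ⟨⟨w.1, w.2.1⟩, fun σ => ?_⟩
      left_inv := fun w => rfl
      right_inv := fun w => rfl })
  · have h : y * w.1.1 * y⁻¹ = w.1.1 := congrArg Subtype.val (w.2 ⟨ρ, mem_zpowers ρ⟩)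
    exact mul_inv_eq_iff_eq_mul.mp h
  · obtain ⟨k, hk⟩ := mem_zpowers_iff.mp σ.2
    show (σ : Equiv.Perm K) _ = _
    rw [← hk]
    refine Equiv.Perm.zpow_apply_eq_self_of_apply_eq_self (Subtype.ext ?_) k
    show y * w.1 * y⁻¹ = w.1
    rw [(mem_cz.1 w.2.2).eq, mul_inv_cancel_right]

/-- An element of `C` of odd index inverting an element of order three. -/
theorem exists_inverter (hd : Dat G) {t : G} (ht : orderOf t = 2) :
    ∃ x g : G, orderOf x = 3 ∧ x ∈ cz t ∧ g ∈ cz t ∧ g * x * g⁻¹ = x⁻¹ := by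
  obtain ⟨t₀, x, g, ht₀, hx, htx, hgt, hgx⟩ := exists_inverted hd
  obtain ⟨c, rfl⟩ := conj_two hd ht₀ ht
  refine ⟨c * x * c⁻¹, c * g * c⁻¹, by rw [orderOf_conj, hx], mem_cz.2 ?_, mem_cz.2 ?_, ?_⟩
  · exact htx.map (MulAut.conj c).toMonoidHom
  · exact hgt.symm.map (MulAut.conj c).toMonoidHom
  · rw [show c * g * c⁻¹ * (c * x * c⁻¹) * (c * g * c⁻¹)⁻¹ = c * (g * x * g⁻¹) * c⁻¹ by group, hgx]
    group

theorem inf_cz_seven (hd : Dat G) {t p : G} (ht : orderOf t = 2) (hp : orderOf p = 7)
    (htp : Commute t p) {K : Subgroup G} (hK : IsPGroup 2 K) (htK : t ∈ K) :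
    K ⊓ cz p = zpowers t := by
  have : Fact (Nat.Prime 2) := ⟨Nat.prime_two⟩
  refine (eq_of_le_of_card_ge (zpowers_le.mpr (Subgroup.mem_inf.mpr ⟨htK, mem_cz.2 htp.symm⟩)) ?_).symm
  rw [Nat.card_zpowers, ht]
  obtain ⟨k, hk⟩ := (hK.to_le (inf_le_left : K ⊓ cz p ≤ K)).exists_card_eq
  have h : 2 ^ k ∣ 14 := by
    rw [← hk, ← hd.cz7 p hp]
    exact card_dvd_of_le inf_le_right
  rw [hk]
  have hk1 : k ≤ 1 := by
    by_contra hk2
    exact absurd ((pow_dvd_pow 2 (by omega : 2 ≤ k)).trans h) (by norm_num)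
  exact (Nat.pow_le_pow_right two_pos hk1).trans (pow_one 2).le

theorem card_eq_sixteen (hd : Dat G) {t : G} (ht : orderOf t = 2) {K : Subgroup G}
    (hK : IsPGroup 2 K) (htK : t ∈ K) (hle : K ≤ cz t) (hn : cz t ≤ normalizer (K : Set G))
    (h2 : 2 < Nat.card K) : Nat.card K = 16 := by
  have : Fact (Nat.Prime 2) := ⟨Nat.prime_two⟩
  have : Fact (Nat.Prime 7) := ⟨by norm_num⟩
  obtain ⟨p, hp, htp⟩ := exists_seven hd ht
  have hmod := conj_modEq hp (hn (mem_cz.2 htp))
  rw [inf_cz_seven hd ht hp htp hK htK, Nat.card_zpowers, ht] at hmod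
  obtain ⟨j, hj⟩ := hK.exists_card_eq
  have hj' : 2 ^ j ∣ 2 ^ 7 := by
    have h : 2 ^ j ∣ 2 ^ 7 * 21 := by
      have := card_dvd_of_le hle
      rw [hj, card_cz_two hd ht] at this
      exact this
    exact Nat.Coprime.dvd_of_dvd_mul_right (Nat.Coprime.pow_left j (by norm_num)) h
  have hj7 : j ≤ 7 := (Nat.pow_dvd_pow_iff_le_right (by norm_num)).mp hj'
  rw [hj] at hmod h2 ⊢
  have h47 : j = 4 ∨ j = 7 := by
    unfold Nat.ModEq at hmod
    interval_cases j <;> simp_all
  rcases h47 with rfl | rfl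
  · norm_num
  exfalso
  obtain ⟨x, g, hx, hxC, hgC, hgx⟩ := exists_inverter hd ht
  have hidx : (K.subgroupOf (cz t)).index = 21 := by
    have h := (K.subgroupOf (cz t)).card_mul_index
    rw [Nat.card_congr (subgroupOfEquivOfLe hle).toEquiv, hj, card_cz_two hd ht] at h
    omega
  have : (K.subgroupOf (cz t)).Normal := normal_subgroupOf_of_le_normalizer hn
  have hg21 : g ^ 21 ∈ K := by
    have := (K.subgroupOf (cz t)).pow_index_mem ⟨g, hgC⟩
    rw [hidx] at this
    exact this
  have hinv : g ^ 21 * x * (g ^ 21)⁻¹ = x⁻¹ := by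
    have hind : ∀ i : ℕ, g ^ (2 * i + 1) * x * (g ^ (2 * i + 1))⁻¹ = x⁻¹ := by
      intro i
      induction i with
      | zero => simpa using hgx
      | succ i ih =>
        calc g ^ (2 * (i + 1) + 1) * x * (g ^ (2 * (i + 1) + 1))⁻¹
            = g * (g * (g ^ (2 * i + 1) * x * (g ^ (2 * i + 1))⁻¹) * g⁻¹) * g⁻¹ := by
              rw [show 2 * (i + 1) + 1 = 2 + (2 * i + 1) by ring, pow_add, pow_two]; group
          _ = x⁻¹ := by rw [ih, ← conj_inv, hgx, inv_inv, hgx]
    exact hind 10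
  have hxK : x⁻¹ * x⁻¹ ∈ K := by
    nth_rewrite 1 [← hinv]
    have h : x * (g ^ 21)⁻¹ * x⁻¹ ∈ K := conj_mem hn hxC (inv_mem hg21)
    have h' := mul_mem hg21 h
    rwa [show g ^ 21 * (x * (g ^ 21)⁻¹ * x⁻¹) = g ^ 21 * x * (g ^ 21)⁻¹ * x⁻¹ by group] at h'
  have h3 : x ^ 3 = 1 := by rw [← hx, pow_orderOf_eq_one]
  rw [show x⁻¹ * x⁻¹ = x by
    rw [← mul_inv_rev, inv_eq_iff_mul_eq_one, ← pow_two, ← pow_succ, h3]] at hxK
  have h := orderOf_dvd_natCard K hxK
  rw [hx, hj] at h
  norm_num at h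

theorem good_sup (hd : Dat G) {t : G} (ht : orderOf t = 2) {K L : Subgroup G} (htK : t ∈ K)
    (hKle : K ≤ cz t) (hLle : L ≤ cz t) (hK2 : IsPGroup 2 K) (hL2 : IsPGroup 2 L)
    (hKn : cz t ≤ normalizer (K : Set G)) (hLn : cz t ≤ normalizer (L : Set G))
    (h2 : 2 < Nat.card ↥(K ⊔ L)) : Good t (K ⊔ L) := by
  have hle : K ⊔ L ≤ cz t := sup_le hKle hLle
  have hn : cz t ≤ normalizer ((K ⊔ L : Subgroup G) : Set G) := by
    refine le_normalizer_of fun g hg a ha => ?_
    have h : (K ⊔ L).map (MulAut.conj g).toMonoidHom ≤ K ⊔ L := by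
      rw [Subgroup.map_sup]
      refine sup_le_sup ?_ ?_ <;> rintro _ ⟨b, hb, rfl⟩
      exacts [conj_mem hKn hg hb, conj_mem hLn hg hb]
    exact h (mem_map_of_mem _ ha)
  refine ⟨mem_sup_left htK, ?_, hle, hn⟩
  exact card_eq_sixteen hd ht (IsPGroup.to_sup_of_normal_right' hK2 hL2 (hKle.trans hLn))
    (mem_sup_left htK) hle hn h2

theorem Good.isPGroup {t : G} {K : Subgroup G} (h : Good t K) : IsPGroup 2 K :=
  IsPGroup.of_card (n := 4) (by rw [h.card]; norm_num)

theorem Good.unique (hd : Dat G) {t : G} (ht : orderOf t = 2) {K L : Subgroup G} (hK : Good t K)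
    (hL : Good t L) : K = L := by
  have h16 : 2 < Nat.card ↥(K ⊔ L) := by
    have := card_le_of_le (le_sup_left : K ≤ K ⊔ L)
    rw [hK.card] at this
    omega
  have h := good_sup hd ht hK.mem hK.le hL.le hK.isPGroup hL.isPGroup hK.le_norm hL.le_norm h16
  exact (eq_of_le_of_card_ge le_sup_left (by rw [h.card, hK.card])).trans
    (eq_of_le_of_card_ge le_sup_right (by rw [h.card, hL.card])).symm

theorem exists_good (hd : Dat G) {t : G} (ht : orderOf t = 2) : ∃ K, Good t K := by
  have hmem : ∀ (p : cz t) (v : cz t), v ∈ zpowers p ↔ (v : G) ∈ zpowers (p : G) := fun p v => by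
    simp only [mem_zpowers_iff, Subtype.ext_iff, SubgroupClass.coe_zpow]
  have hN : ∀ p : cz t, orderOf p = 7 →
      Nat.card ↥(normalizer (zpowers p : Set (cz t))) = 42 := by
    intro p hp
    have hp' : orderOf (p : G) = 7 := by rw [Subgroup.orderOf_coe, hp]
    have hNle := normalizer_seven_le hd ht hp' (mem_cz.1 p.2)
    rw [← normalizer_seven hd hp']
    refine Nat.card_congr
      { toFun := fun g => ⟨g.1.1, ?_⟩
        invFun := fun g => ⟨⟨g.1, hNle g.2⟩, ?_⟩
        left_inv := fun g => rfl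
        right_inv := fun g => rfl }
    · show ((g.1 : cz t) : G) ∈ normalizer (zpowers (p : G) : Set G)
      refine Subgroup.mem_normalizer_iff.mpr fun v => ⟨fun hv => ?_, fun hv => ?_⟩
      · have hvC : v ∈ cz t := zpowers_le.mpr p.2 hv
        exact (hmem p _).mp
          ((Subgroup.mem_normalizer_iff.mp g.2 ⟨v, hvC⟩).mp ((hmem p _).mpr hv))
      · have hvC : v ∈ cz t := by
          have h := mul_mem (mul_mem (inv_mem g.1.2) (zpowers_le.mpr p.2 hv)) g.1.2
          rwa [show (g.1 : G)⁻¹ * (g.1 * v * (g.1 : G)⁻¹) * g.1 = v by group] at h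
        exact (hmem p _).mp
          ((Subgroup.mem_normalizer_iff.mp g.2 ⟨v, hvC⟩).mpr ((hmem p _).mpr hv))
    · refine Subgroup.mem_normalizer_iff.mpr fun v => ?_
      rw [hmem, hmem]
      exact Subgroup.mem_normalizer_iff.mp g.2 (v : G)
  obtain ⟨L, hLn, hL2, hLz⟩ := exists_two_normal (card_cz_two hd ht) (z := ⟨t, self_mem t⟩)
    (fun h => Subtype.ext (mem_cz.1 h.2).eq) (by rw [Subgroup.orderOf_mk, ht]) hN
    (fun h e => by
      have := hd.spec (h : G)
      rw [Subgroup.orderOf_coe, e] at this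
      simp at this)
  set L' := L.map (cz t).subtype with hL'
  have hL'le : L' ≤ cz t := map_subtype_le L
  have hL'n : cz t ≤ normalizer (L' : Set G) := by
    refine le_normalizer_of fun g hg a ha => ?_
    obtain ⟨b, hb, rfl⟩ := Subgroup.mem_map.mp ha
    exact ⟨⟨g, hg⟩ * b * ⟨g, hg⟩⁻¹, hLn.conj_mem b hb _, rfl⟩
  have hZn : cz t ≤ normalizer (zpowers t : Set G) := by
    refine le_normalizer_of fun g hg a ha => ?_
    obtain ⟨k, rfl⟩ := mem_zpowers_iff.mp ha
    rw [← ((mem_cz.1 hg).zpow_left k).eq, mul_inv_cancel_right]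
    exact zpow_mem (mem_zpowers t) k
  refine ⟨_, good_sup hd ht (mem_zpowers t) (zpowers_le.mpr (self_mem t)) hL'le
    (IsPGroup.of_card (n := 1) (by rw [Nat.card_zpowers, ht, pow_one])) (hL2.map _) hZn hL'n ?_⟩
  by_contra hlt
  have heq : zpowers t = zpowers t ⊔ L' :=
    eq_of_le_of_card_ge le_sup_left (by rw [Nat.card_zpowers, ht]; omega)
  refine hLz fun b hb => (hmem _ b).mpr ?_
  show (b : G) ∈ zpowers t
  rw [heq]
  exact mem_sup_right (mem_map_of_mem _ hb)

open Classical in
/-- The subgroup of order sixteen of an involution. -/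
noncomputable def E (t : G) : Subgroup G := if h : ∃ K, Good t K then h.choose else ⊥

theorem good_E (hd : Dat G) {t : G} (ht : orderOf t = 2) : Good t (E t) := by
  have h := exists_good hd ht
  rw [E, dif_pos h]
  exact h.choose_spec

theorem conj_E (hd : Dat G) (g : G) {t : G} (ht : orderOf t = 2) :
    E (g * t * g⁻¹) = (E t).map (MulAut.conj g).toMonoidHom := by
  have h := good_E hd ht
  have hcz : ∀ c ∈ cz (g * t * g⁻¹), g⁻¹ * c * g ∈ cz t := fun c hc => mem_cz.2 (by
    simpa [mul_assoc] using (mem_cz.1 hc).map (MulAut.conj g⁻¹).toMonoidHom)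
  refine ((⟨Subgroup.mem_map.mpr ⟨t, h.mem, by simp⟩, ?_, ?_, ?_⟩ : Good (g * t * g⁻¹) _).unique hd
    (by rw [orderOf_conj, ht]) (good_E hd (by rw [orderOf_conj, ht]))).symm
  · rw [card_map_of_injective (MulAut.conj g).injective, h.card]
  · rintro _ ⟨a, ha, rfl⟩
    exact mem_cz.2 ((mem_cz.1 (h.le ha)).map (MulAut.conj g).toMonoidHom)
  · refine le_normalizer_of fun c hc a ha => ?_
    obtain ⟨b, hb, rfl⟩ := ha
    refine ⟨g⁻¹ * c * g * b * (g⁻¹ * c * g)⁻¹, conj_mem h.le_norm (hcz c hc) hb, ?_⟩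
    show g * (g⁻¹ * c * g * b * (g⁻¹ * c * g)⁻¹) * g⁻¹ = c * (g * b * g⁻¹) * c⁻¹
    group

theorem sq_E (hd : Dat G) {t : G} (ht : orderOf t = 2) : ∀ a ∈ E t, a ^ 2 = 1 := by
  classical
  have hg := good_E hd ht
  set K := E t with hKdef
  obtain ⟨p, hp, htp⟩ := exists_seven hd ht
  have hpK : ∀ i : ℕ, ∀ a ∈ K, p ^ i * a * (p ^ i)⁻¹ ∈ K := fun i a ha =>
    conj_mem hg.le_norm (pow_mem (mem_cz.2 htp) i) ha
  have hc : ∀ a ∈ K, Commute t a := fun a ha => mem_cz.1 (hg.le ha)
  have ht2 : t ^ 2 = 1 := by rw [← ht, pow_orderOf_eq_one]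
  have ht1 : t ≠ 1 := fun h => by rw [h, orderOf_one] at ht; norm_num at ht
  have hte : ∀ e : Bool, (cond e t 1) ^ 2 = 1 := fun e => by cases e <;> simp [ht2]
  -- off `⟨t⟩` the conjugates of `a` and their products with `t` are all
  have horb : ∀ a ∈ K, a ≠ 1 → a ≠ t → ∀ b ∈ K, b ≠ 1 → b ≠ t →
      ∃ (i : ℕ) (e : Bool), b = p ^ i * a * (p ^ i)⁻¹ * cond e t 1 := by
    intro a ha ha1 hat
    have hnc : ¬ Commute p a := fun h => by
      have h' : a ∈ K ⊓ cz p := ⟨ha, mem_cz.2 h⟩
      rw [inf_cz_seven hd ht hp htp hg.isPGroup hg.mem] at h'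
      obtain ⟨i, hi, hi'⟩ := Finset.mem_image.mp
        ((isOfFinOrder_of_finite t).mem_zpowers_iff_mem_range_orderOf.mp h')
      rw [ht, Finset.mem_range] at hi
      interval_cases i
      · exact ha1 (by simpa using hi'.symm)
      · exact hat (by simpa using hi'.symm)
    let F : Fin 7 × Bool → {b : G // b ∈ K ∧ b ≠ 1 ∧ b ≠ t} := fun x =>
      ⟨p ^ x.1.val * a * (p ^ x.1.val)⁻¹ * cond x.2 t 1, mul_mem (hpK _ a ha)
        (by cases x.2 <;> simp [hg.mem, one_mem]), by
        have hct : ∀ u : G, u * p ^ x.1.val = p ^ x.1.val * u → p ^ x.1.val * a * (p ^ x.1.val)⁻¹ = u →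
            a = u := fun u hu h => by
          rw [mul_inv_eq_iff_eq_mul, hu] at h
          exact mul_left_cancel h
        cases x.2
        · exact ⟨fun h => ha1 (hct 1 (by simp) (by simpa using h)),
            fun h => hat (hct t ((htp.pow_right _).eq) (by simpa using h))⟩
        · refine ⟨fun h => hat (hct t ((htp.pow_right _).eq) ?_),
            fun h => ha1 (hct 1 (by simp) (mul_right_cancel (h.trans (one_mul t).symm)))⟩
          have h' : p ^ x.1.val * a * (p ^ x.1.val)⁻¹ = t⁻¹ := eq_inv_of_mul_eq_one_left h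
          rwa [inv_eq_of_mul_eq_one_left (by rw [← pow_two, ht2] : t * t = 1)] at h'⟩
    have hinj : Function.Injective F := by
      rintro ⟨i, e⟩ ⟨j, f⟩ h
      have h : p ^ i.val * a * (p ^ i.val)⁻¹ * cond e t 1 =
          p ^ j.val * a * (p ^ j.val)⁻¹ * cond f t 1 := congrArg Subtype.val h
      obtain ⟨k, hk⟩ : ∃ k : ℕ, k = i.val + (7 - j.val) := ⟨_, rfl⟩
      have hp7 : p ^ 7 = 1 := by rw [← hp, pow_orderOf_eq_one]
      have hpj : p ^ k = (p ^ j.val)⁻¹ * p ^ i.val := by
        rw [eq_inv_mul_iff_mul_eq, ← pow_add, hk, show j.val + (i.val + (7 - j.val)) = i.val + 7 by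
          omega, pow_add, hp7, mul_one]
      have hka : p ^ k * a * (p ^ k)⁻¹ = a * (cond f t 1 * (cond e t 1)⁻¹) := by
        have hcu : ∀ u : Bool, Commute (p ^ j.val) (cond u t 1) := fun u => by
          cases u
          · exact Commute.one_right _
          · exact (htp.pow_right _).symm
        rw [hpj]
        calc (p ^ j.val)⁻¹ * p ^ i.val * a * ((p ^ j.val)⁻¹ * p ^ i.val)⁻¹
            = (p ^ j.val)⁻¹ * (p ^ i.val * a * (p ^ i.val)⁻¹ * cond e t 1) * (cond e t 1)⁻¹ *
              p ^ j.val := by group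
          _ = a * ((p ^ j.val)⁻¹ * (cond f t 1 * (cond e t 1)⁻¹) * p ^ j.val) := by
            rw [h]; group
          _ = a * (cond f t 1 * (cond e t 1)⁻¹) := by
            rw [mul_assoc _ (cond f t 1 * _), ← ((hcu f).mul_right (hcu e).inv_right).eq]
            group
      set u := cond f t 1 * (cond e t 1)⁻¹ with hu
      have hu2 : u * u = 1 := by
        cases e <;> cases f <;> simp [hu, ← pow_two, ht2]
      have hcu : Commute (p ^ k) u := by
        cases e <;> cases f <;> simp [hu, (htp.pow_right k).symm]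
      have h2k : Commute (p ^ (2 * k)) a := by
        refine mul_inv_eq_iff_eq_mul.mp (show p ^ (2 * k) * a * (p ^ (2 * k))⁻¹ = a from ?_)
        calc p ^ (2 * k) * a * (p ^ (2 * k))⁻¹ = p ^ k * (p ^ k * a * (p ^ k)⁻¹) * (p ^ k)⁻¹ := by
              rw [two_mul, pow_add]; group
          _ = (p ^ k * a * (p ^ k)⁻¹) * (p ^ k * u * (p ^ k)⁻¹) := by
            rw [show p ^ k * (p ^ k * a * (p ^ k)⁻¹) * (p ^ k)⁻¹ = p ^ k * (a * u) * (p ^ k)⁻¹ by
              rw [hka]]
            group
          _ = a := by rw [hka, hcu.eq, mul_inv_cancel_right, mul_assoc, hu2, mul_one]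
      by_cases h7 : 7 ∣ 2 * k
      · have hij : i = j := Fin.ext (by omega)
        subst hij
        have h' : cond e t 1 = cond f t 1 := mul_left_cancel h
        cases e <;> cases f <;> first | rfl | exact absurd h' (by simp [ht1, ht1.symm])
      · exfalso
        obtain ⟨r, hr⟩ := exists_pow_eq_self_of_coprime (x := p) (n := 2 * k)
          (by rw [hp]; exact ((Nat.Prime.coprime_iff_not_dvd (by norm_num)).2 h7).symm)
        exact hnc (hr ▸ h2k.pow_left r)
    have hcard : Nat.card {b : G // b ∈ K ∧ b ≠ 1 ∧ b ≠ t} + 2 = 16 := by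
      let S : Finset K := {1, ⟨t, hg.mem⟩}
      have hS : S.card = 2 := Finset.card_pair fun h => ht1 (congrArg Subtype.val h).symm
      have e : Nat.card {b : G // b ∈ K ∧ b ≠ 1 ∧ b ≠ t} = Nat.card {b : K // b ∉ S} :=
        Nat.card_congr
          { toFun := fun b => ⟨⟨b.1, b.2.1⟩, by
              simp only [S, Finset.mem_insert, Finset.mem_singleton, Subtype.ext_iff,
                OneMemClass.coe_one, not_or]
              exact b.2.2⟩
            invFun := fun b => ⟨b.1.1, b.1.2, by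
              have h := b.2
              simp only [S, Finset.mem_insert, Finset.mem_singleton, Subtype.ext_iff,
                OneMemClass.coe_one, not_or] at h
              exact h⟩
            left_inv := fun b => rfl
            right_inv := fun b => rfl }
      have := Fintype.ofFinite K
      rw [e, Nat.card_eq_fintype_card, Fintype.card_subtype_compl, Fintype.card_coe, hS,
        ← Nat.card_eq_fintype_card, hg.card]
    intro b hb hb1 hbt
    obtain ⟨⟨i, e⟩, hi⟩ := ((Nat.bijective_iff_injective_and_card F).2 ⟨hinj, by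
      rw [Nat.card_prod, Nat.card_fin, Nat.card_eq_fintype_card (α := Bool), Fintype.card_bool]
      omega⟩).2 ⟨b, hb, hb1, hbt⟩
    exact ⟨i.val, e, (congrArg Subtype.val hi).symm⟩
  have hsq : ∀ a ∈ K, a ≠ 1 → a ≠ t → ∀ b ∈ K, b ≠ 1 → b ≠ t →
      ∃ i : ℕ, b ^ 2 = p ^ i * a ^ 2 * (p ^ i)⁻¹ := by
    intro a ha ha1 hat b hb hb1 hbt
    obtain ⟨i, e, rfl⟩ := horb a ha ha1 hat b hb hb1 hbt
    refine ⟨i, ?_⟩
    have hce : Commute (p ^ i * a * (p ^ i)⁻¹) (cond e t 1) := by
      cases e
      · exact Commute.one_right _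
      · exact (hc _ (hpK i a ha)).symm
    rw [hce.mul_pow, hte, mul_one, conj_pow]
  have hsqZ : ∀ a ∈ K, a ^ 2 = 1 ∨ a ^ 2 = t := by
    intro a ha
    by_cases ha1 : a = 1
    · exact Or.inl (by rw [ha1, one_pow])
    by_cases hat : a = t
    · exact Or.inl (by rw [hat, ht2])
    by_contra h
    push Not at h
    obtain ⟨i, hi⟩ := hsq a ha ha1 hat (a ^ 2) (pow_mem ha 2) h.1 h.2
    have ho : orderOf ((a ^ 2) ^ 2) = orderOf (a ^ 2) := by rw [hi, orderOf_conj]
    obtain ⟨k, -, hk⟩ := (Nat.dvd_prime_pow Nat.prime_two).mp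
      (show orderOf (a ^ 2) ∣ 2 ^ 4 by
        have h' := orderOf_dvd_natCard K (pow_mem ha 2)
        rw [hg.card] at h'
        exact h')
    have hk0 : k ≠ 0 := fun e => by
      rw [e, pow_zero, orderOf_eq_one_iff] at hk
      exact h.1 hk
    rw [orderOf_pow' _ two_ne_zero, hk,
      Nat.gcd_eq_right (dvd_pow_self 2 hk0)] at ho
    have := Nat.two_pow_pos k
    omega
  intro a ha
  by_cases ha1 : a = 1
  · rw [ha1, one_pow]
  by_cases hat : a = t
  · rw [hat, ht2]
  refine (hsqZ a ha).resolve_right fun hsa => ?_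
  have hall : ∀ b ∈ K, b ≠ 1 → b ≠ t → b ^ 2 = t := by
    intro b hb hb1 hbt
    obtain ⟨i, hi⟩ := hsq a ha ha1 hat b hb hb1 hbt
    rw [hi, hsa, ← (htp.pow_right i).eq, mul_inv_cancel_right]
  let S : Finset G := {1, t, a, a * t}
  have hca := hc a ha
  have hainv : a⁻¹ = a * t := inv_eq_of_mul_eq_one_right (by
    rw [← mul_assoc, ← pow_two, hsa, ← pow_two, ht2])
  have hmul : ∀ b ∈ K, b ∉ S → a * b ≠ 1 ∧ a * b ≠ t := by
    intro b _ hbS
    simp only [S, Finset.mem_insert, Finset.mem_singleton, not_or] at hbS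
    refine ⟨fun h => hbS.2.2.2 (by rw [eq_inv_of_mul_eq_one_right h, hainv]), fun h => hbS.2.2.1 ?_⟩
    calc b = a⁻¹ * (a * b) := (inv_mul_cancel_left a b).symm
      _ = a := by rw [h, hainv, mul_assoc, ← pow_two, ht2, mul_one]
  have hflip : ∀ b ∈ K, b ∉ S → b * a * b⁻¹ = a * t := by
    intro b hb hbS
    obtain ⟨h1, h2⟩ := hmul b hb hbS
    simp only [S, Finset.mem_insert, Finset.mem_singleton, not_or] at hbS
    have hab := hall (a * b) (mul_mem ha hb) h1 h2
    have hb2 := hall b hb hbS.1 hbS.2.1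
    have hbinv : b⁻¹ = b * t := inv_eq_of_mul_eq_one_right (by
      rw [← mul_assoc, ← pow_two, hb2, ← pow_two, ht2])
    rw [pow_two] at hab
    calc b * a * b⁻¹ = a⁻¹ * (a * b * (a * b)) * t := by rw [hbinv]; group
      _ = a⁻¹ * t * t := by rw [hab]
      _ = a * t := by rw [mul_assoc, ← pow_two, ht2, mul_one, hainv]
  obtain ⟨b, hb, hbS⟩ : ∃ b ∈ K, b ∉ S := by
    by_contra h
    push Not at h
    have h' : Nat.card K ≤ Nat.card {x : G // x ∈ S} :=
      Nat.card_le_card_of_injective (fun x => ⟨x.1, h x.1 x.2⟩) fun u v e =>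
        Subtype.ext (congrArg Subtype.val e :)
    rw [hg.card, Nat.card_eq_fintype_card, Fintype.card_coe] at h'
    have : S.card ≤ 4 := Finset.card_le_four
    omega
  let T : Finset G := S ∪ S.image (b * ·)
  have hT : ∀ c ∈ K, c ∈ T := by
    intro c hc'
    by_cases hcS : c ∈ S
    · exact Finset.mem_union_left _ hcS
    refine Finset.mem_union_right _ (Finset.mem_image.mpr ⟨b⁻¹ * c, ?_, by group⟩)
    by_contra hbc
    have h1 := hflip _ (mul_mem (inv_mem hb) hc') hbc
    have h2 := hflip c hc' hcS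
    have h3 := hflip b hb hbS
    have h4 : b⁻¹ * c * a * (b⁻¹ * c)⁻¹ = a := by
      calc b⁻¹ * c * a * (b⁻¹ * c)⁻¹ = b⁻¹ * (c * a * c⁻¹) * b := by group
        _ = b⁻¹ * (b * a * b⁻¹) * b := by rw [h2, h3]
        _ = a := by group
    exact ht1 (mul_left_cancel (h1.symm.trans h4 |>.trans (mul_one a).symm))
  have h' : Nat.card K ≤ Nat.card {x : G // x ∈ T} :=
    Nat.card_le_card_of_injective (fun x => ⟨x.1, hT x.1 x.2⟩) fun u v e =>
      Subtype.ext (congrArg Subtype.val e :)
  rw [hg.card, Nat.card_eq_fintype_card, Fintype.card_coe] at h'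
  have h4 : S.card ≤ 4 := Finset.card_le_four
  have := Finset.card_union_le S (S.image (b * ·))
  have := Finset.card_image_le (s := S) (f := (b * ·))
  have : T.card ≤ 8 := (Finset.card_union_le _ _).trans (by omega)
  omega

theorem cent_E (hd : Dat G) {t : G} (ht : orderOf t = 2) :
    centralizer (E t : Set G) = E t := by
  have hg := good_E hd ht
  set D := centralizer (E t : Set G) with hD
  have hDle : D ≤ cz t := centralizer_le (Set.singleton_subset_iff.mpr hg.mem)
  have hED : E t ≤ D := fun a ha => by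
    rw [hD, Subgroup.mem_centralizer_iff]
    intro b hb
    have h1 : ∀ u ∈ E t, u⁻¹ = u := fun u hu =>
      inv_eq_of_mul_eq_one_right (by rw [← pow_two, sq_E hd ht u hu])
    have h := h1 _ (mul_mem hb ha)
    rw [mul_inv_rev, h1 a ha, h1 b hb] at h
    exact h.symm
  have hn : cz t ≤ normalizer (D : Set G) := by
    refine le_normalizer_of fun g hgC a ha => ?_
    rw [hD, Subgroup.mem_centralizer_iff] at ha ⊢
    intro b hb
    have h := ha _ ((Subgroup.mem_normalizer_iff''.mp (hg.le_norm hgC) b).mp hb)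
    calc b * (g * a * g⁻¹) = g * (g⁻¹ * b * g * a) * g⁻¹ := by group
      _ = g * (a * (g⁻¹ * b * g)) * g⁻¹ := by rw [h]
      _ = g * a * g⁻¹ * b := by group
  have hno : ∀ q : ℕ, q.Prime → q = 3 ∨ q = 7 → ¬ q ∣ Nat.card D := by
    intro q hq hq37 hdvd
    have : Fact q.Prime := ⟨hq⟩
    obtain ⟨y, hy⟩ := exists_prime_orderOf_dvd_card' (G := D) q hdvd
    have hle : E t ≤ cz (y : G) := fun a ha => mem_cz.2 ((y.2 a ha).symm :)
    have h := card_dvd_of_le hle
    rw [hg.card] at h
    rcases hq37 with rfl | rfl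
    · rw [card_cz_three hd (by rw [Subgroup.orderOf_coe, hy])] at h; norm_num at h
    · rw [hd.cz7 _ (by rw [Subgroup.orderOf_coe, hy])] at h; norm_num at h
  have h2 : IsPGroup 2 D := by
    have h : Nat.card D ∣ 2 ^ 7 * (3 * 7) := by
      have := card_dvd_of_le hDle
      rwa [card_cz_two hd ht] at this
    obtain ⟨k, -, hk⟩ := (Nat.dvd_prime_pow Nat.prime_two).mp (Nat.Coprime.dvd_of_dvd_mul_right
      (Nat.Coprime.mul_right
        ((Nat.Prime.coprime_iff_not_dvd Nat.prime_three).2 (hno 3 Nat.prime_three (.inl rfl))).symm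
        ((Nat.Prime.coprime_iff_not_dvd (by norm_num)).2 (hno 7 (by norm_num) (.inr rfl))).symm) h)
    exact IsPGroup.of_card hk
  have h16 := card_eq_sixteen hd ht h2 (hED hg.mem) hDle hn (by
    have := card_le_of_le hED
    rw [hg.card] at this
    omega)
  exact (eq_of_le_of_card_ge hED (by rw [h16, hg.card])).symm

theorem card_E_inf (hd : Dat G) {t y : G} (ht : orderOf t = 2) (hy : orderOf y = 3)
    (hty : Commute t y) : Nat.card ↥(E t ⊓ cz y) = 4 := by
  have : Fact (Nat.Prime 3) := ⟨Nat.prime_three⟩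
  have hg := good_E hd ht
  have hmod := conj_modEq hy (hg.le_norm (mem_cz.2 hty))
  rw [hg.card] at hmod
  have h4 : Nat.card ↥(E t ⊓ cz y) ∣ 4 := by
    have h := Nat.dvd_gcd (hg.card ▸ card_dvd_of_le (inf_le_left : E t ⊓ cz y ≤ E t))
      (card_cz_three hd hy ▸ card_dvd_of_le (inf_le_right : E t ⊓ cz y ≤ cz y))
    simpa using h
  have h1 : Nat.card ↥(E t ⊓ cz y) ≠ 1 := fun h => by
    have hm : t ∈ E t ⊓ cz y := ⟨hg.mem, mem_cz.2 hty.symm⟩
    rw [Subgroup.card_eq_one.mp h, Subgroup.mem_bot] at hm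
    rw [hm, orderOf_one] at ht
    norm_num at ht
  unfold Nat.ModEq at hmod
  have := Nat.le_of_dvd (by norm_num) h4
  interval_cases Nat.card ↥(E t ⊓ cz y) <;> simp_all

end Cfsg.Agent.M23Nse48.Loc
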