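import Cfsg.Agent.M23Nse48.OrbitsStab

/-!
# The orbits of the subgroup of index 253
-/

set_option autoImplicit false

namespace Cfsg.Agent.M23Nse48

namespace Orbits

open Subgroup MulAction

theorem preserve_iff {T : Finset (Fin 7)} {σ : Equiv.Perm (Fin 7)} (h : σ ∈ preserve T) (a : Fin 7) :
    a ∈ T ↔ σ a ∈ T := by
  obtain ⟨⟨p, q⟩, rfl⟩ := h
  by_cases ha : a ∈ T <;> simp [Equiv.Perm.subtypeCongrHom, ha, (p _).2]
  exact (q ⟨a, ha⟩).2

/-- Even permutations act transitively on the subsets of each size. -/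
theorem exists_even (T T' : Finset (Fin 7)) (h : T.card = T'.card) :
    ∃ π ∈ alternatingGroup (Fin 7), T.image π = T' := by
  classical
  let e : {a // a ∈ T} ≃ {a // a ∈ T'} := Fintype.equivOfCardEq (by simpa using h)
  set π := e.extendSubtype
  have hπ : T.image π = T' := by
    refine Finset.eq_of_subset_of_card_le (fun x hx => ?_) ?_
    · obtain ⟨a, ha, rfl⟩ := Finset.mem_image.1 hx
      exact e.extendSubtype_mem a ha
    · rw [Finset.card_image_of_injective _ π.injective, h]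
  rcases Int.units_eq_one_or (Equiv.Perm.sign π) with hs | hs
  · exact ⟨π, Equiv.Perm.mem_alternatingGroup.2 hs, hπ⟩
  obtain ⟨a, b, hab, hm⟩ := odd_mem_preserve T
  refine ⟨π * Equiv.swap a b, ?_, ?_⟩
  · rw [Equiv.Perm.mem_alternatingGroup, Equiv.Perm.sign_mul, hs, Equiv.Perm.sign_swap hab]; decide
  · have hT : T.image (Equiv.swap a b) = T := by
      refine Finset.eq_of_subset_of_card_le (fun x hx => ?_) ?_
      · obtain ⟨c, hc, rfl⟩ := Finset.mem_image.1 hx
        exact (preserve_iff hm c).1 hc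
      · rw [Finset.card_image_of_injective _ (Equiv.injective _)]
    rw [Equiv.Perm.coe_mul, ← Finset.image_image, hT, hπ]

variable {G : Type*} [Group G] [Finite G] (hd : Dat G) (Γ : Act G)

/-- The points of the base over which a coset lies. -/
noncomputable def iota (C : G ⧸ Γ.H) : Finset (Fin 7) :=
  Finset.univ.filter fun c => (orb (Im Γ C) c).card = 1 ∨ (orb (Im Γ C) c).card = 3

omit [Finite G] in
theorem mem_iota {C : G ⧸ Γ.H} {c : Fin 7} :
    c ∈ iota Γ C ↔ (orb (Im Γ C) c).card = 1 ∨ (orb (Im Γ C) c).card = 3 := by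
  simp [iota]

omit [Finite G] in
theorem Im_smul {h : Γ.H} {C : G ⧸ Γ.H} {σ : Equiv.Perm (Fin 7)} (hσ : σ ∈ Im Γ C) :
    φ' Γ h * σ * (φ' Γ h)⁻¹ ∈ Im Γ (h • C) := by
  obtain ⟨k, hk, rfl⟩ := hσ
  refine ⟨h * k * h⁻¹, ?_, by simp⟩
  show (h * k * h⁻¹) • h • C = h • C
  rw [mul_smul, mul_smul, inv_smul_smul, show k • C = C from hk]

omit [Finite G] in
theorem orb_le (h : Γ.H) (C : G ⧸ Γ.H) (c : Fin 7) :
    (orb (Im Γ C) c).image (φ' Γ h) ⊆ orb (Im Γ (h • C)) (φ' Γ h c) := by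
  intro x hx
  obtain ⟨y, hy, rfl⟩ := Finset.mem_image.1 hx
  obtain ⟨σ, hσ, rfl⟩ := mem_orb.1 hy
  exact mem_orb.2 ⟨_, Im_smul Γ hσ, by simp⟩

omit [Finite G] in
theorem card_orb_smul (h : Γ.H) (C : G ⧸ Γ.H) (c : Fin 7) :
    (orb (Im Γ (h • C)) (φ' Γ h c)).card = (orb (Im Γ C) c).card := by
  refine le_antisymm ?_ ?_
  · have h1 := Finset.card_le_card (orb_le Γ h⁻¹ (h • C) (φ' Γ h c))
    rw [Finset.card_image_of_injective _ (Equiv.injective _), inv_smul_smul, map_inv] at h1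
    simpa using h1
  · have h1 := Finset.card_le_card (orb_le Γ h C c)
    rwa [Finset.card_image_of_injective _ (Equiv.injective _)] at h1

omit [Finite G] in
theorem iota_smul (h : Γ.H) (C : G ⧸ Γ.H) : iota Γ (h • C) = (iota Γ C).image (φ' Γ h) := by
  ext x
  obtain ⟨c, rfl⟩ := (φ' Γ h).surjective x
  rw [(φ' Γ h).injective.mem_finset_image, mem_iota, mem_iota, card_orb_smul]

omit [Finite G] in
theorem iota_base : iota Γ Γ.base = ∅ := by
  refine Finset.eq_empty_of_forall_notMem fun c hc => ?_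
  have huniv : orb (Im Γ Γ.base) c = Finset.univ := by
    refine Finset.eq_univ_of_forall fun x => ?_
    obtain ⟨π, hπ, he⟩ := exists_even {c} {x} rfl
    obtain ⟨k, hk⟩ := Γ.φ_surj ⟨π, hπ⟩
    refine mem_orb.2 ⟨π, ⟨k, fix_base Γ k, congrArg Subtype.val hk⟩, ?_⟩
    simpa using he
  rw [mem_iota, huniv] at hc
  simp at hc

/-- The facts carried along an orbit. -/
def Nice (C : G ⧸ Γ.H) : Prop :=
  ∀ σ : Equiv.Perm (Fin 7), Equiv.Perm.sign σ = 1 → (∀ a, a ∈ iota Γ C ↔ σ a ∈ iota Γ C) → σ ∈ Im Γ C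

omit [Finite G] in
theorem nice_smul (h : Γ.H) {C : G ⧸ Γ.H} (hC : Nice Γ C) : Nice Γ (h • C) := by
  intro σ hs hσ
  have h1 : (φ' Γ h)⁻¹ * σ * φ' Γ h ∈ Im Γ C := by
    refine hC _ ?_ fun a => ?_
    · rw [Equiv.Perm.sign_mul, Equiv.Perm.sign_mul, Equiv.Perm.sign_inv, hs, mul_one]
      rcases Int.units_eq_one_or (Equiv.Perm.sign (φ' Γ h)) with e | e <;> rw [e] <;> decide
    · have h2 := hσ (φ' Γ h a)
      rw [iota_smul, (φ' Γ h).injective.mem_finset_image] at h2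
      rw [h2, ← (φ' Γ h).injective.mem_finset_image (s := iota Γ C)]
      simp
  simpa [mul_assoc] using Im_smul Γ (h := h) h1

omit [Finite G] in
theorem short_facts {A : G ⧸ Γ.H} (hA : Short Γ A) : (iota Γ A).card = 1 ∧ Nice Γ A := by
  obtain ⟨c, hfix, htr, hall⟩ := perm360 (Im_le Γ A) hA.2.2
  have horb : orb (Im Γ A) c = {c} := by
    ext x
    rw [mem_orb, Finset.mem_singleton]
    exact ⟨fun ⟨σ, hσ, he⟩ => he ▸ hfix σ hσ, fun e => ⟨1, one_mem _, e ▸ rfl⟩⟩
  have hi : iota Γ A = {c} := by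
    ext a
    rw [mem_iota, Finset.mem_singleton]
    refine ⟨fun h => by_contra fun hne => ?_, fun e => Or.inl (by rw [e, horb, Finset.card_singleton])⟩
    have h6 : orb (Im Γ A) a = Finset.univ.erase c := by
      ext x
      rw [mem_orb, Finset.mem_erase]
      refine ⟨fun ⟨σ, hσ, he⟩ => ⟨fun e => hne (σ.injective ((he.trans e).trans (hfix σ hσ).symm)),
        Finset.mem_univ x⟩, fun ⟨hx, _⟩ => htr a x hne hx⟩
    rw [h6, Finset.card_erase_of_mem (Finset.mem_univ c)] at h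
    simp at h
  refine ⟨by rw [hi, Finset.card_singleton], fun σ hs hσ => hall σ hs ?_⟩
  have := (hσ c).1 (by rw [hi]; simp)
  rwa [hi, Finset.mem_singleton] at this

omit [Finite G] in
theorem long_facts {B : G ⧸ Γ.H} (hB : Long Γ B) : (iota Γ B).card = 3 ∧ Nice Γ B := by
  obtain ⟨T, hT, hinv, htr, hall⟩ := perm72 (Im_le Γ B) hB.2.2
  have horb : ∀ a, orb (Im Γ B) a = Finset.univ.filter fun x => (a ∈ T ↔ x ∈ T) := fun a => by
    ext x
    rw [mem_orb, Finset.mem_filter]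
    exact ⟨fun ⟨σ, hσ, he⟩ => ⟨Finset.mem_univ x, he ▸ hinv σ hσ a⟩, fun ⟨_, h⟩ => htr a x h⟩
  have hi : iota Γ B = T := by
    ext a
    rw [mem_iota, horb]
    by_cases ha : a ∈ T
    · simp [ha, hT]
    · simp [ha, Finset.filter_not, Finset.card_sdiff, hT]
  exact ⟨hi.symm ▸ hT, fun σ hs hσ => hall σ hs fun a => hi ▸ hσ a⟩

omit [Finite G] in
/-- An `E`-orbit fills a fibre. -/
theorem fiber_trans_aux {C : G ⧸ Γ.H} (hC : Nice Γ C) {h : Γ.H}
    (hi : iota Γ (h • C) = iota Γ C) : ∃ e ∈ Γ.E, e • C = h • C := by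
  obtain ⟨k, hk, hke⟩ := hC (φ' Γ h) (Equiv.Perm.mem_alternatingGroup.1 (Γ.φ h).2) fun a => by
    conv_rhs => rw [← hi, iota_smul, (φ' Γ h).injective.mem_finset_image]
  refine ⟨((h * k⁻¹ : Γ.H) : G), (φ'_eq_one Γ).1 (by rw [map_mul, map_inv, hke, mul_inv_cancel]), ?_⟩
  show (h * k⁻¹) • C = h • C
  rw [mul_smul, inv_smul_eq_iff.2 (show k • C = C from hk).symm]

omit [Finite G] in
theorem iota_E {e : G} (he : e ∈ Γ.E) (C : G ⧸ Γ.H) : iota Γ (e • C) = iota Γ C := by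
  have h := iota_smul Γ ⟨e, Γ.E_le he⟩ C
  rw [(φ'_eq_one Γ).2 he] at h
  exact h.trans (by simp)

omit [Finite G] in
theorem card_orbit_E (C : G ⧸ Γ.H) : Nat.card (orbit Γ.E C) * Nat.card (W Γ C) = 16 := by
  have h := (stabilizer Γ.E C).index_mul_card
  rw [index_stabilizer, ← Nat.card_coe_set_eq, Γ.card_E] at h
  rw [← h]
  congr 1
  exact Nat.card_congr
    { toFun := fun w => ⟨⟨w.1, (mem_inf.1 w.2).1⟩, (mem_inf.1 w.2).2⟩
      invFun := fun k => ⟨k.1.1, mem_inf.2 ⟨k.1.2, k.2⟩⟩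
      left_inv := fun _ => rfl
      right_inv := fun _ => rfl }

end Orbits

open Subgroup MulAction Orbits

variable {G : Type*} [Group G] [Finite G]

/-- The orbits of the subgroup of index 253. -/
theorem exists_orb (hd : Dat G) (Γ : Act G) : Nonempty (Orb Γ) := by
  classical
  obtain ⟨A, B, hA, hB, hA0, hB0, hcov⟩ := two_orbits hd Γ
  obtain ⟨hA1, hAn⟩ := short_facts Γ hA
  obtain ⟨hB3, hBn⟩ := long_facts Γ hB
  have hcard : ∀ (k : Γ.H) (C : G ⧸ Γ.H), (iota Γ (k • C)).card = (iota Γ C).card := fun k C => by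
    rw [iota_smul, Finset.card_image_of_injective _ (Equiv.injective _)]
  have hAorb : ∀ C, (iota Γ C).card = 1 → ∃ k : Γ.H, k • A = C := fun C hC => by
    rcases eq_or_ne C Γ.base with rfl | hne
    · rw [iota_base] at hC; simp at hC
    rcases hcov C hne with h | ⟨k, rfl⟩
    · exact mem_orbit_iff.1 h
    · rw [hcard, hB3] at hC; omega
  have hBorb : ∀ C, (iota Γ C).card = 3 → ∃ k : Γ.H, k • B = C := fun C hC => by
    rcases eq_or_ne C Γ.base with rfl | hne
    · rw [iota_base] at hC; simp at hC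
    rcases hcov C hne with ⟨k, rfl⟩ | h
    · rw [hcard, hA1] at hC; omega
    · exact mem_orbit_iff.1 h
  have hfib : ∀ (C : G ⧸ Γ.H) (n : ℕ), Nice Γ C → Nat.card (W Γ C) * n = 16 →
      (∀ D, (iota Γ D).card = (iota Γ C).card → ∃ k : Γ.H, k • C = D) →
      ∀ s : Finset (Fin 7), s.card = (iota Γ C).card → Nat.card {D : G ⧸ Γ.H // iota Γ D = s} = n := by
    intro C n hn hw horb s hs
    obtain ⟨π, hπ, he⟩ := exists_even (iota Γ C) s hs.symm
    obtain ⟨k, hk⟩ := Γ.φ_surj ⟨π, hπ⟩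
    have hks : iota Γ (k • C) = s := by
      rw [iota_smul, show φ' Γ k = π from congrArg Subtype.val hk, he]
    have h1 : Nat.card {D : G ⧸ Γ.H // iota Γ D = s} = Nat.card {D : G ⧸ Γ.H // iota Γ D = iota Γ C} := by
      refine Nat.card_congr (Equiv.subtypeEquiv (MulAction.toPerm k).symm fun D => ?_)
      show iota Γ D = s ↔ iota Γ (k⁻¹ • D) = iota Γ C
      constructor
      · intro hD
        refine Finset.image_injective (φ' Γ k).injective ?_
        rw [← iota_smul, ← iota_smul, smul_inv_smul, hD, hks]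
      · intro hD
        rw [← smul_inv_smul k D, iota_smul, hD, ← iota_smul, hks]
    have h2 : {D : G ⧸ Γ.H | iota Γ D = iota Γ C} = orbit Γ.E C := by
      ext D
      refine ⟨fun hD => ?_, ?_⟩
      · obtain ⟨h, rfl⟩ := horb D (congrArg Finset.card hD)
        obtain ⟨e, he, hee⟩ := fiber_trans_aux Γ hn hD
        exact ⟨⟨e, he⟩, hee⟩
      · rintro ⟨e, rfl⟩
        exact iota_E Γ e.2 C
    rw [h1, show Nat.card {D : G ⧸ Γ.H // iota Γ D = iota Γ C} = Nat.card (orbit Γ.E C) from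
      Nat.card_congr (Equiv.setCongr h2)]
    have h3 := card_orbit_E Γ C
    have h4 : 0 < Nat.card (W Γ C) := Nat.card_pos
    exact Nat.eq_of_mul_eq_mul_left h4 (by rw [hw, ← h3, mul_comm])
  refine ⟨{ ι := iota Γ, ι_base := iota_base Γ, ι_card := ?_, ι_smul := fun h C => iota_smul Γ h C,
            card_fiber_one := ?_, card_fiber_three := ?_, fiber_trans := ?_, inf_one := ?_ }⟩
  · intro C hC
    rcases hcov C hC with ⟨k, rfl⟩ | ⟨k, rfl⟩
    · left; rw [hcard, hA1]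
    · right; rw [hcard, hB3]
  · intro s hs
    exact hfib A 16 hAn (by rw [hA.2.1]) (fun D hD => hAorb D (hD.trans hA1)) s (hs.trans hA1.symm)
  · intro s hs
    exact hfib B 4 hBn (by rw [hB.2.1]) (fun D hD => hBorb D (hD.trans hB3)) s (hs.trans hB3.symm)
  · intro C D hC hD he
    rcases hcov C hC with ⟨k, rfl⟩ | ⟨k, rfl⟩
    · obtain ⟨l, rfl⟩ := hAorb D (by rw [← he, hcard, hA1])
      obtain ⟨e, he', hee⟩ := fiber_trans_aux Γ (nice_smul Γ k hAn) (h := l * k⁻¹)
        (by rw [mul_smul, inv_smul_smul]; exact he.symm)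
      exact ⟨e, he', hee.trans (by rw [mul_smul, inv_smul_smul])⟩
    · obtain ⟨l, rfl⟩ := hBorb D (by rw [← he, hcard, hB3])
      obtain ⟨e, he', hee⟩ := fiber_trans_aux Γ (nice_smul Γ k hBn) (h := l * k⁻¹)
        (by rw [mul_smul, inv_smul_smul]; exact he.symm)
      exact ⟨e, he', hee.trans (by rw [mul_smul, inv_smul_smul])⟩
  · intro C hC
    obtain ⟨k, rfl⟩ := hAorb C hC
    have hWA : W Γ A = ⊥ := Subgroup.eq_bot_of_card_eq _ hA.2.1
    refine (eq_bot_iff).2 fun e he => ?_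
    obtain ⟨h1, h2⟩ := mem_inf.1 he
    have h3 : (k : G)⁻¹ * e * ((k : G)⁻¹)⁻¹ ∈ W Γ A := by
      refine mem_inf.2 ⟨conj_mem Γ (inv_mem k.2) h1, ?_⟩
      rw [mem_stabilizer_iff] at h2 ⊢
      rw [inv_inv, mul_smul, mul_smul, show e • (k : G) • A = (k : G) • A from h2, inv_smul_smul]
    rw [hWA, mem_bot, conj_eq_one_iff] at h3
    exact mem_bot.2 h3

end Cfsg.Agent.M23Nse48
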