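import Mathlib

/-!
# Groups of even permutations of seven letters of orders 360 and 72
-/

set_option autoImplicit false

namespace Cfsg.Agent.M23Nse48.Orbits

open Equiv Equiv.Perm Subgroup Finset

variable {I : Subgroup (Perm (Fin 7))}

/-- The permutations preserving `T`. -/
def preserve (T : Finset (Fin 7)) : Subgroup (Perm (Fin 7)) :=
  (subtypeCongrHom (fun a => a ∈ T)).range

theorem mem_preserve {T : Finset (Fin 7)} {σ : Perm (Fin 7)} (h : ∀ a, a ∈ T ↔ σ a ∈ T) :
    σ ∈ preserve T := by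
  refine ⟨(σ.subtypePerm fun a => (h a).symm, σ.subtypePerm fun a => (not_congr (h a)).symm), ?_⟩
  ext a
  by_cases ha : a ∈ T <;> simp [subtypeCongrHom, ha]

theorem card_preserve (T : Finset (Fin 7)) :
    Nat.card (preserve T) = T.card.factorial * (7 - T.card).factorial := by
  rw [preserve, ← Nat.card_congr (MonoidHom.ofInjective (subtypeCongrHom_injective (fun a => a ∈ T))).toEquiv]
  rw [Nat.card_prod, Nat.card_perm, Nat.card_perm]
  simp [Nat.card_eq_fintype_card, Fintype.card_subtype_compl]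

theorem odd_mem_preserve (T : Finset (Fin 7)) :
    ∃ a b : Fin 7, a ≠ b ∧ swap a b ∈ preserve T := by
  rcases Nat.lt_or_ge 1 T.card with h | h
  · obtain ⟨a, ha, b, hb, hab⟩ := Finset.one_lt_card.1 h
    refine ⟨a, b, hab, mem_preserve fun x => ?_⟩
    simp only [swap_apply_def]; split_ifs with h1 h2 <;> simp_all
  · have h2 : 1 < Tᶜ.card := by rw [Finset.card_compl, Fintype.card_fin]; omega
    obtain ⟨a, ha, b, hb, hab⟩ := Finset.one_lt_card.1 h2
    rw [Finset.mem_compl] at ha hb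
    refine ⟨a, b, hab, mem_preserve fun x => ?_⟩
    simp only [swap_apply_def]; split_ifs with h1 h2 <;> simp_all

/-- An even group preserving `T` has order dividing half of `|preserve T|`. -/
theorem card_dvd_of_preserve (hI : I ≤ alternatingGroup (Fin 7)) {T : Finset (Fin 7)}
    (hT : ∀ σ ∈ I, ∀ a, a ∈ T ↔ σ a ∈ T) :
    2 * Nat.card I ∣ T.card.factorial * (7 - T.card).factorial ∧
      (2 * Nat.card I = T.card.factorial * (7 - T.card).factorial →
        ∀ σ, sign σ = 1 → (∀ a, a ∈ T ↔ σ a ∈ T) → σ ∈ I) := by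
  obtain ⟨a, b, hab, hτ⟩ := odd_mem_preserve T
  set J := preserve T ⊓ alternatingGroup (Fin 7) with hJ
  have hIJ : I ≤ J := le_inf (fun σ hσ => mem_preserve (hT σ hσ)) hI
  have hrel : J.relIndex (preserve T) = 2 := by
    rw [hJ, inf_comm, inf_relIndex_right]
    have h1 : (alternatingGroup (Fin 7)).relIndex (preserve T) ∣ (alternatingGroup (Fin 7)).index :=
      relIndex_dvd_index_of_normal _ _
    rw [alternatingGroup.index_eq_two] at h1
    rcases (Nat.dvd_prime Nat.prime_two).1 h1 with h2 | h2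
    · exfalso
      have h3 := relIndex_eq_one.1 h2 hτ
      rw [mem_alternatingGroup, sign_swap hab] at h3
      exact absurd h3 (by decide)
    · exact h2
  have hcard : Nat.card (preserve T) = 2 * Nat.card J := by
    rw [← hrel, ← relIndex_bot_left, ← relIndex_bot_left, mul_comm,
      relIndex_mul_relIndex _ _ _ bot_le (inf_le_left : J ≤ preserve T)]
  rw [← card_preserve, hcard]
  refine ⟨Nat.mul_dvd_mul_left 2 (card_dvd_of_le hIJ), fun heq σ hσ hσT => ?_⟩
  rw [eq_of_le_of_card_ge hIJ (by omega)]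
  exact ⟨mem_preserve hσT, mem_alternatingGroup.2 hσ⟩

/-- A point moved by an even element of the setwise stabiliser. -/
theorem exists_move {T : Finset (Fin 7)} (hall : ∀ σ, sign σ = 1 → (∀ a, a ∈ T ↔ σ a ∈ T) → σ ∈ I)
    {a b : Fin 7} (hab : a ∈ T ↔ b ∈ T) {c d : Fin 7} (hcd : c ∈ T ↔ d ∈ T) (hne : c ≠ d)
    (hc : c ≠ b) (hd : d ≠ b) : ∃ σ ∈ I, σ a = b := by
  by_cases h : a = b
  · exact ⟨1, one_mem I, by simp [h]⟩
  refine ⟨swap c d * swap a b, hall _ ?_ ?_, ?_⟩
  · rw [Perm.sign_mul, sign_swap hne, sign_swap h]; decide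
  · intro x
    have h1 : ∀ (u v : Fin 7), (u ∈ T ↔ v ∈ T) → ∀ y, y ∈ T ↔ swap u v y ∈ T := by
      intro u v huv y
      simp only [swap_apply_def]; split_ifs with e1 e2 <;> simp_all
    rw [Perm.mul_apply]
    exact (h1 a b hab x).trans (h1 c d hcd _)
  · rw [Perm.mul_apply, swap_apply_left, swap_apply_of_ne_of_ne hc.symm hd.symm]

theorem trans_of_full {T : Finset (Fin 7)} (hall : ∀ σ, sign σ = 1 → (∀ a, a ∈ T ↔ σ a ∈ T) → σ ∈ I)
    (hT : T.card ≠ 2 ∧ T.card ≠ 5) {a b : Fin 7} (hab : a ∈ T ↔ b ∈ T) : ∃ σ ∈ I, σ a = b := by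
  have key : ∀ (T : Finset (Fin 7)) (b : Fin 7), T.card ≠ 2 → T.card ≠ 5 →
      ∃ c d : Fin 7, (c ∈ T ↔ d ∈ T) ∧ c ≠ d ∧ c ≠ b ∧ d ≠ b := by decide +kernel
  obtain ⟨c, d, h1, h2, h3, h4⟩ := key T b hT.1 hT.2
  exact exists_move hall hab h1 h2 h3 h4

/-- The orbit of a point. -/
noncomputable def orb (I : Subgroup (Perm (Fin 7))) (x : Fin 7) : Finset (Fin 7) := by
  classical exact Finset.univ.filter fun y => ∃ σ ∈ I, σ x = y

theorem mem_orb {x y : Fin 7} : y ∈ orb I x ↔ ∃ σ ∈ I, σ x = y := by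
  simp [orb]

theorem orb_invariant (x : Fin 7) {σ : Perm (Fin 7)} (hσ : σ ∈ I) (a : Fin 7) :
    a ∈ orb I x ↔ σ a ∈ orb I x := by
  constructor
  · intro h
    obtain ⟨τ, hτ, rfl⟩ := mem_orb.1 h
    exact mem_orb.2 ⟨σ * τ, mul_mem hσ hτ, rfl⟩
  · intro h
    obtain ⟨τ, hτ, he⟩ := mem_orb.1 h
    exact mem_orb.2 ⟨σ⁻¹ * τ, mul_mem (inv_mem hσ) hτ, by rw [Perm.mul_apply, he]; simp⟩

theorem card_orb_dvd (x : Fin 7) : (orb I x).card ∣ Nat.card I := by
  classical
  have h : (orb I x).card = Nat.card (MulAction.orbit I x) := by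
    rw [Nat.card_coe_set_eq, ← Set.ncard_coe_finset]
    congr 1
    ext y
    simp only [SetLike.mem_coe, mem_orb, MulAction.mem_orbit_iff, Subtype.exists, Subgroup.mk_smul, Perm.smul_def,
      exists_prop]
  rw [h, Nat.card_coe_set_eq, ← MulAction.index_stabilizer]
  exact index_dvd_card _

theorem factorial_cases {k : ℕ} (hk : k ≤ 7) :
    (2 * 360 ∣ k.factorial * (7 - k).factorial → k = 0 ∨ k = 1 ∨ k = 6 ∨ k = 7) ∧
    (2 * 72 ∣ k.factorial * (7 - k).factorial → k = 0 ∨ k = 1 ∨ k = 3 ∨ k = 4 ∨ k = 6 ∨ k = 7) := by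
  interval_cases k <;> decide

/-- An even group of order 360 is a point stabiliser. -/
theorem perm360 (hI : I ≤ alternatingGroup (Fin 7)) (hc : Nat.card I = 360) :
    ∃ c, (∀ σ ∈ I, σ c = c) ∧ (∀ a b, a ≠ c → b ≠ c → ∃ σ ∈ I, σ a = b) ∧
      ∀ σ, sign σ = 1 → σ c = c → σ ∈ I := by
  have hinv := fun σ (hσ : σ ∈ I) => orb_invariant (I := I) 0 hσ
  obtain ⟨h1, h2⟩ := card_dvd_of_preserve hI hinv
  rw [hc] at h1 h2
  have hk : (orb I 0).card ≤ 7 := (Finset.card_le_univ _).trans (by simp)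
  have h0 : (orb I 0).card ≠ 0 := Finset.card_ne_zero.2 ⟨0, mem_orb.2 ⟨1, one_mem I, rfl⟩⟩
  have hd := card_orb_dvd (I := I) 0
  rw [hc] at hd
  rcases (factorial_cases hk).1 h1 with h | h | h | h
  · omega
  · obtain ⟨c, hc'⟩ := Finset.card_eq_one.1 h
    have hall := h2 (by rw [h]; decide)
    refine ⟨c, fun σ hσ => ?_, fun a b ha hb => trans_of_full hall (by omega) (by simp [hc', ha, hb]),
      fun σ h1 h2 => hall σ h1 fun a => ?_⟩
    · simpa [hc'] using (hinv σ hσ c)
    · simp only [hc', Finset.mem_singleton]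
      exact ⟨fun e => e ▸ h2, fun e => σ.injective (e.trans h2.symm)⟩
  · obtain ⟨c, hc'⟩ := Finset.card_eq_one.1 (show (orb I 0)ᶜ.card = 1 by rw [Finset.card_compl, h]; rfl)
    have hall := h2 (by rw [h]; decide)
    have hmem : ∀ a, a ∈ orb I 0 ↔ a ≠ c := fun a => by
      have h3 := Finset.ext_iff.1 hc' a
      simp only [Finset.mem_compl, Finset.mem_singleton] at h3
      exact ⟨fun e e' => (h3.2 e') e, fun e => by_contra fun e' => e (h3.1 e')⟩
    refine ⟨c, fun σ hσ => ?_, fun a b ha hb => trans_of_full hall (by omega) (by simp [hmem, ha, hb]),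
      fun σ h1 h2 => hall σ h1 fun a => ?_⟩
    · by_contra hne
      exact (hmem c).1 ((hinv σ hσ c).2 ((hmem _).2 hne)) rfl
    · rw [hmem, hmem]
      exact ⟨fun e e' => e (σ.injective (e'.trans h2.symm)), fun e e' => e (e' ▸ h2)⟩
  · rw [h] at hd; norm_num at hd

/-- The alternating group of degree six has no subgroup of order 72. -/
theorem no_fixed72 (hI : I ≤ alternatingGroup (Fin 7)) (hc : Nat.card I = 72) (c : Fin 7)
    (hfix : ∀ σ ∈ I, σ c = c) : False := by
  have hinv : ∀ σ ∈ I, ∀ a, a ∈ ({c} : Finset (Fin 7)) ↔ σ a ∈ ({c} : Finset (Fin 7)) := fun σ hσ a => by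
    simp only [Finset.mem_singleton]
    exact ⟨fun e => e ▸ hfix σ hσ, fun e => σ.injective (e.trans (hfix σ hσ).symm)⟩
  let f : I →* Perm {x : Fin 7 // x ≠ c} :=
    { toFun := fun σ => (σ : Perm (Fin 7)).subtypePerm fun a => by
        simpa using (not_congr (hinv σ σ.2 a)).symm
      map_one' := by ext; simp
      map_mul' := fun σ τ => by ext; rfl }
  have hof : ∀ σ : I, ofSubtype (f σ) = (σ : Perm (Fin 7)) := by
    intro σ
    ext x
    by_cases hx : x = c
    · rw [ofSubtype_apply_of_not_mem (f σ) (not_not.2 hx), hx, hfix σ σ.2]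
    · rw [ofSubtype_apply_of_mem (f σ) hx]; rfl
  have hinj : Function.Injective f := fun σ τ e => Subtype.ext (by rw [← hof σ, e, hof τ])
  have hle : f.range ≤ alternatingGroup {x : Fin 7 // x ≠ c} := by
    rintro _ ⟨σ, rfl⟩
    rw [mem_alternatingGroup, ← sign_ofSubtype, hof]
    exact mem_alternatingGroup.1 (hI σ.2)
  set A := alternatingGroup {x : Fin 7 // x ≠ c}
  have h6 : Nat.card {x : Fin 7 // x ≠ c} = 6 := by
    simp [Nat.card_eq_fintype_card, Fintype.card_subtype_compl]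
  have : Nontrivial {x : Fin 7 // x ≠ c} := Finite.one_lt_card_iff_nontrivial.1 (by omega)
  have hA : Nat.card A = 360 := by
    have h := two_mul_card_alternatingGroup (α := {x : Fin 7 // x ≠ c})
    rw [← Nat.card_eq_fintype_card, ← Nat.card_eq_fintype_card, Nat.card_perm, h6] at h
    rw [show Nat.factorial 6 = 720 from rfl] at h
    show Nat.card ↥(alternatingGroup {x : Fin 7 // x ≠ c}) = 360
    omega
  have hcr : Nat.card f.range = 72 := by
    rw [← Nat.card_congr (MonoidHom.ofInjective hinj).toEquiv, hc]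
  have : IsSimpleGroup A := alternatingGroup.isSimpleGroup (by omega)
  set K := f.range.subgroupOf A
  have hK : K.index = 5 := by
    have h := K.index_mul_card
    rw [Nat.card_congr (subgroupOfEquivOfLe hle).toEquiv, hcr, hA] at h
    omega
  have hcore : K.normalCore.index ∣ Nat.factorial 5 := by
    rw [normalCore_eq_ker, index_ker, ← hK, index_eq_card, ← Nat.card_perm]
    exact card_subgroup_dvd_card _
  rcases IsSimpleGroup.eq_bot_or_eq_top_of_normal K.normalCore inferInstance with h | h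
  · rw [h, index_bot, hA] at hcore
    exact absurd hcore (by decide)
  · have h5 : K = ⊤ := top_unique (h ▸ K.normalCore_le)
    rw [h5, index_top] at hK
    omega

/-- An even group of order 72 has orbits of lengths three and four. -/
theorem perm72 (hI : I ≤ alternatingGroup (Fin 7)) (hc : Nat.card I = 72) :
    ∃ T : Finset (Fin 7), T.card = 3 ∧ (∀ σ ∈ I, ∀ a, a ∈ T ↔ σ a ∈ T) ∧
      (∀ a b, (a ∈ T ↔ b ∈ T) → ∃ σ ∈ I, σ a = b) ∧
      ∀ σ, sign σ = 1 → (∀ a, a ∈ T ↔ σ a ∈ T) → σ ∈ I := by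
  have hinv := fun σ (hσ : σ ∈ I) => orb_invariant (I := I) 0 hσ
  obtain ⟨h1, h2⟩ := card_dvd_of_preserve hI hinv
  rw [hc] at h1 h2
  have hk : (orb I 0).card ≤ 7 := (Finset.card_le_univ _).trans (by simp)
  have h0 : (orb I 0).card ≠ 0 := Finset.card_ne_zero.2 ⟨0, mem_orb.2 ⟨1, one_mem I, rfl⟩⟩
  have hd := card_orb_dvd (I := I) 0
  rw [hc] at hd
  rcases (factorial_cases hk).2 h1 with h | h | h | h | h | h
  · omega
  · obtain ⟨c, hc'⟩ := Finset.card_eq_one.1 h
    exact (no_fixed72 hI hc c fun σ hσ => by simpa [hc'] using (hinv σ hσ c)).elim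
  · exact ⟨orb I 0, h, hinv, fun a b hab => trans_of_full (h2 (by rw [h]; decide)) (by omega) hab,
      h2 (by rw [h]; decide)⟩
  · refine ⟨(orb I 0)ᶜ, by rw [Finset.card_compl, h]; rfl, fun σ hσ a => ?_, fun a b hab => ?_,
      fun σ h1' hσT => h2 (by rw [h]; decide) σ h1' fun a => ?_⟩
    · simp only [Finset.mem_compl]; exact not_congr (hinv σ hσ a)
    · simp only [Finset.mem_compl, not_iff_not] at hab
      exact trans_of_full (h2 (by rw [h]; decide)) (by omega) hab
    · have h3 := hσT a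
      simp only [Finset.mem_compl, not_iff_not] at h3
      exact h3
  · obtain ⟨c, hc'⟩ := Finset.card_eq_one.1 (show (orb I 0)ᶜ.card = 1 by rw [Finset.card_compl, h]; rfl)
    refine (no_fixed72 hI hc c fun σ hσ => ?_).elim
    have h3 : ∀ a, a ∈ (orb I 0)ᶜ ↔ a = c := fun a => by rw [hc', Finset.mem_singleton]
    exact (h3 _).1 (Finset.mem_compl.2 fun e => Finset.mem_compl.1 ((h3 c).2 rfl) ((hinv σ hσ c).2 e))
  · rw [h] at hd; norm_num at hd

end Cfsg.Agent.M23Nse48.Orbits
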