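import Cfsg.Agent.M23Nse48.Defs
import Cfsg.Agent.M23Nse48.OrbitsPerm
import Cfsg.Agent.M22Nse38.Gen

/-!
# Stabilisers of two cosets
-/

set_option autoImplicit false

namespace Cfsg.Agent.M23Nse48.Orbits

open Subgroup MulAction

local instance : Fact (Nat.Prime 2) := ⟨Nat.prime_two⟩
local instance : Fact (Nat.Prime 3) := ⟨Nat.prime_three⟩
local instance : Fact (Nat.Prime 5) := ⟨by norm_num⟩
local instance : Fact (Nat.Prime 7) := ⟨by norm_num⟩

variable {G : Type*} [Group G] [Finite G] (hd : Dat G) (Γ : Act G)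

omit [Finite G] in
theorem card_sdiff_one (K : Subgroup G) :
    Nat.card {w : G | w ∈ K ∧ w ≠ 1} = Nat.card K - 1 := by
  rw [Nat.card_coe_set_eq]
  exact (Set.ncard_sdiff_singleton_of_mem K.one_mem).trans (by rw [← Nat.card_coe_set_eq]; rfl)

omit [Finite G] in
include hd in
theorem card_X : Nat.card (G ⧸ Γ.H) = 253 := by
  have h := Γ.H.index_mul_card
  rw [index_eq_card, Γ.card_H, hd.card] at h
  omega

omit [Finite G] in
theorem smul_base (g : G) : g • Γ.base = (g : G ⧸ Γ.H) := by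
  show ((g * 1 : G) : G ⧸ Γ.H) = _
  rw [mul_one]

omit [Finite G] in
theorem stab_base : stabilizer G Γ.base = Γ.H := MulAction.stabilizer_quotient Γ.H

omit [Finite G] in
theorem fix_base (h : Γ.H) : h • Γ.base = Γ.base := by
  have := h.2
  exact (show (h : G) • Γ.base = Γ.base from mem_stabilizer_iff.1 ((stab_base Γ).symm ▸ this))

omit [Finite G] in
theorem mem_H_conj {g x : G} (hx : x • (g : G ⧸ Γ.H) = g) : g⁻¹ * x * g ∈ Γ.H := by
  have h := QuotientGroup.eq.1 (show ((x * g : G) : G ⧸ Γ.H) = g from hx).symm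
  rwa [mul_assoc]

omit [Finite G] in
theorem notMem_of_ne {g : G} (hg : (g : G ⧸ Γ.H) ≠ Γ.base) : g ∉ Γ.H := fun h =>
  hg (QuotientGroup.eq.2 (by simpa using inv_mem h))

omit [Finite G] in
theorem conj_mem {h e : G} (hh : h ∈ Γ.H) (he : e ∈ Γ.E) : h * e * h⁻¹ ∈ Γ.E := by
  rw [Γ.norm] at hh
  exact (mem_normalizer_iff.1 hh e).1 he

omit [Finite G] in
theorem comm_E {a b : G} (ha : a ∈ Γ.E) (hb : b ∈ Γ.E) : a * b = b * a := by
  have h1 : a⁻¹ = a := inv_eq_of_mul_eq_one_right (by rw [← sq]; exact Γ.sq a ha)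
  have h2 : b⁻¹ = b := inv_eq_of_mul_eq_one_right (by rw [← sq]; exact Γ.sq b hb)
  have h3 : (a * b)⁻¹ = a * b :=
    inv_eq_of_mul_eq_one_right (by rw [← sq]; exact Γ.sq _ (mul_mem ha hb))
  rw [mul_inv_rev, h1, h2] at h3
  exact h3.symm

omit [Finite G] in
theorem orderOf_two {e : G} (he : e ∈ Γ.E) (h1 : e ≠ 1) : orderOf e = 2 :=
  orderOf_eq_prime (Γ.sq e he) h1

omit [Finite G] in
theorem ti' {g w : G} (hg : g ∉ Γ.H) (hw : w ∈ Γ.E) (hw' : g⁻¹ * w * g ∈ Γ.E) : w = 1 := by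
  have h : w ∈ Γ.E ⊓ Γ.E.map (MulAut.conj g).toMonoidHom :=
    ⟨hw, ⟨g⁻¹ * w * g, hw', by simp [MulAut.conj_apply, mul_assoc]⟩⟩
  rwa [Γ.ti g hg, mem_bot] at h

/-- The conjugate of `E` at a coset, without the identity. -/
def punct (g : G) : Set G := {w : G | w ∈ Γ.E.map (MulAut.conj g).toMonoidHom ∧ w ≠ 1}

theorem card_punct (g : G) : Nat.card (punct Γ g) = 15 := by
  rw [punct, card_sdiff_one]
  rw [← Nat.card_congr (Γ.E.equivMapOfInjective (MulAut.conj g).toMonoidHom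
    (MulAut.conj g).injective).toEquiv, Γ.card_E]

omit [Finite G] in
theorem punct_conj {g x : G} (hx : g⁻¹ * x * g ∈ Γ.H) {w : G} (hw : w ∈ punct Γ g) :
    x * w * x⁻¹ ∈ punct Γ g := by
  obtain ⟨⟨e, he, rfl⟩, h1⟩ := hw
  refine ⟨⟨(g⁻¹ * x * g) * e * (g⁻¹ * x * g)⁻¹, conj_mem Γ hx he, ?_⟩, fun h => h1 ?_⟩
  · simp only [MulEquiv.coe_toMonoidHom, MulAut.conj_apply]; group
  · rwa [conj_eq_one_iff] at h

theorem not_E_le {C : G ⧸ Γ.H} (hC : C ≠ Γ.base) : ¬ Γ.E ≤ stabilizer G C := by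
  induction C using QuotientGroup.induction_on with | _ g => ?_
  intro hle
  have h := M22Nse38.fix_mod_group (p := 2) (IsPGroup.of_card (n := 4) (by rw [Γ.card_E]; rfl))
    (punct Γ g) (fun k hk w hw => punct_conj Γ (mem_H_conj Γ (hle hk)) hw)
  rw [card_punct] at h
  have hpos : Nat.card {w : G // w ∈ punct Γ g ∧ ∀ k ∈ Γ.E, k * w * k⁻¹ = w} ≠ 0 := fun e => by
    rw [e] at h; exact absurd h (by decide)
  obtain ⟨w, hw, hfix⟩ := (Nat.card_ne_zero.1 hpos).1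
  obtain ⟨⟨e, he, hwe⟩, h1⟩ := hw
  have hwE : w ∈ Γ.E := by
    rw [← Γ.cent, mem_centralizer_iff]
    intro k hk
    exact mul_inv_eq_iff_eq_mul.1 (hfix k hk)
  refine h1 (ti' Γ (notMem_of_ne Γ hC) hwE ?_)
  rw [← hwe]
  simpa [MulAut.conj_apply, mul_assoc] using he

include hd in
theorem seven_fix {y : G} (hy : orderOf y = 7) (hyH : y ∈ Γ.H) {C : G ⧸ Γ.H} (hC : C ≠ Γ.base) :
    y • C ≠ C := by
  induction C using QuotientGroup.induction_on with | _ g => ?_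
  intro hyC
  have key : ∀ S : Set G, (∀ w ∈ S, y * w * y⁻¹ ∈ S) → Nat.card S = 15 →
      ∃ w ∈ S, w ∈ M22Nse38.cz y := by
    intro S hS h15
    have h := M22Nse38.fix_mod hy S hS
    rw [h15] at h
    have hpos : Nat.card {w : G // w ∈ S ∧ w ∈ M22Nse38.cz y} ≠ 0 := fun e => by
      rw [e] at h; exact absurd h (by decide)
    obtain ⟨w, hw, hw'⟩ := (Nat.card_ne_zero.1 hpos).1
    exact ⟨w, hw, hw'⟩
  obtain ⟨a, ⟨haE, ha1⟩, hay⟩ := key {w : G | w ∈ Γ.E ∧ w ≠ 1}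
    (fun w hw => ⟨conj_mem Γ hyH hw.1, fun h => hw.2 (conj_eq_one_iff.1 h)⟩)
    (by rw [card_sdiff_one, Γ.card_E])
  obtain ⟨b, hb, hby⟩ := key (punct Γ g) (fun w hw => punct_conj Γ (mem_H_conj Γ hyC) hw)
    (card_punct Γ g)
  obtain ⟨⟨e, he, hbe⟩, hb1⟩ := hb
  have ha2 := orderOf_two Γ haE ha1
  have hb2 : orderOf b = 2 := by
    refine orderOf_eq_prime ?_ hb1
    rw [← hbe, ← map_pow, Γ.sq e he, map_one]
  set Z := (zpowers y).subgroupOf (cz y) with hZ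
  have hyy : y ∈ cz y := mem_centralizer_singleton_iff.2 rfl
  have hidx : Z.index = 2 := by
    have h := Z.index_mul_card
    rw [Nat.card_congr (subgroupOfEquivOfLe (zpowers_le.2 hyy)).toEquiv, Nat.card_zpowers, hy,
      hd.cz7 y hy] at h
    omega
  have hno : ∀ w : cz y, orderOf (w : G) = 2 → w ∉ Z := fun w hw hwZ => by
    have h := orderOf_dvd_natCard (⟨(w : G), mem_subgroupOf.1 hwZ⟩ : zpowers y)
    rw [orderOf_mk, hw, Nat.card_zpowers, hy] at h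
    norm_num at h
  have hab : (⟨a, hay⟩ : cz y) * ⟨b, hby⟩ ∈ Z :=
    (mul_mem_iff_of_index_two hidx).2 (iff_of_false (hno _ ha2) (hno _ hb2))
  obtain ⟨k, hk⟩ := mem_zpowers_iff.1 (mem_subgroupOf.1 hab)
  simp only [coe_mul] at hk
  have hca : Commute a (y ^ k) := (show Commute a y from mem_centralizer_singleton_iff.1 hay).zpow_right k
  have haa : a * a = 1 := by rw [← sq]; exact Γ.sq a haE
  have hbval : b = a * y ^ k := by rw [hk, ← mul_assoc, haa, one_mul]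
  have hsq : (y ^ k) ^ 2 = 1 := by
    have h2 : b ^ 2 = 1 := by rw [← hb2]; exact pow_orderOf_eq_one b
    rwa [hbval, hca.mul_pow, sq a, haa, one_mul] at h2
  have hk1 : y ^ k = 1 := by
    have h7 : (y ^ k) ^ 7 = 1 := by
      rw [← zpow_natCast, ← zpow_mul, mul_comm, zpow_mul, zpow_natCast, ← hy, pow_orderOf_eq_one, one_zpow]
    calc y ^ k = (y ^ k) ^ 7 * (((y ^ k) ^ 2) ^ 3)⁻¹ := by group
      _ = 1 := by rw [h7, hsq, one_pow, inv_one, one_mul]
  rw [hk1, mul_one] at hbval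
  refine ha1 (ti' Γ (notMem_of_ne Γ hC) haE ?_)
  rw [← hbval, ← hbe]
  simpa [MulAut.conj_apply, mul_assoc] using he

/-- The part of `E` fixing a coset. -/
abbrev W (C : G ⧸ Γ.H) : Subgroup G := Γ.E ⊓ stabilizer G C

omit [Finite G] in
theorem W_conj {x : G} (hx : x ∈ Γ.H) {C : G ⧸ Γ.H} (hxC : x • C = C) {w : G} (hw : w ∈ W Γ C) :
    x * w * x⁻¹ ∈ W Γ C := by
  obtain ⟨h1, h2⟩ := mem_inf.1 hw
  refine mem_inf.2 ⟨conj_mem Γ hx h1, ?_⟩
  rw [mem_stabilizer_iff] at h2 ⊢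
  rw [mul_smul, mul_smul, inv_smul_eq_iff.2 hxC.symm, h2, hxC]

omit [Finite G] in
theorem card_W_dvd (C : G ⧸ Γ.H) : Nat.card (W Γ C) ∣ 16 := by
  have h := card_dvd_of_le (show W Γ C ≤ Γ.E from inf_le_left)
  rwa [Γ.card_E] at h

theorem card_W_mem {C : G ⧸ Γ.H} (hC : C ≠ Γ.base) : Nat.card (W Γ C) ∈ [1, 2, 4, 8] := by
  have h := card_W_dvd Γ C
  have h16 : Nat.card (W Γ C) ≠ 16 := fun e => by
    refine not_E_le Γ hC ?_
    have := eq_of_le_of_card_ge (show W Γ C ≤ Γ.E from inf_le_left) (by rw [Γ.card_E, e])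
    exact this.symm.le.trans inf_le_right
  have hle := Nat.le_of_dvd (by norm_num) h
  generalize Nat.card (W Γ C) = n at h h16 hle
  interval_cases n <;> first | omega | (revert h; decide)

include hd in
theorem five_W {C : G ⧸ Γ.H} (hC : C ≠ Γ.base) {y : G} (hy : orderOf y = 5) (hyH : y ∈ Γ.H)
    (hyC : y • C = C) : Nat.card (W Γ C) = 1 := by
  have h := M22Nse38.fix_mod hy {w : G | w ∈ W Γ C ∧ w ≠ 1}
    (fun w hw => ⟨W_conj Γ hyH hyC hw.1, fun e => hw.2 (conj_eq_one_iff.1 e)⟩)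
  have hzero : Nat.card {w : G // w ∈ {w : G | w ∈ W Γ C ∧ w ≠ 1} ∧ w ∈ M22Nse38.cz y} = 0 := by
    rw [Nat.card_eq_zero]
    left
    refine ⟨fun ⟨w, ⟨hw, hw1⟩, hwy⟩ => ?_⟩
    have hc : Commute w y := mem_centralizer_singleton_iff.1 hwy
    have h10 := hc.orderOf_mul_eq_mul_orderOf_of_coprime
      (by rw [orderOf_two Γ (mem_inf.1 hw).1 hw1, hy]; decide)
    have hs := hd.spec (w * y)
    rw [h10, orderOf_two Γ (mem_inf.1 hw).1 hw1, hy] at hs
    simp at hs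
  rw [hzero, card_sdiff_one] at h
  have hm := card_W_mem Γ hC
  simp only [List.mem_cons, List.not_mem_nil, or_false] at hm
  rcases hm with e | e | e | e
  · exact e
  all_goals rw [e] at h; exact absurd h (by decide)

theorem cz_two {t : G} (ht : t ∈ Γ.E) (ht1 : t ≠ 1) : Nat.card (cz t) = 2688 := by
  classical
  let S : Set G := {w : G | w ∈ Γ.E ∧ w ≠ 1}
  have hS : ∀ k ∈ Γ.H, ∀ w ∈ S, k * w * k⁻¹ ∈ S := fun k hk w hw =>
    ⟨conj_mem Γ hk hw.1, fun e => hw.2 (conj_eq_one_iff.1 e)⟩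
  let := M22Nse38.setAction Γ.H S hS
  let t' : S := ⟨t, ht, ht1⟩
  have horb : orbit Γ.H t' = Set.univ := Set.eq_univ_of_forall fun w => by
    obtain ⟨h, hh, he⟩ := Γ.trans t ht w.1 w.2.1 ht1 w.2.2
    exact ⟨⟨h, hh⟩, Subtype.ext he⟩
  have h := (stabilizer Γ.H t').index_mul_card
  rw [index_stabilizer, horb, Set.ncard_univ, show Nat.card S = 15 from by
    rw [show S = {w : G | w ∈ Γ.E ∧ w ≠ 1} from rfl, card_sdiff_one, Γ.card_E], Γ.card_H] at h
  have hc : Nat.card (stabilizer Γ.H t') = Nat.card (cz t) := Nat.card_congr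
    { toFun := fun k => ⟨k.1.1, mem_centralizer_singleton_iff.2
        (mul_inv_eq_iff_eq_mul.1 (congrArg Subtype.val k.2))⟩
      invFun := fun k => ⟨⟨k.1, Γ.cz_le t ht ht1 k.2⟩, Subtype.ext
        (mul_inv_eq_iff_eq_mul.2 (mem_centralizer_singleton_iff.1 k.2))⟩
      left_inv := fun _ => rfl
      right_inv := fun _ => rfl }
  omega

/-- The stabiliser in `H` of a coset. -/
abbrev St (C : G ⧸ Γ.H) : Subgroup Γ.H := stabilizer Γ.H C

theorem nine_W {C : G ⧸ Γ.H} (hC : C ≠ Γ.base) (h9 : 9 ∣ Nat.card (St Γ C)) :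
    Nat.card (W Γ C) ≠ 8 := by
  intro h8
  obtain ⟨P, hP⟩ := Sylow.exists_subgroup_card_pow_prime 3 (n := 2) h9
  set Q : Subgroup G := P.map ((Γ.H).subtype.comp (St Γ C).subtype) with hQ
  have hinj : Function.Injective ((Γ.H).subtype.comp (St Γ C).subtype) := fun a b e =>
    Subtype.ext (Subtype.ext e)
  have hcardQ : Nat.card Q = 3 ^ 2 := by
    rw [hQ, ← Nat.card_congr (P.equivMapOfInjective _ hinj).toEquiv, hP]
  have hQm : ∀ x ∈ Q, x ∈ Γ.H ∧ x • C = C := by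
    rintro _ ⟨p, -, rfl⟩
    exact ⟨p.1.2, p.2⟩
  have h := M22Nse38.fix_mod_group (p := 3) (IsPGroup.of_card hcardQ) {w : G | w ∈ W Γ C ∧ w ≠ 1}
    (fun k hk w hw => ⟨W_conj Γ (hQm k hk).1 (hQm k hk).2 hw.1, fun e => hw.2 (conj_eq_one_iff.1 e)⟩)
  rw [card_sdiff_one, h8] at h
  have hpos : Nat.card {w : G // w ∈ {w : G | w ∈ W Γ C ∧ w ≠ 1} ∧ ∀ k ∈ Q, k * w * k⁻¹ = w} ≠ 0 :=
    fun e => by rw [e] at h; exact absurd h (by decide)
  obtain ⟨w, ⟨hw, hw1⟩, hfix⟩ := (Nat.card_ne_zero.1 hpos).1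
  have hle : Q ≤ cz w := fun k hk => mem_centralizer_singleton_iff.2 (mul_inv_eq_iff_eq_mul.1 (hfix k hk))
  have h1 := card_dvd_of_le hle
  rw [hcardQ, cz_two Γ (mem_inf.1 hw).1 hw1] at h1
  norm_num at h1

/-- The map onto the even permutations of seven letters. -/
noncomputable def φ' : Γ.H →* Equiv.Perm (Fin 7) := (alternatingGroup (Fin 7)).subtype.comp Γ.φ

omit [Finite G] in
theorem φ'_eq_one {h : Γ.H} : φ' Γ h = 1 ↔ (h : G) ∈ Γ.E := by
  rw [show φ' Γ h = ((Γ.φ h : alternatingGroup (Fin 7)) : Equiv.Perm (Fin 7)) from rfl,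
    OneMemClass.coe_eq_one, ← MonoidHom.mem_ker, Γ.φ_ker, mem_subgroupOf]

/-- The image of a stabiliser. -/
noncomputable def Im (C : G ⧸ Γ.H) : Subgroup (Equiv.Perm (Fin 7)) := (St Γ C).map (φ' Γ)

omit [Finite G] in
theorem Im_le (C : G ⧸ Γ.H) : Im Γ C ≤ alternatingGroup (Fin 7) := by
  rintro _ ⟨h, -, rfl⟩
  exact (Γ.φ h).2

omit [Finite G] in
theorem card_St (C : G ⧸ Γ.H) : Nat.card (St Γ C) = Nat.card (W Γ C) * Nat.card (Im Γ C) := by
  set f := (φ' Γ).comp (St Γ C).subtype with hf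
  have h1 : f.range = Im Γ C := by
    ext σ
    simp [f, Im, Subgroup.mem_map]
  have h2 : Nat.card f.ker = Nat.card (W Γ C) := Nat.card_congr
    { toFun := fun k => ⟨k.1.1.1, mem_inf.2 ⟨(φ'_eq_one Γ).1 k.2, k.1.2⟩⟩
      invFun := fun w => ⟨⟨⟨w.1, Γ.E_le (mem_inf.1 w.2).1⟩, (mem_inf.1 w.2).2⟩,
        (φ'_eq_one Γ).2 (mem_inf.1 w.2).1⟩
      left_inv := fun _ => rfl
      right_inv := fun _ => rfl }
  have h := f.ker.index_mul_card
  rw [index_ker, h1, h2] at h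
  rw [← h, mul_comm]

set_option synthInstance.maxSize 4096 in
set_option synthInstance.maxHeartbeats 100000 in
theorem arith : ∀ w ∈ ([1, 2, 4, 8] : List ℕ), ∀ i ∈ Nat.divisors 2520, 40320 % (w * i) = 0 → ¬ 7 ∣ i →
    (5 ∣ i → w = 1) → (w = 8 → ¬ 9 ∣ i) → 40320 / (w * i) ≤ 252 →
    (w = 1 ∧ i = 360) ∨ (w = 4 ∧ i = 72) ∨ 210 ≤ 40320 / (w * i) := by
  decide +kernel

theorem card_alt : Nat.card (alternatingGroup (Fin 7)) = 2520 := by
  rw [nat_card_alternatingGroup, Nat.card_eq_fintype_card, Fintype.card_fin]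
  rfl

include hd in
theorem orbit_le {C : G ⧸ Γ.H} (hC : C ≠ Γ.base) : Nat.card (orbit Γ.H C) ≤ 252 := by
  classical
  have hsub : orbit Γ.H C ⊆ {Γ.base}ᶜ := by
    rintro _ ⟨h, rfl⟩
    intro e
    have e' : h • C = h • Γ.base := (Set.mem_singleton_iff.1 e).trans (fix_base Γ h).symm
    exact hC (MulAction.injective h e')
  refine (Nat.card_mono (Set.toFinite _) hsub).trans_eq ?_
  rw [Nat.card_coe_set_eq, Set.ncard_compl, Set.ncard_singleton, card_X hd]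

include hd in
theorem cases {C : G ⧸ Γ.H} (hC : C ≠ Γ.base) :
    (Nat.card (orbit Γ.H C) = 112 ∧ Nat.card (W Γ C) = 1 ∧ Nat.card (Im Γ C) = 360) ∨
    (Nat.card (orbit Γ.H C) = 140 ∧ Nat.card (W Γ C) = 4 ∧ Nat.card (Im Γ C) = 72) ∨
    210 ≤ Nat.card (orbit Γ.H C) := by
  have hmul := (St Γ C).index_mul_card
  rw [index_stabilizer, ← Nat.card_coe_set_eq, Γ.card_H, card_St] at hmul
  have hw := card_W_mem Γ hC
  have hi : Nat.card (Im Γ C) ∈ Nat.divisors 2520 :=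
    Nat.mem_divisors.2 ⟨(card_dvd_of_le (Im_le Γ C)).trans card_alt.dvd, by norm_num⟩
  have hs := orbit_le hd Γ hC
  have hel : ∀ p : ℕ, p.Prime → p ∣ Nat.card (Im Γ C) →
      ∃ y : G, orderOf y = p ∧ y ∈ Γ.H ∧ y • C = C := by
    intro p hp hpd
    have := Fact.mk hp
    obtain ⟨y, hy⟩ := exists_prime_orderOf_dvd_card' p
      (show p ∣ Nat.card (St Γ C) from (card_St Γ C).symm ▸ hpd.mul_left _)
    exact ⟨y.1.1, by rw [orderOf_coe, orderOf_coe]; exact hy, y.1.2, y.2⟩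
  have h7 : ¬ 7 ∣ Nat.card (Im Γ C) := fun h => by
    obtain ⟨y, hy, hyH, hyC⟩ := hel 7 (by norm_num) h
    exact seven_fix hd Γ hy hyH hC hyC
  have h5 : 5 ∣ Nat.card (Im Γ C) → Nat.card (W Γ C) = 1 := fun h => by
    obtain ⟨y, hy, hyH, hyC⟩ := hel 5 (by norm_num) h
    exact five_W hd Γ hC hy hyH hyC
  have h8 : Nat.card (W Γ C) = 8 → ¬ 9 ∣ Nat.card (Im Γ C) := fun e h =>
    nine_W Γ hC ((card_St Γ C).symm ▸ h.mul_left _) e
  have hpos : 0 < Nat.card (W Γ C) * Nat.card (Im Γ C) := Nat.mul_pos Nat.card_pos Nat.card_pos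
  have hdiv : 40320 / (Nat.card (W Γ C) * Nat.card (Im Γ C)) = Nat.card (orbit Γ.H C) :=
    Nat.div_eq_of_eq_mul_left hpos hmul.symm
  have hmod : 40320 % (Nat.card (W Γ C) * Nat.card (Im Γ C)) = 0 :=
    Nat.mod_eq_zero_of_dvd ⟨_, hmul.symm.trans (mul_comm _ _)⟩
  rcases arith _ hw _ hi hmod h7 h5 h8 (hdiv.symm ▸ hs) with ⟨a, b⟩ | ⟨a, b⟩ | h
  · rw [a, b] at hdiv; exact Or.inl ⟨hdiv.symm, a, b⟩
  · rw [a, b] at hdiv; exact Or.inr (Or.inl ⟨hdiv.symm, a, b⟩)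
  · exact Or.inr (Or.inr (hdiv ▸ h))

/-- A coset with the data of one of the two orbits. -/
def Short (C : G ⧸ Γ.H) : Prop :=
  Nat.card (orbit Γ.H C) = 112 ∧ Nat.card (W Γ C) = 1 ∧ Nat.card (Im Γ C) = 360

/-- A coset with the data of the other orbit. -/
def Long (C : G ⧸ Γ.H) : Prop :=
  Nat.card (orbit Γ.H C) = 140 ∧ Nat.card (W Γ C) = 4 ∧ Nat.card (Im Γ C) = 72

include hd in
/-- The orbits of `H` have lengths 1, 112 and 140. -/
theorem two_orbits : ∃ A B : G ⧸ Γ.H, Short Γ A ∧ Long Γ B ∧ A ≠ Γ.base ∧ B ≠ Γ.base ∧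
    ∀ C, C ≠ Γ.base → C ∈ orbit Γ.H A ∨ C ∈ orbit Γ.H B := by
  classical
  set U : Set (G ⧸ Γ.H) := {Γ.base}ᶜ with hU
  have hUc : U.ncard = 252 := by rw [hU, Set.ncard_compl, Set.ncard_singleton, card_X hd]
  have hsub : ∀ C, C ≠ Γ.base → orbit Γ.H C ⊆ U := by
    rintro C hC _ ⟨h, rfl⟩
    intro e
    exact hC (MulAction.injective h ((Set.mem_singleton_iff.1 e).trans (fix_base Γ h).symm))
  have hsize : ∀ C, C ≠ Γ.base → 112 ≤ (orbit Γ.H C).ncard := fun C hC => by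
    rw [← Nat.card_coe_set_eq]
    rcases cases hd Γ hC with ⟨h, -⟩ | ⟨h, -⟩ | h <;> omega
  obtain ⟨A, hA⟩ : U.Nonempty := Set.nonempty_of_ncard_ne_zero (by omega)
  have hr : (U \ orbit Γ.H A).ncard = 252 - (orbit Γ.H A).ncard := by
    rw [Set.ncard_sdiff (hsub A hA), hUc]
  have hA252 : (orbit Γ.H A).ncard ≠ 252 := fun e => by
    rcases cases hd Γ hA with ⟨h, -⟩ | ⟨h, -⟩ | h
    · rw [← Nat.card_coe_set_eq, h] at e; omega
    · rw [← Nat.card_coe_set_eq, h] at e; omega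
    · have hmul := (St Γ A).index_mul_card
      rw [index_stabilizer, e, Γ.card_H, card_St] at hmul
      have hw := card_W_mem Γ hA
      simp only [List.mem_cons, List.not_mem_nil, or_false] at hw
      have h160 : Nat.card (W Γ A) * Nat.card (Im Γ A) = 160 := by omega
      have hidv := (card_dvd_of_le (Im_le Γ A)).trans card_alt.dvd
      rcases hw with e | e | e | e <;> rw [e] at h160
      · rw [show Nat.card (Im Γ A) = 160 by omega] at hidv; norm_num at hidv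
      · rw [show Nat.card (Im Γ A) = 80 by omega] at hidv; norm_num at hidv
      all_goals
        have h5 : 5 ∣ Nat.card (St Γ A) := by rw [card_St, e]; omega
        obtain ⟨y, hy⟩ := exists_prime_orderOf_dvd_card' 5 h5
        have := five_W hd Γ hA (y := y.1.1) (by rw [orderOf_coe, orderOf_coe]; exact hy) y.1.2 y.2
        omega
  obtain ⟨B, hB⟩ : (U \ orbit Γ.H A).Nonempty := Set.nonempty_of_ncard_ne_zero (by
    have := Set.ncard_le_ncard (hsub A hA)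
    omega)
  have hdis : orbit Γ.H B ⊆ U \ orbit Γ.H A := fun x hx =>
    ⟨hsub B hB.1 hx, fun hxA => hB.2 (by
      rw [← orbit_eq_iff.2 hxA, orbit_eq_iff.2 hx]; exact mem_orbit_self B)⟩
  have hle := Set.ncard_le_ncard hdis
  have hcover : (orbit Γ.H A).ncard + (orbit Γ.H B).ncard = 252 →
      ∀ C, C ≠ Γ.base → C ∈ orbit Γ.H A ∨ C ∈ orbit Γ.H B := by
    intro he C hC
    by_cases h : C ∈ orbit Γ.H A
    · exact Or.inl h
    · exact Or.inr ((Set.eq_of_subset_of_ncard_le hdis (by omega)).symm ▸ (⟨hC, h⟩ : C ∈ U \ orbit Γ.H A))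
  have hsB := hsize B hB.1
  rcases cases hd Γ hA with ha | ha | ha
  · rcases cases hd Γ hB.1 with hb | hb | hb
    · exfalso
      obtain ⟨C, hC⟩ : ((U \ orbit Γ.H A) \ orbit Γ.H B).Nonempty := Set.nonempty_of_ncard_ne_zero (by
        rw [Set.ncard_sdiff hdis, hr, ← Nat.card_coe_set_eq, ← Nat.card_coe_set_eq, ha.1, hb.1]; omega)
      have hCsub : orbit Γ.H C ⊆ (U \ orbit Γ.H A) \ orbit Γ.H B := fun x hx =>
        ⟨⟨hsub C hC.1.1 hx, fun hxA => hC.1.2 (by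
            rw [← orbit_eq_iff.2 hxA, orbit_eq_iff.2 hx]; exact mem_orbit_self C)⟩,
          fun hxB => hC.2 (by rw [← orbit_eq_iff.2 hxB, orbit_eq_iff.2 hx]; exact mem_orbit_self C)⟩
      have h := Set.ncard_le_ncard hCsub
      rw [Set.ncard_sdiff hdis, hr, ← Nat.card_coe_set_eq (orbit Γ.H A),
        ← Nat.card_coe_set_eq (orbit Γ.H B), ha.1, hb.1] at h
      have := hsize C hC.1.1
      omega
    · exact ⟨A, B, ha, hb, hA, hB.1, hcover (by
        rw [← Nat.card_coe_set_eq, ← Nat.card_coe_set_eq, ha.1, hb.1])⟩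
    · exfalso; rw [← Nat.card_coe_set_eq, ← Nat.card_coe_set_eq] at *; omega
  · rcases cases hd Γ hB.1 with hb | hb | hb
    · refine ⟨B, A, hb, ha, hB.1, hA, fun C hC => (hcover ?_ C hC).symm⟩
      rw [← Nat.card_coe_set_eq, ← Nat.card_coe_set_eq, ha.1, hb.1]
    · exfalso; rw [← Nat.card_coe_set_eq, ← Nat.card_coe_set_eq] at *; omega
    · exfalso; rw [← Nat.card_coe_set_eq, ← Nat.card_coe_set_eq] at *; omega
  · exfalso; rw [← Nat.card_coe_set_eq, ← Nat.card_coe_set_eq] at *; omega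

end Cfsg.Agent.M23Nse48.Orbits
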