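import Cfsg.Agent.M23Nse48.ValuesFix

/-!
# The numbers of elements of each order of M₂₃
-/

set_option autoImplicit false

namespace Cfsg.Agent.M23Nse48

open Cfsg Cfsg.Agent.Golay Finset

namespace Vals

/-- The elements of M₂₃ of an order. -/
noncomputable def Ord (n : ℕ) : Finset (Equiv.Perm GolayPt) := by
  classical
  exact univ.filter fun g => g ∈ Spor.M23 ∧ orderOf g = n

theorem mem_Ord {n : ℕ} {g : Equiv.Perm GolayPt} :
    g ∈ Ord n ↔ g ∈ Spor.M23 ∧ orderOf g = n := by
  simp [Ord]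

theorem card_ord (n : ℕ) : Nat.card {g : Spor.M23 // orderOf g = n} = (Ord n).card := by
  classical
  rw [← Nat.card_eq_finsetCard]
  refine Nat.card_congr ((Equiv.subtypeEquivRight fun g => ?_).trans
    ((Equiv.subtypeSubtypeEquivSubtypeInter (fun g => g ∈ Spor.M23)
      fun g : Equiv.Perm GolayPt => orderOf g = n).trans
      (Equiv.subtypeEquivRight fun g => mem_Ord.symm)))
  rw [Subgroup.orderOf_coe]

theorem card_fiber (n : ℕ) {p : GolayPt} (hp : p ≠ none) :
    ((Ord n).filter fun g => g p = p).card = M22Nse38.val n := by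
  classical
  obtain ⟨k, hk, hkp⟩ := exists_map_zero p hp
  rw [← M22Nse38.card_El]
  have hk' : k⁻¹ p = some 0 := by rw [Equiv.Perm.coe_inv, Equiv.symm_apply_eq, hkp]
  refine card_nbij' (fun g => k⁻¹ * g * k) (fun g => k * g * k⁻¹) (fun g hg => ?_) (fun g hg => ?_)
    (fun g _ => by group) (fun g _ => by group)
  · simp only [coe_filter, Set.mem_setOf_eq, mem_Ord, SetLike.mem_coe] at hg
    obtain ⟨⟨hM, ho⟩, hfix⟩ := hg
    rw [SetLike.mem_coe, M22Nse38.mem_El]
    have hM' : k⁻¹ * g * k ∈ Spor.M23 := mul_mem (mul_mem (inv_mem hk) hM) hk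
    refine ⟨⟨hM', ?_⟩, ?_⟩
    · show (k⁻¹ * g * k) (some 0) = some 0
      rw [Equiv.Perm.mul_apply, Equiv.Perm.mul_apply, hkp, hfix, hk']
    · rw [← ho]
      simpa using orderOf_injective (MulAut.conj k⁻¹).toMonoidHom (MulAut.conj k⁻¹).injective g
  · simp only [SetLike.mem_coe, M22Nse38.mem_El] at hg
    obtain ⟨⟨hM, h0⟩, ho⟩ := hg
    simp only [coe_filter, Set.mem_setOf_eq, mem_Ord]
    refine ⟨⟨mul_mem (mul_mem hk hM) (inv_mem hk), ?_⟩, ?_⟩
    · rw [← ho]
      simpa using orderOf_injective (MulAut.conj k).toMonoidHom (MulAut.conj k).injective g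
    · rw [Equiv.Perm.mul_apply, Equiv.Perm.mul_apply, hk']
      change g (some 0) = some 0 at h0
      rw [h0, hkp]

theorem count_fixed (n : ℕ) : 23 * M22Nse38.val n ≤ (Ord n).card * fix23 n := by
  classical
  have h : ∑ g ∈ Ord n, ((fixedPts g).erase none).card =
      ∑ p ∈ univ.erase (none : GolayPt), ((Ord n).filter fun g => g p = p).card := by
    simp only [card_filter]
    rw [Finset.sum_comm]
    refine sum_congr rfl fun g _ => ?_
    rw [← card_filter]
    congr 1
    ext p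
    simp
  rw [sum_congr rfl fun p hp => card_fiber n (ne_of_mem_erase hp), sum_const,
    card_erase_of_mem (mem_univ _), card_univ, card_golayPt, smul_eq_mul] at h
  rw [show (24 : ℕ) - 1 = 23 from rfl] at h
  rw [← h]
  refine (sum_le_card_nsmul _ _ (fix23 n) fun g hg => ?_).trans_eq (smul_eq_mul ..)
  obtain ⟨hM, ho⟩ := mem_Ord.1 hg
  exact ho ▸ fix23_le hM

def t14 : List ℕ :=
  [7, 15, 5, 22, 13, 17, 0, 8, 20, 11, 16, 6, 2, 19, 18, 10, 12, 3, 14, 1, 9, 4, 21, 23]

def t15 : List ℕ :=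
  [1, 14, 21, 17, 0, 12, 15, 13, 20, 16, 22, 3, 6, 4, 19, 7, 10, 11, 9, 2, 5, 8, 18, 23]

/-- A table of an element of order `p * q` of M₂₃. -/
def checkPQ (p q : ℕ) (l : List ℕ) : Bool :=
  isPermTab l && checkAut l && (l.getD 23 0 == 23) && (powTab l (p * q) == idTab) &&
    !(powTab l p == idTab) && !(powTab l q == idTab)

theorem check_facts : checkPQ 2 7 t14 = true ∧ checkPQ 3 5 t15 = true := by decide +kernel

theorem checkPQ_sound {p q : ℕ} (hp : p.Prime) (hq : q.Prime) {l : List ℕ}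
    (h : checkPQ p q l = true) : ∃ g ∈ Spor.M23, orderOf g = p * q := by
  simp only [checkPQ, Bool.and_eq_true, beq_iff_eq, Bool.not_eq_true', beq_eq_false_iff_ne] at h
  obtain ⟨⟨⟨⟨⟨h1, h2⟩, h3⟩, h4⟩, h5⟩, h6⟩ := h
  have t := tab_permOf h1
  refine ⟨_, ⟨t.mem_M24 h2, ?_⟩, ?_⟩
  · show permOf l h1 none = none
    rw [t.apply, show idx none = 23 from rfl, h3]
    rfl
  · have hd : orderOf (permOf l h1) ∣ p * q :=
      orderOf_dvd_of_pow_eq_one (tab_unique (h4 ▸ t.pow (p * q)) tab_one)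
    have key : ∀ m, powTab l m ≠ idTab → ¬ orderOf (permOf l h1) ∣ m := by
      intro m hm hdm
      apply hm
      have t1 := t.pow m
      rw [orderOf_dvd_iff_pow_eq_one.1 hdm] at t1
      have hl : (powTab l m).length = 24 := by cases m <;> simp [powTab, comp, idTab]
      refine List.ext_getElem (by simp [hl, idTab]) fun i hi _ => ?_
      have hi24 : i < 24 := hl ▸ hi
      rw [← List.getD_eq_getElem _ 0 hi, ← List.getD_eq_getElem _ 0, ← t1 i hi24, tab_one i hi24]
    obtain ⟨a, b, ha, hb, hab⟩ := (Nat.dvd_mul).1 hd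
    rcases (Nat.dvd_prime hp).1 ha with rfl | rfl
    · exact absurd (hab.symm ▸ (by simpa using hb)) (key q h6)
    · rcases (Nat.dvd_prime hq).1 hb with rfl | rfl
      · exact absurd (hab ▸ by simp) (key a h5)
      · exact hab.symm

/-- Every element of order `p` has a commuting element of order `q`. -/
theorem exists_commute {p q : ℕ} [Fact p.Prime] (hp2 : ¬ p ^ 2 ∣ 10200960)
    (hex : ∃ g ∈ Spor.M23, orderOf g = p * q) (hq : q ≠ 0)
    {y : Equiv.Perm GolayPt} (hy : y ∈ Spor.M23) (hyo : orderOf y = p) :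
    ∃ c ∈ Spor.M23, orderOf c = q ∧ Commute y c := by
  obtain ⟨g, hg, hgo⟩ := hex
  have hp0 : p ≠ 0 := (Fact.out : p.Prime).ne_zero
  have hp2' : ¬ p ^ 2 ∣ Nat.card ↥Spor.M23 := by rwa [card_M23]
  let g' : ↥Spor.M23 := ⟨g, hg⟩
  let y' : ↥Spor.M23 := ⟨y, hy⟩
  have hgo' : orderOf g' = p * q := by rw [← hgo, Subgroup.orderOf_mk]
  have hzq : orderOf (g' ^ q) = p := by
    rw [orderOf_pow' _ hq, hgo', Nat.gcd_mul_left_left, Nat.mul_div_cancel _ (Nat.pos_of_ne_zero hq)]
  obtain ⟨Q, hQ⟩ := zpowers_sylow hp2' (y := g' ^ q) hzq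
  obtain ⟨R, hR⟩ := zpowers_sylow hp2' (y := y') (by rw [Subgroup.orderOf_mk, hyo])
  obtain ⟨a, ha⟩ := MulAction.exists_smul_eq ↥Spor.M23 Q R
  have hmem : y' ∈ (R : Subgroup ↥Spor.M23) := hR ▸ Subgroup.mem_zpowers _
  rw [← ha, Sylow.coe_subgroup_smul, hQ, Subgroup.mem_pointwise_smul_iff_inv_smul_mem,
    ← map_inv, MulAut.smul_def, MulAut.conj_apply, inv_inv, Subgroup.mem_zpowers_iff] at hmem
  obtain ⟨k, hk⟩ := hmem
  have hc : Commute y' (a * g' ^ p * a⁻¹) := by
    have e : y' = a * (g' ^ q) ^ k * a⁻¹ := by rw [hk]; simp [mul_assoc]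
    rw [e]
    exact ((((Commute.refl g').pow_left q).zpow_left k).pow_right p).map (MulAut.conj a).toMonoidHom
  refine ⟨(a * g' ^ p * a⁻¹ : ↥Spor.M23).1, (a * g' ^ p * a⁻¹ : ↥Spor.M23).2, ?_, congrArg Subtype.val hc.eq⟩
  rw [Subgroup.orderOf_coe]
  have e : orderOf (a * g' ^ p * a⁻¹) = orderOf (g' ^ p) := by
    simpa using orderOf_injective (MulAut.conj a).toMonoidHom (MulAut.conj a).injective (g' ^ p)
  rw [e, orderOf_pow' _ hp0, hgo', Nat.gcd_mul_right_left,
    Nat.mul_div_cancel_left _ (Nat.pos_of_ne_zero hp0)]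

theorem bound_fourteen : (Ord 7).card ≤ (Ord 14).card := by
  classical
  have : Fact (Nat.Prime 7) := ⟨by norm_num⟩
  have hc : ∀ y, ∃ c, y ∈ Ord 7 → c ∈ Spor.M23 ∧ orderOf c = 2 ∧ Commute y c := by
    intro y
    by_cases hy : y ∈ Ord 7
    · obtain ⟨hyM, hyo⟩ := mem_Ord.1 hy
      obtain ⟨c, hc⟩ := exists_commute (p := 7) (q := 2) (by norm_num)
        (by simpa [mul_comm] using checkPQ_sound Nat.prime_two (by norm_num) check_facts.1)
        (by norm_num) hyM hyo
      exact ⟨c, fun _ => hc⟩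
    · exact ⟨1, fun h => absurd h hy⟩
  choose c hc using hc
  refine card_le_card_of_injOn (fun y => y * c y) (fun y hy => ?_) (fun y hy y' hy' e => ?_)
  · obtain ⟨hyM, hyo⟩ := mem_Ord.1 hy
    obtain ⟨hcM, hco, hcom⟩ := hc y hy
    rw [SetLike.mem_coe, mem_Ord]
    refine ⟨mul_mem hyM hcM, ?_⟩
    rw [hcom.orderOf_mul_eq_mul_orderOf_of_coprime (by rw [hyo, hco]; norm_num), hyo, hco]
  · have key : ∀ z ∈ Ord 7, (z * c z) ^ 8 = z := fun z hz => by
      obtain ⟨-, hzo⟩ := mem_Ord.1 hz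
      obtain ⟨-, hco, hcom⟩ := hc z hz
      rw [hcom.mul_pow, ← pow_mod_orderOf, hzo, ← pow_mod_orderOf (c z), hco]
      simp
    rw [← key y hy, ← key y' hy']
    exact congrArg (· ^ 8) e

theorem bound_fifteen : 2 * (Ord 5).card ≤ (Ord 15).card := by
  classical
  have : Fact (Nat.Prime 5) := ⟨by norm_num⟩
  have hc : ∀ y, ∃ c, y ∈ Ord 5 → c ∈ Spor.M23 ∧ orderOf c = 3 ∧ Commute y c := by
    intro y
    by_cases hy : y ∈ Ord 5
    · obtain ⟨hyM, hyo⟩ := mem_Ord.1 hy
      obtain ⟨c, hc⟩ := exists_commute (p := 5) (q := 3) (by norm_num)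
        (by simpa [mul_comm] using checkPQ_sound Nat.prime_three (by norm_num) check_facts.2)
        (by norm_num) hyM hyo
      exact ⟨c, fun _ => hc⟩
    · exact ⟨1, fun h => absurd h hy⟩
  choose c hc using hc
  let e : Fin 2 → ℕ := fun i => i.val + 1
  have main : ((Ord 5) ×ˢ (univ : Finset (Fin 2))).card ≤ (Ord 15).card := by
    refine card_le_card_of_injOn (fun x => x.1 * c x.1 ^ e x.2) (fun x hx => ?_)
      (fun x hx x' hx' h => ?_)
    · simp only [coe_product, Set.mem_prod, SetLike.mem_coe] at hx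
      obtain ⟨hyM, hyo⟩ := mem_Ord.1 hx.1
      obtain ⟨hcM, hco, hcom⟩ := hc x.1 hx.1
      rw [SetLike.mem_coe, mem_Ord]
      refine ⟨mul_mem hyM (pow_mem hcM _), ?_⟩
      have h3 : orderOf (c x.1 ^ e x.2) = 3 := by
        rw [orderOf_pow' _ (by simp [e]), hco]
        rcases x.2 with ⟨i, hi⟩
        interval_cases i <;> norm_num [e]
      rw [(hcom.pow_right _).orderOf_mul_eq_mul_orderOf_of_coprime (by rw [hyo, h3]; norm_num),
        hyo, h3]
    · simp only [coe_product, Set.mem_prod, SetLike.mem_coe] at hx hx'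
      have key : ∀ z ∈ Ord 5, ∀ i, (z * c z ^ i) ^ 6 = z ∧ (z * c z ^ i) ^ 10 = c z ^ i := by
        intro z hz i
        obtain ⟨-, hzo⟩ := mem_Ord.1 hz
        obtain ⟨-, hco, hcom⟩ := hc z hz
        rw [(hcom.pow_right i).mul_pow, (hcom.pow_right i).mul_pow, ← pow_mul, ← pow_mul,
          ← pow_mod_orderOf z 6, ← pow_mod_orderOf z 10, hzo, ← pow_mod_orderOf (c z) (i * 6),
          ← pow_mod_orderOf (c z) (i * 10), hco, ← pow_mod_orderOf (c z) i, hco]
        have : i * 6 % 3 = 0 ∧ i * 10 % 3 = i % 3 := by omega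
        simp [this.1, this.2]
      simp only at h
      have e1 : x.1 = x'.1 := by
        rw [← (key _ hx.1 (e x.2)).1, ← (key _ hx'.1 (e x'.2)).1, h]
      have e2 : c x.1 ^ e x.2 = c x'.1 ^ e x'.2 := by
        rw [← (key _ hx.1 (e x.2)).2, ← (key _ hx'.1 (e x'.2)).2, h]
      rw [← e1, pow_inj_mod, (hc x.1 hx.1).2.1] at e2
      refine Prod.ext e1 (Fin.ext ?_)
      have := x.2.isLt
      have := x'.2.isLt
      simp only [e] at e2
      omega
  rwa [card_product, card_univ, Fintype.card_fin, mul_comm] at main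

theorem bound_twentythree : 887040 ≤ (Ord 23).card := by
  classical
  have : Fact (Nat.Prime 23) := ⟨by norm_num⟩
  have hs23 : shift ∈ Spor.M23 := ⟨shift_mem, rfl⟩
  let x : ↥Spor.M23 := ⟨shift, hs23⟩
  have hxo : orderOf x = 23 := by rw [Subgroup.orderOf_mk]; exact orderOf_gens.1
  set P := Subgroup.zpowers x with hP
  have hcP : Nat.card P = 23 := by rw [Nat.card_zpowers, hxo]
  have horb : ∀ p : GolayPt, p ≠ none → ∃ k : ℕ, (shift ^ k) (some 0) = p := by
    intro p hp
    match p, hp with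
    | some j, _ =>
      refine ⟨j.val, ?_⟩
      have : ∀ i : ℕ, (shift ^ i) (some 0) = some (i : ZMod 23) := by
        intro i
        induction i with
        | zero => simp
        | succ i ih => rw [pow_succ', Equiv.Perm.mul_apply, ih]; simp [shift, add_comm]
      rw [this]
      exact congrArg some (Fin.cast_val_eq_self j)
  have hC : Subgroup.centralizer (P : Set ↥Spor.M23) ≤ P := by
    intro g hg
    have hcom : Commute shift g.1 :=
      congrArg Subtype.val (Subgroup.mem_centralizer_iff.1 hg x (Subgroup.mem_zpowers x))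
    have h0 : g.1 (some 0) ≠ none := fun h => by
      have := g.1.injective (h.trans g.2.2.symm)
      exact Option.some_ne_none _ this
    obtain ⟨k, hk⟩ := horb _ h0
    suffices g = x ^ k by rw [this]; exact pow_mem (Subgroup.mem_zpowers x) k
    refine Subtype.ext (Equiv.ext fun p => ?_)
    show g.1 p = (shift ^ k) p
    by_cases hp : p = none
    · subst hp
      have h2 : g.1 none = none := g.2.2
      rw [h2]
      exact ((mem_fixedPts.1 (fixedPts_subset_pow shift k (mem_fixedPts.2 rfl)))).symm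
    · obtain ⟨i, rfl⟩ := horb p hp
      rw [← Equiv.Perm.mul_apply, ← (hcom.pow_left i).eq, Equiv.Perm.mul_apply, ← hk,
        ← Equiv.Perm.mul_apply, ← Equiv.Perm.mul_apply, ← pow_add, ← pow_add, add_comm]
  -- the normaliser modulo the centraliser acts faithfully
  set N := Subgroup.normalizer (P : Set ↥Spor.M23) with hN
  have hdvd : Nat.card N ∣ 23 * 22 := by
    let φ := P.normalizerMonoidHom
    have h1 : φ.ker.index ∣ 22 := by
      rw [Subgroup.index_ker]
      have := Subgroup.card_subgroup_dvd_card φ.range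
      rwa [IsCyclic.card_mulAut, hcP, Nat.totient_prime (Fact.out)] at this
    have h2 : Nat.card φ.ker ∣ 23 := by
      rw [← hcP, Subgroup.normalizerMonoidHom_ker]
      refine (Subgroup.card_comap_dvd_of_injective _ _ N.subtype_injective).trans ?_
      exact Subgroup.card_dvd_of_le hC
    rw [← φ.ker.card_mul_index]
    exact mul_dvd_mul h2 h1
  have h23 : 23 ∣ Nat.card N := hcP ▸ Subgroup.card_dvd_of_le Subgroup.le_normalizer
  obtain ⟨Q, hQ⟩ := zpowers_sylow (p := 23) (G := ↥Spor.M23) (by rw [card_M23]; norm_num) hxo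
  have hn := card_sylow_modEq_one 23 ↥Spor.M23
  rw [Sylow.card_eq_index_normalizer Q] at hn
  rw [show (Q : Set ↥Spor.M23) = (P : Set ↥Spor.M23) from congrArg SetLike.coe hQ, ← hN] at hn
  have hmul := N.card_mul_index
  rw [card_M23] at hmul
  obtain ⟨d, hd⟩ := h23
  have hd22 : d ∣ 22 := Nat.dvd_of_mul_dvd_mul_left (by norm_num) (hd ▸ hdvd)
  have hidx : d * N.index = 443520 := by
    rw [hd, mul_assoc] at hmul
    omega
  have hd11 : N.index = 40320 := by
    rw [Nat.ModEq] at hn
    have : d ≤ 22 := Nat.le_of_dvd (by norm_num) hd22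
    interval_cases d <;> omega
  -- each conjugate of `P` has 22 generators
  let f : (↥Spor.M23 ⧸ N) × Fin 22 → Equiv.Perm GolayPt := fun z =>
    (z.1.out * x ^ (z.2.val + 1) * z.1.out⁻¹).1
  have hord : ∀ i : Fin 22, orderOf (x ^ (i.val + 1)) = 23 := fun i => by
    rw [Nat.Coprime.orderOf_pow, hxo]
    rw [hxo]
    exact Nat.coprime_of_lt_prime (by omega) (by omega) (Fact.out)
  have hinj : Function.Injective f := by
    rintro ⟨a, i⟩ ⟨b, j⟩ h
    have h' : a.out * x ^ (i.val + 1) * a.out⁻¹ = b.out * x ^ (j.val + 1) * b.out⁻¹ := Subtype.ext h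
    set r := b.out⁻¹ * a.out with hr
    have e : r * x ^ (i.val + 1) * r⁻¹ = x ^ (j.val + 1) := by
      rw [hr]
      calc b.out⁻¹ * a.out * x ^ (i.val + 1) * (b.out⁻¹ * a.out)⁻¹
          = b.out⁻¹ * (a.out * x ^ (i.val + 1) * a.out⁻¹) * b.out := by group
        _ = _ := by rw [h']; group
    have gen : ∀ k : Fin 22, Subgroup.zpowers (x ^ (k.val + 1)) = P := fun k =>
      Subgroup.eq_of_le_of_card_ge (Subgroup.zpowers_le.2 (pow_mem (Subgroup.mem_zpowers x) _))
        (by rw [hcP, Nat.card_zpowers, hord])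
    have hrN : r ∈ N := by
      refine Subgroup.mem_normalizer_iff.2 ?_
      have hmap : P.map (MulAut.conj r).toMonoidHom = P := by
        conv_lhs => rw [← gen i, MonoidHom.map_zpowers]
        simp [e, gen j]
      intro k
      conv_rhs => rw [← hmap]
      rw [Subgroup.mem_map_equiv]
      simp [MulAut.conj_symm_apply, mul_assoc]
    have hab : a = b := by
      rw [← QuotientGroup.out_eq' a, ← QuotientGroup.out_eq' b, QuotientGroup.eq]
      have : a.out⁻¹ * b.out = r⁻¹ := by rw [hr]; group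
      rw [this]
      exact inv_mem hrN
    subst hab
    have hr1 : r = 1 := by rw [hr]; group
    rw [hr1, one_mul, inv_one, mul_one, pow_inj_mod, hxo] at e
    refine Prod.ext rfl (Fin.ext ?_)
    show i.val = j.val
    omega
  have hle := card_le_card_of_injOn (s := (univ : Finset ((↥Spor.M23 ⧸ N) × Fin 22))) (t := Ord 23) f
    (fun z _ => by
      rw [SetLike.mem_coe, mem_Ord]
      refine ⟨Subtype.coe_prop _, ?_⟩
      rw [Subgroup.orderOf_coe, ← hord z.2]
      simpa using orderOf_injective (MulAut.conj z.1.out).toMonoidHom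
        (MulAut.conj z.1.out).injective (x ^ (z.2.val + 1))) hinj.injOn
  rw [card_univ, Fintype.card_prod, Fintype.card_fin, ← Nat.card_eq_fintype_card,
    ← Subgroup.index_eq_card, hd11] at hle
  exact hle

/-- The orders and their counts. -/
def table : List (ℕ × ℕ) :=
  [(1, 1), (2, 3795), (3, 56672), (4, 318780), (5, 680064), (6, 850080), (7, 1457280),
    (8, 1275120), (11, 1854720), (14, 1457280), (15, 1360128), (23, 887040)]

theorem val_facts : M22Nse38.val 2 = 1155 ∧ M22Nse38.val 3 = 12320 ∧ M22Nse38.val 4 = 41580 ∧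
    M22Nse38.val 5 = 88704 ∧ M22Nse38.val 6 = 36960 ∧ M22Nse38.val 7 = 126720 ∧
    M22Nse38.val 8 = 55440 ∧ M22Nse38.val 11 = 80640 := by
  decide +kernel

theorem exact_table :
    (Ord 1).card = 1 ∧ (Ord 2).card = 3795 ∧ (Ord 3).card = 56672 ∧ (Ord 4).card = 318780 ∧
    (Ord 5).card = 680064 ∧ (Ord 6).card = 850080 ∧ (Ord 7).card = 1457280 ∧
    (Ord 8).card = 1275120 ∧ (Ord 11).card = 1854720 ∧ (Ord 14).card = 1457280 ∧
    (Ord 15).card = 1360128 ∧ (Ord 23).card = 887040 ∧
    ∀ n, n ∉ table.map Prod.fst → (Ord n).card = 0 := by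
  classical
  have h1 : 1 ≤ (Ord 1).card := card_pos.2 ⟨1, mem_Ord.2 ⟨one_mem _, orderOf_one⟩⟩
  obtain ⟨v2, v3, v4, v5, v6, v7, v8, v11⟩ := val_facts
  have c2 := count_fixed 2
  have c3 := count_fixed 3
  have c4 := count_fixed 4
  have c5 := count_fixed 5
  have c6 := count_fixed 6
  have c7 := count_fixed 7
  have c8 := count_fixed 8
  have c11 := count_fixed 11
  simp only [fix23] at c2 c3 c4 c5 c6 c7 c8 c11
  rw [v2] at c2; rw [v3] at c3; rw [v4] at c4; rw [v5] at c5
  rw [v6] at c6; rw [v7] at c7; rw [v8] at c8; rw [v11] at c11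
  have b14 := bound_fourteen
  have b15 := bound_fifteen
  have b23 := bound_twentythree
  have tot : ∀ s : Finset ℕ, ∑ n ∈ s, (Ord n).card ≤ 10200960 := by
    intro s
    rw [← card_biUnion (fun a _ b _ hab => disjoint_left.2 fun g ga gb =>
      hab ((mem_Ord.1 ga).2.symm.trans (mem_Ord.1 gb).2))]
    refine (card_le_card (t := univ.filter fun g => g ∈ Spor.M23) fun g hg => ?_).trans_eq ?_
    · obtain ⟨n, -, hn⟩ := mem_biUnion.1 hg
      exact mem_filter.2 ⟨mem_univ _, (mem_Ord.1 hn).1⟩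
    · rw [← card_M23, ← Nat.card_eq_finsetCard]
      exact Nat.card_congr (Equiv.subtypeEquivRight fun g => by simp)
  have t12 := tot (table.map Prod.fst).toFinset
  rw [List.sum_toFinset _ (by decide)] at t12
  simp only [table, List.map_cons, List.map_nil, List.sum_cons, List.sum_nil] at t12
  refine ⟨by omega, by omega, by omega, by omega, by omega, by omega, by omega, by omega, by omega,
    by omega, by omega, by omega, fun n hn => ?_⟩
  have tn := tot (insert n (table.map Prod.fst).toFinset)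
  rw [sum_insert (by simpa using hn), List.sum_toFinset _ (by decide)] at tn
  simp only [table, List.map_cons, List.map_nil, List.sum_cons, List.sum_nil] at tn
  omega

end Vals

open Vals in
/-- The values for M₂₃. -/
theorem values_M23 : {c : ℕ | 0 < c ∧ ∃ n : ℕ, c = Nat.card {g : ↥Cfsg.Spor.M23 // orderOf g = n}} =
    {c | c ∈ ([1, 3795, 56672, 318780, 680064, 850080, 1457280, 1275120, 1854720, 1360128,
      887040] : List ℕ)} := by
  obtain ⟨e1, e2, e3, e4, e5, e6, e7, e8, e11, e14, e15, e23, eo⟩ := exact_table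
  ext c
  simp only [Set.mem_setOf_eq, card_ord, List.mem_cons, List.not_mem_nil, or_false]
  constructor
  · rintro ⟨hc, n, rfl⟩
    by_cases hn : n ∈ table.map Prod.fst
    · simp only [table, List.map_cons, List.map_nil, List.mem_cons, List.not_mem_nil, or_false] at hn
      rcases hn with rfl | rfl | rfl | rfl | rfl | rfl | rfl | rfl | rfl | rfl | rfl | rfl <;>
        simp [*]
    · have := eo n hn
      omega
  · rintro (rfl | rfl | rfl | rfl | rfl | rfl | rfl | rfl | rfl | rfl | rfl)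
    exacts [⟨by norm_num, 1, e1.symm⟩, ⟨by norm_num, 2, e2.symm⟩, ⟨by norm_num, 3, e3.symm⟩,
      ⟨by norm_num, 4, e4.symm⟩, ⟨by norm_num, 5, e5.symm⟩, ⟨by norm_num, 6, e6.symm⟩,
      ⟨by norm_num, 7, e7.symm⟩, ⟨by norm_num, 8, e8.symm⟩, ⟨by norm_num, 11, e11.symm⟩,
      ⟨by norm_num, 15, e15.symm⟩, ⟨by norm_num, 23, e23.symm⟩]

end Cfsg.Agent.M23Nse48
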