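import Cfsg.Agent.M22Nse38.Values
import Cfsg.Agent.Lib.Golay.M23Generation

/-!
# Fixed points of the elements of M₂₃ that lie in a point stabiliser
-/

set_option autoImplicit false

namespace Cfsg.Agent.M23Nse48.Vals

open Cfsg Cfsg.Agent.Golay Finset
open scoped Pointwise

/-- The products below five points have order dividing six. -/
theorem five_six :
    ((reps24.getD 5 []).map fun a => (reps24.getD 6 []).all fun b =>
      powTab (comp ((evalSLP gens24 prog24).getD a.2 idTab) ((evalSLP gens24 prog24).getD b.2 idTab))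
        6 == idTab).all id = true := by
  decide +kernel

theorem pow_six_of_five {g : Equiv.Perm GolayPt} (hg : g ∈ Cfsg.M24) (h5 : 5 ≤ (fixedPts g).card) :
    g ^ 6 = 1 := by
  obtain ⟨s, hs, hsc⟩ := Finset.exists_subset_card_eq (s := fixedPts g) (n := 5) h5
  obtain ⟨a, ha, haj⟩ := exists_map_base
    (fun j => if h : j < 5 then ((s.equivFinOfCardEq hsc).symm ⟨j, h⟩ : GolayPt) else none) 5 le_rfl
    (fun j k hj hk hjk => by
      simp only [dif_pos hj, dif_pos hk, ← Subtype.ext_iff, EmbeddingLike.apply_eq_iff_eq,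
        Fin.mk.injEq] at hjk
      exact hjk)
  have hfix : a⁻¹ * g * a ∈ fixUpTo Cfsg.M24 5 := by
    refine mem_fixUpTo.2 ⟨Cfsg.M24.mul_mem (Cfsg.M24.mul_mem (Cfsg.M24.inv_mem ha) hg) ha,
      fun j hj => ?_⟩
    rw [Equiv.Perm.mul_apply, Equiv.Perm.mul_apply, haj j hj, dif_pos hj,
      mem_fixedPts.1 (hs (Finset.coe_mem _)), Equiv.Perm.coe_inv, Equiv.symm_apply_eq, haj j hj,
      dif_pos hj]
  have step : ∀ {i : ℕ} {h x : Equiv.Perm GolayPt}, h ∈ fixUpTo Cfsg.M24 i → x ∈ fixUpTo Cfsg.M24 i →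
      h (bp i) = x (bp i) → h⁻¹ * x ∈ fixUpTo Cfsg.M24 (i + 1) := by
    intro i h x hh hx e
    obtain ⟨m1, m2⟩ := mem_fixUpTo.1 hh
    obtain ⟨n1, n2⟩ := mem_fixUpTo.1 hx
    refine mem_fixUpTo.2 ⟨Cfsg.M24.mul_mem (Cfsg.M24.inv_mem m1) n1, fun j hj => ?_⟩
    rw [Equiv.Perm.mul_apply, Equiv.Perm.coe_inv, Equiv.symm_apply_eq]
    rcases Nat.lt_succ_iff_lt_or_eq.1 hj with hj | rfl
    · rw [n2 j hj, m2 j hj]
    · exact e.symm
  obtain ⟨k5, hk5, h5', hh5, t5, e5⟩ :=
    transversal_tab (Or.inl rfl) (orbit_subset (by norm_num) hfix)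
  have hg6 := step hh5 hfix (idx_injective e5)
  obtain ⟨k6, hk6, h6', hh6, t6, e6⟩ :=
    transversal_tab (Or.inr rfl) (orbit_subset (by norm_num) hg6)
  have hg7 := step hh6 hg6 (idx_injective e6)
  rw [fixUpTo_seven, Subgroup.mem_bot, inv_mul_eq_one, eq_inv_mul_iff_mul_eq] at hg7
  have hlev := five_six
  simp only [List.all_eq_true, List.mem_map, id_eq, forall_exists_index, and_imp,
    forall_apply_eq_imp_iff₂, beq_iff_eq] at hlev
  have ht : Tab (h5' * h6') _ := t5.mul t6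
  have e : (h5' * h6') ^ 6 = 1 := tab_unique ((hlev _ hk5 _ hk6) ▸ ht.pow 6) tab_one
  rw [hg7] at e
  have e2 : (a⁻¹ * g * a) ^ 6 = a⁻¹ * g ^ 6 * a := by
    have := conj_pow (i := 6) (a := a⁻¹) (b := g)
    rwa [inv_inv] at this
  rw [e2, mul_eq_one_iff_eq_inv, inv_mul_eq_iff_eq_mul, mul_inv_cancel] at e
  exact e

theorem fix_le_four {g : Equiv.Perm GolayPt} (hg : g ∈ Cfsg.M24) (ho : ¬ orderOf g ∣ 6) :
    (fixedPts g).card ≤ 4 := by
  by_contra h
  exact ho (orderOf_dvd_of_pow_eq_one (pow_six_of_five hg (by omega)))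

theorem even_fix {g : Equiv.Perm GolayPt} {k : ℕ} (ho : orderOf g = 2 ^ k) :
    (fixedPts g).card % 2 = 0 := by
  classical
  have : Fact (Nat.Prime 2) := ⟨Nat.prime_two⟩
  have h := Equiv.Perm.card_compl_support_modEq (p := 2) (n := k) (σ := g)
    (by rw [← ho]; exact pow_orderOf_eq_one g)
  rw [card_golayPt] at h
  have e : g.supportᶜ = fixedPts g := by ext; simp
  rw [e] at h
  exact h

/-- An element of order eight fixes at most three points. -/
theorem fix_le_three {g : Equiv.Perm GolayPt} (hg : g ∈ Cfsg.M24) (ho : orderOf g = 8) :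
    (fixedPts g).card ≤ 3 := by
  classical
  by_contra h
  obtain ⟨s, hs, hsc⟩ := Finset.exists_subset_card_eq (s := fixedPts g) (n := 4) (by omega)
  obtain ⟨a, ha, haj⟩ := exists_map_base
    (fun j => if h : j < 4 then ((s.equivFinOfCardEq hsc).symm ⟨j, h⟩ : GolayPt) else none) 4
    (by norm_num)
    (fun j k hj hk hjk => by
      simp only [dif_pos hj, dif_pos hk, ← Subtype.ext_iff, EmbeddingLike.apply_eq_iff_eq,
        Fin.mk.injEq] at hjk
      exact hjk)
  have hfix : ∀ j < 4, (a⁻¹ * g * a) (bp j) = bp j := by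
    intro j hj
    rw [Equiv.Perm.mul_apply, Equiv.Perm.mul_apply, haj j hj, dif_pos hj,
      mem_fixedPts.1 (hs (Finset.coe_mem _)), Equiv.Perm.coe_inv, Equiv.symm_apply_eq, haj j hj,
      dif_pos hj]
  have hM : a⁻¹ * g * a ∈ Spor.M22 := by
    rw [M22_eq, mem_fixUpTo]
    exact ⟨Cfsg.M24.mul_mem (Cfsg.M24.mul_mem (Cfsg.M24.inv_mem ha) hg) ha,
      fun j hj => hfix j (by omega)⟩
  have hord : orderOf (a⁻¹ * g * a) = 8 := by
    rw [← ho]
    simpa using orderOf_injective (MulAut.conj a⁻¹).toMonoidHom (MulAut.conj a⁻¹).injective g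
  obtain ⟨-, -, -, -, -, -, e1, e2, -⟩ := M22Nse38.rest_facts
  have h0 := M22Nse38.card_two (s := 0) (x := 1) (y := 2) (by norm_num) M22Nse38.pre_ok.1
    M22Nse38.ord0_ok 8
  rw [e1, e2, show M22Nse38.cnt 0 8 = 0 by decide +kernel, card_eq_zero,
    filter_eq_empty_iff] at h0
  exact h0 (M22Nse38.mem_El.2 ⟨hM, hord⟩) ⟨hfix 2 (by norm_num), hfix 3 (by norm_num)⟩

/-- An element of order six with a fixed point in M₂₃ fixes two of the 24 points. -/
theorem fix_six {g : Equiv.Perm GolayPt} (hg : g ∈ Spor.M23) (ho : orderOf g = 6) :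
    (fixedPts g).card = 2 := by
  have h2 : orderOf (g ^ 2) = 3 := by rw [orderOf_pow' _ (by norm_num : 2 ≠ 0), ho]; rfl
  have h3 : orderOf (g ^ 3) = 2 := by rw [orderOf_pow' _ (by norm_num : 3 ≠ 0), ho]; rfl
  have cA := card_fixedPts_three (pow_mem hg 2) h2
  have cB := card_fixedPts_two (pow_mem hg 3) h3
  have inv : ∀ i j : ℕ, ∀ q, (g ^ i) q ∈ fixedPts (g ^ j) ↔ q ∈ fixedPts (g ^ j) := by
    intro i j q
    simp only [mem_fixedPts]
    rw [← Equiv.Perm.mul_apply, ← pow_add, add_comm, pow_add, Equiv.Perm.mul_apply,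
      (g ^ i).injective.eq_iff]
  have hsub : ∀ i j : ℕ, i * j = 6 → (i = 2 ∧ j = 3 ∨ i = 3 ∧ j = 2) →
      ((fixedPts (g ^ i)).filter fun q => (g ^ j) q = q) = fixedPts g := by
    intro i j _ hij
    ext q
    simp only [mem_filter, mem_fixedPts]
    constructor
    · rintro ⟨hi, hj⟩
      obtain ⟨h2q, h3q⟩ : (g ^ 2) q = q ∧ (g ^ 3) q = q := by
        rcases hij with ⟨rfl, rfl⟩ | ⟨rfl, rfl⟩
        exacts [⟨hi, hj⟩, ⟨hj, hi⟩]
      have e : g ^ 3 = g * g ^ 2 := pow_succ' g 2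
      rw [e, Equiv.Perm.mul_apply, h2q] at h3q
      exact h3q
    · intro h
      exact ⟨mem_fixedPts.1 (fixedPts_subset_pow g i (mem_fixedPts.2 h)),
        mem_fixedPts.1 (fixedPts_subset_pow g j (mem_fixedPts.2 h))⟩
  have : Fact (Nat.Prime 2) := ⟨Nat.prime_two⟩
  have : Fact (Nat.Prime 3) := ⟨Nat.prime_three⟩
  have m1 := card_modEq_fixed (p := 2) (g := g ^ 3)
    (by rw [← pow_mul]; norm_num; rw [← ho, pow_orderOf_eq_one]) (S := fixedPts (g ^ 2)) (inv 3 2)
  have m2 := card_modEq_fixed (p := 3) (g := g ^ 2)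
    (by rw [← pow_mul]; norm_num; rw [← ho, pow_orderOf_eq_one]) (S := fixedPts (g ^ 3)) (inv 2 3)
  rw [cA, hsub 2 3 rfl (Or.inl ⟨rfl, rfl⟩), Nat.ModEq] at m1
  rw [cB, hsub 3 2 rfl (Or.inr ⟨rfl, rfl⟩), Nat.ModEq] at m2
  have hle : (fixedPts g).card ≤ 6 := cA ▸ card_le_card (fixedPts_subset_pow g 2)
  omega

/-- A bound for the number of fixed points among the 23. -/
def fix23 : ℕ → ℕ
  | 2 => 7
  | 3 => 5
  | 4 => 3
  | 5 => 3
  | 6 => 1
  | 7 => 2
  | 8 => 1
  | 11 => 1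
  | _ => 24

theorem fix23_le {g : Equiv.Perm GolayPt} (hg : g ∈ Spor.M23) :
    ((fixedPts g).erase none).card ≤ fix23 (orderOf g) := by
  have hn : none ∈ fixedPts g := mem_fixedPts.2 hg.2
  rw [card_erase_of_mem hn]
  have hle : (fixedPts g).card ≤ 24 := by
    rw [← card_golayPt]; exact card_le_univ _
  unfold fix23
  split
  next h => rw [card_fixedPts_two hg h]
  next h => rw [card_fixedPts_three hg h]
  next h =>
    have := fix_le_four hg.1 (by rw [h]; norm_num)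
    omega
  next h => rw [card_fixedPts_five hg.1 h]
  next h => rw [fix_six hg h]
  next h => rw [card_fixedPts_seven hg.1 h]
  next h =>
    have := fix_le_three hg.1 h
    have := even_fix (k := 3) h
    omega
  next h => rw [card_fixedPts_eleven hg.1 h]
  next => omega

end Cfsg.Agent.M23Nse48.Vals
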